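import Groth.Agent.H14IsoNat.SHCrit
import Mathlib.AlgebraicGeometry.Morphisms.FormallyUnramified
import Mathlib.AlgebraicGeometry.Morphisms.Smooth

/-!
# Smooth and unramified morphisms of schemes tested on strictly henselian local rings
-/

set_option autoImplicit false
set_option backward.isDefEq.respectTransparency.types false

universe u

open CategoryTheory AlgebraicGeometry Limits MvPolynomial

noncomputable section

namespace Groth.Agent.H14IsoNat.SHCrit

/-- The closed immersion of the quotient by an ideal. -/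
abbrev thick {R : Type u} [CommRing R] (I : Ideal R) :
    Spec (CommRingCat.of (R ⧸ I)) ⟶ Spec (CommRingCat.of R) :=
  Spec.map (CommRingCat.ofHom (Ideal.Quotient.mk I))

lemma range_subset_of_thick {R : Type u} [CommRing R] {I : Ideal R} (hI : I ^ 2 = ⊥) {W : Scheme.{u}}
    (h : Spec (CommRingCat.of R) ⟶ W) {V : W.Opens}
    (hV : ∀ x, (thick I ≫ h) x ∈ V) : Set.range h ⊆ (V : Set W) := by
  rintro _ ⟨x, rfl⟩
  obtain ⟨y, rfl⟩ := Groth.Agent.H8Props.FormallySmoothScheme.comap_mk_surjective hI x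
  exact hV y

theorem smooth_of_lifting {W Z : Scheme.{u}} (f : W ⟶ Z) [LocallyOfFinitePresentation f]
    (H : ∀ (R : Type u) [CommRing R] [HenselianLocalRing R]
      [IsSepClosed (IsLocalRing.ResidueField R)] (I : Ideal R), I ^ 2 = ⊥ →
      ∀ (a : Spec (CommRingCat.of (R ⧸ I)) ⟶ W) (b : Spec (CommRingCat.of R) ⟶ Z),
        thick I ≫ b = a ≫ f → ∃ h, thick I ≫ h = a ∧ h ≫ f = b) : Smooth f := by
  rw [HasRingHomProperty.iff_appLE (P := @Smooth)]
  intro U V e
  have hfp := HasRingHomProperty.appLE (P := @LocallyOfFinitePresentation) f inferInstance U V e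
  let B := Γ(Z, U.1)
  let A := Γ(W, V.1)
  algebraize [(f.appLE U.1 V.1 e).hom]
  refine RingHom.smooth_algebraMap.2 ⟨?_, inferInstance⟩
  obtain ⟨n, π, hπ, hfg⟩ := (inferInstance : Algebra.FinitePresentation B A).out
  obtain ⟨r, g, hg⟩ := Submodule.fg_iff_exists_fin_generating_family.1 hfg
  refine formallySmooth_of_lifts π hπ g hg.symm fun q hq => ?_
  let J := RingHom.ker π.toRingHom
  let Q := MvPolynomial (Fin n) B ⧸ J ^ 2
  obtain ⟨R, iR, iH, iS, iA, hflat, hqR⟩ := exists_sh Q q
  let I : Ideal R := (J.map (Ideal.Quotient.mk (J ^ 2))).map (algebraMap Q R)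
  let κ : MvPolynomial (Fin n) B →+* R := (algebraMap Q R).comp (Ideal.Quotient.mk (J ^ 2))
  have hI : I ^ 2 = ⊥ := by
    have h3 : (J ^ 2).map (Ideal.Quotient.mk (J ^ 2)) = ⊥ := Ideal.map_quotient_self _
    rw [Ideal.map_pow] at h3
    have h4 := congrArg (Ideal.map (algebraMap Q R)) h3
    rw [Ideal.map_pow, Ideal.map_bot] at h4
    exact h4
  have hJκ : J ≤ RingHom.ker ((Ideal.Quotient.mk I).comp κ) := fun x hx =>
    RingHom.mem_ker.2 (Ideal.Quotient.eq_zero_iff_mem.2
      (Ideal.mem_map_of_mem _ (Ideal.mem_map_of_mem _ hx)))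
  let α : A →+* R ⧸ I := RingHom.liftOfSurjective π.toRingHom hπ ⟨(Ideal.Quotient.mk I).comp κ, hJκ⟩
  have hα : ∀ x, α (π x) = Ideal.Quotient.mk I (κ x) := fun x =>
    RingHom.liftOfRightInverse_comp_apply _ _ (Function.rightInverse_surjInv hπ)
      ⟨(Ideal.Quotient.mk I).comp κ, hJκ⟩ x
  let β : B →+* R := κ.comp C
  let a := Spec.map (CommRingCat.ofHom α) ≫ V.2.fromSpec
  let b := Spec.map (CommRingCat.ofHom β) ≫ U.2.fromSpec
  obtain ⟨h, hh, hhf⟩ := H R I hI a b (by
    simp only [a, b, thick, Category.assoc, ← IsAffineOpen.SpecMap_appLE_fromSpec f U.2 V.2 e]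
    rw [← Category.assoc, ← Category.assoc, ← Spec.map_comp, ← Spec.map_comp]
    congr 2
    refine CommRingCat.hom_ext (RingHom.ext fun x => ?_)
    change Ideal.Quotient.mk I (κ (C x)) = α (algebraMap B A x)
    rw [← π.commutes x, hα]
    rfl)
  have hr : Set.range h ⊆ Set.range V.2.fromSpec := by
    rw [V.2.range_fromSpec]
    refine range_subset_of_thick hI h fun x => ?_
    rw [hh]
    exact V.2.range_fromSpec.le ⟨_, rfl⟩
  obtain ⟨η, hη⟩ := Spec.map_surjective (IsOpenImmersion.lift V.2.fromSpec h hr)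
  have hη' : Spec.map η ≫ V.2.fromSpec = h := hη ▸ IsOpenImmersion.lift_fac _ _ _
  have h1 : η ≫ CommRingCat.ofHom (Ideal.Quotient.mk I) = CommRingCat.ofHom α :=
    Spec.map_injective (by rw [← cancel_mono V.2.fromSpec, Spec.map_comp, Category.assoc, hη']; exact hh)
  have h2 : CommRingCat.ofHom (algebraMap B A) ≫ η = CommRingCat.ofHom β :=
    Spec.map_injective (by
      rw [← cancel_mono U.2.fromSpec, Spec.map_comp, Category.assoc]
      refine (congrArg (Spec.map η ≫ ·) (IsAffineOpen.SpecMap_appLE_fromSpec f U.2 V.2 e)).trans ?_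
      rw [← Category.assoc, hη', hhf])
  refine ⟨R, iR, iA, η.hom, hflat, hqR, fun x => congr($(congrArg CommRingCat.Hom.hom h2) x),
    fun i => ?_⟩
  have h3 : Ideal.Quotient.mk I (η.hom (π (X i))) = α (π (X i)) :=
    congr($(congrArg CommRingCat.Hom.hom h1) (π (X i)))
  rw [hα] at h3
  exact Ideal.Quotient.eq.1 h3

theorem formallyUnramified_of_unique' {W Z : Scheme.{u}} (f : W ⟶ Z)
    (H : ∀ (R : Type u) [CommRing R] [HenselianLocalRing R]
      [IsSepClosed (IsLocalRing.ResidueField R)] (I : Ideal R), I ^ 2 = ⊥ →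
      ∀ (w w' : Spec (CommRingCat.of R) ⟶ W), thick I ≫ w = thick I ≫ w' → w ≫ f = w' ≫ f →
        w = w') : AlgebraicGeometry.FormallyUnramified f := by
  rw [HasRingHomProperty.iff_appLE (P := @AlgebraicGeometry.FormallyUnramified)]
  intro U V e
  algebraize [(f.appLE U.1 V.1 e).hom]
  refine formallyUnramified_of_unique fun R _ _ _ _ I hI g₁ g₂ hg => ?_
  have key := H R I hI (Spec.map (CommRingCat.ofHom g₁.toRingHom) ≫ V.2.fromSpec)
    (Spec.map (CommRingCat.ofHom g₂.toRingHom) ≫ V.2.fromSpec) (by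
      rw [← Category.assoc, ← Category.assoc, thick, ← Spec.map_comp, ← Spec.map_comp]
      congr 2
      exact CommRingCat.hom_ext (RingHom.ext fun x => Ideal.Quotient.eq.2 (hg x))) (by
      rw [Category.assoc, Category.assoc, ← IsAffineOpen.SpecMap_appLE_fromSpec f U.2 V.2 e,
        ← Category.assoc, ← Category.assoc, ← Spec.map_comp, ← Spec.map_comp]
      congr 2
      exact CommRingCat.hom_ext (RingHom.ext fun x => (g₁.commutes x).trans (g₂.commutes x).symm))
  rw [cancel_mono] at key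
  exact AlgHom.ext fun x => congr($(congrArg CommRingCat.Hom.hom (Spec.map_injective key)) x)

end Groth.Agent.H14IsoNat.SHCrit
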