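import Groth.Agent.H14AlgSt.Points
import Groth.Agent.H14AlgSt.Substack
import Groth.Agent.H14Stk.Local
import Groth.Prelude.Def_W4c2isonaturalstkIso

/-!
# An isomorphism of presheaves of isomorphism classes gives a homeomorphism on points
-/

set_option autoImplicit false
set_option backward.isDefEq.respectTransparency false
set_option backward.isDefEq.respectTransparency.types false

universe u

open CategoryTheory CategoryTheory.Functor AlgebraicGeometry Opposite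

namespace Groth.Agent.H14IsoNat

open H14Fib H14Stk H14AlgSt

variable {S : Scheme.{u}} {𝒳 𝒴 𝒳' 𝒴' : AlgSt.Cat S} (φ : IsoNat.FIso 𝒳 𝒴)

lemma fib_iso_of_cls_eq {T : Over S} {a b : 𝒳.p.Fiber T} (h : IsoNat.cls a = IsoNat.cls b) :
    ∃ e : a.1 ≅ b.1, 𝒳.p.IsHomLift (𝟙 T) e.hom := by
  obtain ⟨e⟩ := Quotient.exact h
  exact ⟨Fiber.fiberInclusion.mapIso e, e.hom.2⟩

lemma cls_eq_of_iso {T : Over S} {a b : 𝒳.p.Fiber T} (e : a.1 ≅ b.1)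
    (he : 𝒳.p.IsHomLift (𝟙 T) e.hom) : IsoNat.cls a = IsoNat.cls b :=
  Quotient.sound ⟨{ hom := ⟨e.hom, he⟩, inv := ⟨e.inv, IsHomLift.lift_id_inv 𝒳.p T e⟩,
                    hom_inv_id := Fiber.hom_ext e.hom_inv_id,
                    inv_hom_id := Fiber.hom_ext e.inv_hom_id }⟩

/-- Transport of a morphism along corresponding classes. -/
lemma exists_hom {T' T : Over S} (g : T' ⟶ T) {x' : 𝒳.p.Fiber T'} {x : 𝒳.p.Fiber T}
    (a : x'.1 ⟶ x.1) (ha : 𝒳.p.IsHomLift g a) {y' : 𝒴.p.Fiber T'} {y : 𝒴.p.Fiber T}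
    (hy' : φ.toEquiv T' (IsoNat.cls x') = IsoNat.cls y')
    (hy : φ.toEquiv T (IsoNat.cls x) = IsoNat.cls y) :
    ∃ b : y'.1 ⟶ y.1, 𝒴.p.IsHomLift g b := by
  obtain ⟨z', z, b, hb, h', h⟩ := φ.natural g x' x a ha
  obtain ⟨e', he'⟩ := fib_iso_of_cls_eq (hy'.symm.trans h')
  obtain ⟨e, he⟩ := fib_iso_of_cls_eq (h.symm.trans hy)
  exact ⟨e'.hom ≫ b ≫ e.hom, by
    simpa using homLift_comp' he' (homLift_comp' hb he)⟩

/-- The inverse isomorphism of presheaves. -/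
noncomputable def symm (h𝒳 : FibCat.IsFibGrpd 𝒳.p) (h𝒴 : FibCat.IsFibGrpd 𝒴.p) :
    IsoNat.FIso 𝒴 𝒳 where
  toEquiv T := (φ.toEquiv T).symm
  natural {T' T} g y' y b hb := by
    obtain ⟨x, hx⟩ := Quotient.exists_rep ((φ.toEquiv T).symm (IsoNat.cls y))
    obtain ⟨w, a, ha⟩ := h𝒳.exists_lift (x := x.1) (g ≫ eqToHom x.2.symm)
    have ha' : 𝒳.p.IsHomLift g a := by
      have := @IsHomLift.fac' _ _ _ _ 𝒳.p _ _ _ _ (g ≫ eqToHom x.2.symm) a ha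
      exact IsHomLift.of_fac' 𝒳.p g a (IsHomLift.domain_eq 𝒳.p (g ≫ eqToHom x.2.symm) a) x.2
        (by rw [this]; simp)
    let x' : 𝒳.p.Fiber T' := ⟨w, @IsHomLift.domain_eq _ _ _ _ 𝒳.p _ _ _ _ g a ha'⟩
    obtain ⟨z', z, c, hc, h', h⟩ := φ.natural g x' x a ha'
    have hy : IsoNat.cls z = IsoNat.cls y := by
      rw [← h]
      exact (congrArg (φ.toEquiv T) hx).trans ((φ.toEquiv T).apply_symm_apply _)
    obtain ⟨e, he⟩ := fib_iso_of_cls_eq hy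
    have hce : 𝒴.p.IsHomLift g (c ≫ e.hom) := by simpa using homLift_comp' hc he
    obtain ⟨i, hi, -⟩ := exists_vertIso h𝒴 g (c ≫ e.hom) b
    refine ⟨x', x, a, ha', ?_, hx.symm⟩
    rw [Equiv.symm_apply_eq, h']
    exact (cls_eq_of_iso i hi).symm

/-- The image of a field-valued point. -/
noncomputable def mapFPt (p : AlgSt.FPt 𝒳) : AlgSt.FPt 𝒴 :=
  let y := Quotient.out (φ.toEquiv (Over.mk p.str) (IsoNat.cls ⟨p.obj, p.lies⟩))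
  { K := p.K, str := p.str, obj := y.1, lies := y.2 }

lemma cls_mapFPt (p : AlgSt.FPt 𝒳) :
    φ.toEquiv (Over.mk p.str) (IsoNat.cls ⟨p.obj, p.lies⟩) =
      IsoNat.cls ⟨(mapFPt φ p).obj, (mapFPt φ p).lies⟩ :=
  (Quotient.out_eq _).symm

lemma nonempty_hom_mapFPt {r p : AlgSt.FPt 𝒳} (a : r.obj ⟶ p.obj) :
    Nonempty ((mapFPt φ r).obj ⟶ (mapFPt φ p).obj) :=
  let ⟨b, _⟩ := exists_hom φ (baseHom a) (x' := ⟨r.obj, r.lies⟩) (x := ⟨p.obj, p.lies⟩) a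
    (baseHom_lift a) (y' := ⟨_, (mapFPt φ r).lies⟩) (y := ⟨_, (mapFPt φ p).lies⟩)
    (cls_mapFPt φ r) (cls_mapFPt φ p)
  ⟨b⟩

/-- The map on points. -/
noncomputable def mapPoints : AlgSt.Points 𝒳 → AlgSt.Points 𝒴 :=
  Quot.lift (fun p => AlgSt.Points.mk (mapFPt φ p)) fun p q ⟨r, a, b, _⟩ =>
    let ⟨a'⟩ := nonempty_hom_mapFPt φ a
    let ⟨b'⟩ := nonempty_hom_mapFPt φ b
    (mk_eq_of_hom a').symm.trans (mk_eq_of_hom b')

lemma mapPoints_mk (p : AlgSt.FPt 𝒳) :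
    mapPoints φ (AlgSt.Points.mk p) = AlgSt.Points.mk (mapFPt φ p) := rfl

variable (h𝒳 : FibCat.IsFibGrpd 𝒳.p) (h𝒴 : FibCat.IsFibGrpd 𝒴.p)

lemma mapPoints_left_inv (q : AlgSt.Points 𝒳) :
    mapPoints (symm φ h𝒳 h𝒴) (mapPoints φ q) = q := by
  obtain ⟨p, rfl⟩ := AlgSt.Points.mk_surjective q
  have h : IsoNat.cls (⟨(mapFPt (symm φ h𝒳 h𝒴) (mapFPt φ p)).obj,
      (mapFPt (symm φ h𝒳 h𝒴) (mapFPt φ p)).lies⟩ : 𝒳.p.Fiber (Over.mk p.str)) =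
      IsoNat.cls ⟨p.obj, p.lies⟩ := by
    refine (cls_mapFPt (symm φ h𝒳 h𝒴) (mapFPt φ p)).symm.trans ?_
    exact (Equiv.symm_apply_eq _).2 (cls_mapFPt φ p).symm
  obtain ⟨e, -⟩ := fib_iso_of_cls_eq h
  exact mk_eq_of_hom e.hom

lemma mapPoints_right_inv (q : AlgSt.Points 𝒴) :
    mapPoints φ (mapPoints (symm φ h𝒳 h𝒴) q) = q := by
  obtain ⟨p, rfl⟩ := AlgSt.Points.mk_surjective q
  have h : IsoNat.cls (⟨(mapFPt φ (mapFPt (symm φ h𝒳 h𝒴) p)).obj,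
      (mapFPt φ (mapFPt (symm φ h𝒳 h𝒴) p)).lies⟩ : 𝒴.p.Fiber (Over.mk p.str)) =
      IsoNat.cls ⟨p.obj, p.lies⟩ := by
    refine (cls_mapFPt φ (mapFPt (symm φ h𝒳 h𝒴) p)).symm.trans ?_
    exact ((Equiv.symm_apply_eq _).1 (cls_mapFPt (symm φ h𝒳 h𝒴) p)).symm
  obtain ⟨e, -⟩ := fib_iso_of_cls_eq h
  exact mk_eq_of_hom e.hom

include h𝒳 h𝒴 in
lemma mapPoints_bijective : Function.Bijective (mapPoints φ) :=
  ⟨Function.LeftInverse.injective (mapPoints_left_inv φ h𝒳 h𝒴),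
    Function.RightInverse.surjective (mapPoints_right_inv φ h𝒳 h𝒴)⟩

include h𝒴 in
lemma exists_chart {U : Over S} (x : FibCat.overCat U ⥤ᵇ 𝒳) :
    ∃ y : FibCat.overCat U ⥤ᵇ 𝒴, ∀ t : U.left,
      mapPoints φ (AlgSt.Points.ofChart x t) = AlgSt.Points.ofChart y t := by
  obtain ⟨y₀, hy₀⟩ :=
    Quotient.exists_rep (φ.toEquiv U (IsoNat.cls ⟨x.obj (topObj U), x.w_obj _⟩))
  have := isFibered_of_fibGrpd h𝒴
  obtain ⟨y, i, -, hi⟩ := exists_fromOver (𝒳 := 𝒴) (x := y₀.1) y₀.2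
  refine ⟨y, fun t => ?_⟩
  let g : Over.mk (U.left.fromSpecResidueField t ≫ U.hom) ⟶ U :=
    Over.homMk (U.left.fromSpecResidueField t) rfl
  let s : (FibCat.overCat U).obj := Over.mk g
  let p : AlgSt.FPt 𝒳 :=
    ⟨U.left.residueField t, U.left.fromSpecResidueField t ≫ U.hom, x.obj s, x.w_obj s⟩
  have ha : 𝒳.p.IsHomLift g (x.map (toTop s)) :=
    @BasedFunctor.preserves_isHomLift _ _ _ _ x _ _ _ _ g (toTop s) (overCat_isHomLift (toTop s))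
  obtain ⟨b, hb⟩ := exists_hom φ g (x' := ⟨p.obj, p.lies⟩) (x := ⟨x.obj (topObj U), x.w_obj _⟩)
    (x.map (toTop s)) ha (y' := ⟨_, (mapFPt φ p).lies⟩) (y := y₀) (cls_mapFPt φ p) hy₀.symm
  have hl : 𝒴.p.IsHomLift g (y.map (toTop s)) :=
    @BasedFunctor.preserves_isHomLift _ _ _ _ y _ _ _ _ g (toTop s) (overCat_isHomLift (toTop s))
  have hl' : 𝒴.p.IsHomLift g (y.map (toTop s) ≫ i.hom) := by simpa using homLift_comp' hl hi
  obtain ⟨e, -, -⟩ := exists_vertIso h𝒴 g b (y.map (toTop s) ≫ i.hom)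
  exact mk_eq_of_hom (p := mapFPt φ p)
    (q := ⟨U.left.residueField t, U.left.fromSpecResidueField t ≫ U.hom, y.obj s, y.w_obj s⟩) e.hom

lemma continuous_mapPoints (h𝒴a : AlgSt.IsAlgStack Scheme.fppfPrecoverage 𝒴) :
    Continuous (mapPoints φ) := by
  refine ⟨fun O hO => ?_⟩
  rw [AlgSt.Points.isOpen_iff]
  intro U x _
  obtain ⟨y, hy⟩ := exists_chart φ h𝒴a.isStack.1 x
  have := (continuous_ofChart h𝒴a y).isOpen_preimage O hO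
  convert this using 1
  ext t
  simp [hy t]

/-- The homeomorphism on points. -/
noncomputable def pointsHomeo (h𝒳a : AlgSt.IsAlgStack Scheme.fppfPrecoverage 𝒳)
    (h𝒴a : AlgSt.IsAlgStack Scheme.fppfPrecoverage 𝒴) :
    AlgSt.Points 𝒳 ≃ₜ AlgSt.Points 𝒴 where
  toFun := mapPoints φ
  invFun := mapPoints (symm φ h𝒳a.isStack.1 h𝒴a.isStack.1)
  left_inv := mapPoints_left_inv φ _ _
  right_inv := mapPoints_right_inv φ _ _
  continuous_toFun := continuous_mapPoints φ h𝒴a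
  continuous_invFun := continuous_mapPoints _ h𝒳a

/-- The maps on points correspond. -/
lemma mapPoints_sq {f : 𝒳 ⥤ᵇ 𝒴} {f' : 𝒳' ⥤ᵇ 𝒴'} (ψ : IsoNat.FIsoSq f f')
    (q : AlgSt.Points 𝒳) :
    mapPoints ψ.tgt (AlgSt.Points.map f q) = AlgSt.Points.map f' (mapPoints ψ.src q) := by
  obtain ⟨p, rfl⟩ := AlgSt.Points.mk_surjective q
  have h := ψ.comm (Over.mk p.str) (IsoNat.cls ⟨p.obj, p.lies⟩)
  rw [cls_mapFPt ψ.src] at h
  have h' : IsoNat.cls (⟨(mapFPt ψ.tgt (p.map f)).obj, (mapFPt ψ.tgt (p.map f)).lies⟩ :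
      𝒴'.p.Fiber (Over.mk p.str)) =
      IsoNat.cls ⟨((mapFPt ψ.src p).map f').obj, ((mapFPt ψ.src p).map f').lies⟩ :=
    (cls_mapFPt ψ.tgt (p.map f)).symm.trans h
  obtain ⟨e, -⟩ := fib_iso_of_cls_eq h'
  exact mk_eq_of_hom e.hom

lemma isSurjective_of_fIsoSq {f : 𝒳 ⥤ᵇ 𝒴} {f' : 𝒳' ⥤ᵇ 𝒴'} (ψ : IsoNat.FIsoSq f f')
    (h𝒴 : FibCat.IsFibGrpd 𝒴.p) (h𝒴' : FibCat.IsFibGrpd 𝒴'.p) (hf : AlgSt.IsSurjective f) :
    AlgSt.IsSurjective f' := fun q => by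
  obtain ⟨q₀, rfl⟩ := (mapPoints_bijective ψ.tgt h𝒴 h𝒴').2 q
  obtain ⟨q₁, rfl⟩ := hf q₀
  exact ⟨mapPoints ψ.src q₁, (mapPoints_sq ψ q₁).symm⟩

end Groth.Agent.H14IsoNat
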