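import Groth.Agent.H14IsoNat.SHSection
import Groth.Agent.H12AlgSp.EtLocalRing
import Groth.Agent.H14IsoNat.SHCritSch
import Groth.Agent.H14IsoNat.Points
import Groth.Agent.H14AlgSt.SourceDescent
import Groth.Agent.H14AlgSt.LocQ2
import Groth.Agent.H14AlgSt.DiagProps

/-!
# Lifting points over strictly henselian local rings and their thickenings to charts
-/

set_option autoImplicit false
set_option backward.isDefEq.respectTransparency false
set_option backward.isDefEq.respectTransparency.types false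

universe u

open CategoryTheory CategoryTheory.Functor CategoryTheory.Limits AlgebraicGeometry

noncomputable section

namespace Groth.Agent.H14IsoNat

/-- The ideal sheaf of a square-zero thickening squares to zero. -/
lemma thick_ker_sq {R : Type u} [CommRing R] {I : Ideal R} (hI : I ^ 2 = ⊥) :
    (SHCrit.thick I).ker ^ 2 = ⊥ := by
  refine Scheme.IdealSheafData.ext_of_isAffine ?_
  simp only [pow_two, Scheme.IdealSheafData.ideal_mul, Pi.mul_apply,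
    Scheme.IdealSheafData.ideal_bot, Pi.bot_apply, Scheme.Hom.ker_apply, eq_bot_iff]
  refine Ideal.mul_le.mpr fun x hx y hy => ?_
  exact (Submodule.mem_bot _).2
    (Groth.Agent.H8Props.FormallySmoothScheme.app_mul_eq_zero hI ⊤ x y hx hy)

open H14Fib H14Stk H14AlgSt SHCrit

variable {S : Scheme.{u}} {𝒵 : AlgSt.Cat S}

/-- Every object of a slice is one of the standard ones. -/
lemma exists_mk {A T : Over S} (s : (FibCat.overCat A).obj) (hs : s.left = T) :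
    ∃ (w : T ⟶ A) (e : s ≅ (Over.mk w : (FibCat.overCat A).obj)),
      (FibCat.overCat A).p.IsHomLift (𝟙 T) e.hom :=
  ⟨eqToHom hs.symm ≫ s.hom, Over.isoMk (eqToIso hs) (by simp),
    IsHomLift.of_fac' (FibCat.overCat A).p _ _ hs rfl (by simp; rfl)⟩

lemma left_of_lift {A T T' : Over S} {g : T' ⟶ T} {w' : T' ⟶ A} {w : T ⟶ A}
    (φ : (Over.mk w' : (FibCat.overCat A).obj) ⟶ Over.mk w)
    (h : (FibCat.overCat A).p.IsHomLift g φ) : φ.left = g ∧ g ≫ w = w' := by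
  have e : φ.left = g := by
    have := @IsHomLift.fac' _ _ _ _ (FibCat.overCat A).p _ _ _ _ g φ h
    simp only [eqToHom_refl, Category.id_comp, Category.comp_id] at this
    exact this
  exact ⟨e, e ▸ Over.w φ⟩

lemma mk_hom_ext {A T T' : Over S} {g : T' ⟶ T} {w' : T' ⟶ A} {w : T ⟶ A}
    {φ ψ : (Over.mk w' : (FibCat.overCat A).obj) ⟶ Over.mk w}
    (h : (FibCat.overCat A).p.IsHomLift g φ) (h' : (FibCat.overCat A).p.IsHomLift g ψ) : φ = ψ :=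
  Over.OverMorphism.ext ((left_of_lift φ h).1.trans (left_of_lift ψ h').1.symm)

/-- An etale surjective chart of a fibre product with a morphism having a property etale locally. -/
theorem exists_chart_data {Q : MorphismProperty Scheme.{u}} {𝒜 : AlgSt.Cat S} {T : Over S}
    (F : 𝒜 ⥤ᵇ 𝒵) (q : FibCat.overCat T ⥤ᵇ 𝒵)
    (hF : AlgSt.RepByAlgSpWith (AlgSp.LocP Q) F) :
    ∃ (B : Over S) (a : FibCat.overCat B ⥤ᵇ FibCat.fp q F) (h : B ⟶ T), Q h.left ∧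
      Nonempty (BasedFunctor.comp a (FibCat.fpFst q F) ≅ AlgSt.overMap h) ∧
      AlgSt.RepByAlgSpWith (AlgSp.LocP @Etale) a ∧
      AlgSt.RepByAlgSpWith AlgSp.IsSurjectiveMor a := by
  obtain ⟨G, e, he, hσ⟩ := hF T q
  obtain ⟨B, p, hpe, hps⟩ := G.property.atlas
  let σ := AlgSt.spMapOfOver (BasedFunctor.comp e (FibCat.fpFst q F))
  obtain ⟨k⟩ := spMapOfOver_eq (BasedFunctor.comp e (FibCat.fpFst q F))
  obtain ⟨h, hh⟩ := (AlgSp.yon S).map_surjective (p ≫ σ)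
  let b := BasedFunctor.comp (AlgSt.ofOverCat B) (AlgSt.ofSpMap p)
  refine ⟨B, BasedFunctor.comp b e, h,
    hσ p (𝟙 _) h hpe (AlgSp.repWith_id @Etale T) (by rw [Category.comp_id]; exact hh.symm),
    ⟨?_⟩, ?_, ?_⟩
  · let m : BasedFunctor.comp (BasedFunctor.comp (AlgSt.ofOverCat B) (AlgSt.ofSpMap (p ≫ σ)))
        (AlgSt.toOverCat T) ≅ AlgSt.overMap h := by
      rw [← hh]
      exact mkIso (fun s => Iso.refl _)
        (fun {_ _} φ => (Category.comp_id _).trans ((Category.id_comp _).trans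
          (Over.OverMorphism.ext rfl)).symm)
        (fun s => IsHomLift.id rfl)
    exact (Stk.restr b _).mapIso k ≪≫ m
  · exact (repWith_comp_equiv_iff he).2
      ((repWith_equiv_comp_iff (ofOverCat_isEquivOver B)).1
        (repWith_locP_of_repWith H12AlgSp.etLocal_etale p hpe))
  · exact (repWith_comp_equiv_iff he).2
      ((repWith_equiv_comp_iff (ofOverCat_isEquivOver B)).1 (repWith_surjective_of_repWith p hps))

/-- The chart of a surjective morphism is surjective. -/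
lemma surjective_chart (hZ : FibCat.IsFibGrpd 𝒵.p) {A B T : Over S}
    {F : FibCat.overCat A ⥤ᵇ 𝒵} {q : FibCat.overCat T ⥤ᵇ 𝒵}
    (hF : AlgSt.RepByAlgSpWith AlgSp.IsSurjectiveMor F) {a : FibCat.overCat B ⥤ᵇ FibCat.fp q F}
    {h : B ⟶ T} (j : BasedFunctor.comp a (FibCat.fpFst q F) ≅ AlgSt.overMap h)
    (ha : AlgSt.RepByAlgSpWith AlgSp.IsSurjectiveMor a) : Surjective h.left := by
  refine ⟨fun t => ?_⟩
  obtain ⟨z, hz⟩ := surjective_of_repWith (fibGrpd_overCat T) (repWith_fpFst q hF)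
    (AlgSt.Points.ofChart (BasedFunctor.id _) t)
  obtain ⟨z', rfl⟩ := surjective_of_repWith
    (fp_fibGrpd (F := q) (G := F) (fibGrpd_overCat T) (fibGrpd_overCat A) hZ) ha z
  rw [← points_map_comp, points_map_iso j] at hz
  refine ⟨chartPoint z', ?_⟩
  rw [← chartPoint_overMap, hz, chartPoint_ofChart]

/-- The value of a chart of a fibre product at a section. -/
lemma exists_components {A B T T' : Over S} {F : FibCat.overCat A ⥤ᵇ 𝒵} {q : FibCat.overCat T ⥤ᵇ 𝒵}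
    {a : FibCat.overCat B ⥤ᵇ FibCat.fp q F} {h : B ⟶ T}
    (j : BasedFunctor.comp a (FibCat.fpFst q F) ≅ AlgSt.overMap h) {s : T' ⟶ B} {g : T' ⟶ T}
    (hs : s ≫ h = g) :
    ∃ (w : T' ⟶ A) (e : (a.obj (Over.mk s)).obj.snd ≅ (Over.mk w : (FibCat.overCat A).obj))
      (e' : (a.obj (Over.mk s)).obj.fst ≅ (Over.mk g : (FibCat.overCat T).obj)),
      (FibCat.overCat A).p.IsHomLift (𝟙 T') e.hom ∧ (FibCat.overCat T).p.IsHomLift (𝟙 T') e'.hom := by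
  obtain ⟨w, e, he⟩ := exists_mk (a.obj (Over.mk s)).obj.snd ((fp_snd_obj _).trans (a.w_obj _))
  let J := isoApp j (Over.mk s)
  have hJ := isoApp_lift j (Over.mk s)
  let m : (AlgSt.overMap h).obj (Over.mk s) ≅ (Over.mk g : (FibCat.overCat T).obj) :=
    Over.isoMk (Iso.refl _) ((Category.id_comp _).trans hs.symm)
  exact ⟨w, e, J ≪≫ m, he,
    homLift_id_comp hJ (IsHomLift.of_fac' (FibCat.overCat T).p _ _ rfl rfl (by simp [m]; rfl))⟩

lemma lift_then_vert {𝒲 : AlgSt.Cat S} {T' T : Over S} {g : T' ⟶ T} {a b c : 𝒲.obj} {φ : a ⟶ b}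
    {ψ : b ⟶ c} (h : 𝒲.p.IsHomLift g φ) (h' : 𝒲.p.IsHomLift (𝟙 T) ψ) :
    𝒲.p.IsHomLift g (φ ≫ ψ) :=
  IsHomLift.comp_lift_id_right' 𝒲.p g φ T ψ

lemma vert_then_lift {𝒲 : AlgSt.Cat S} {T' T : Over S} {g : T' ⟶ T} {a b c : 𝒲.obj} {φ : a ⟶ b}
    {ψ : b ⟶ c} (h : 𝒲.p.IsHomLift (𝟙 T') φ) (h' : 𝒲.p.IsHomLift g ψ) :
    𝒲.p.IsHomLift g (φ ≫ ψ) :=
  IsHomLift.comp_lift_id_left' 𝒲.p T' φ g ψ

variable (hZ : FibCat.IsFibGrpd 𝒵.p)

include hZ

/-- A point over a strictly henselian local ring lifts to an etale surjective chart. -/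
theorem exists_lift {R : Type u} [CommRing R] [HenselianLocalRing R]
    [IsSepClosed (IsLocalRing.ResidueField R)] (b : Spec (CommRingCat.of R) ⟶ S) {A : Over S}
    {F : FibCat.overCat A ⥤ᵇ 𝒵} (hFe : AlgSt.RepByAlgSpWith (AlgSp.LocP @Etale) F)
    (hFs : AlgSt.RepByAlgSpWith AlgSp.IsSurjectiveMor F) {o : 𝒵.obj}
    (ho : 𝒵.p.obj o = Over.mk b) :
    ∃ (w : Over.mk b ⟶ A) (i : F.obj (Over.mk w) ≅ o), 𝒵.p.IsHomLift (𝟙 (Over.mk b)) i.hom := by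
  have := isFibered_of_fibGrpd hZ
  obtain ⟨q, iq, -, hiq⟩ := exists_fromOver (𝒳 := 𝒵) ho
  obtain ⟨B, a, h, hh, ⟨j⟩, -, has⟩ := exists_chart_data F q hFe
  have : Etale h.left := hh
  have := surjective_chart hZ hFs j has
  obtain ⟨s₀, hs₀⟩ := exists_section_sh R (h.left : B.left ⟶ Spec (CommRingCat.of R))
  let s : Over.mk b ⟶ B := Over.homMk s₀ (by
    rw [← Over.w h, ← Category.assoc]
    exact (congrArg (· ≫ b) hs₀).trans (Category.id_comp b))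
  have hs : s ≫ h = 𝟙 _ := Over.OverMorphism.ext hs₀
  obtain ⟨w, e, e', he, he'⟩ := exists_components j hs
  let o₁ := a.obj (Over.mk s)
  have hb₁ : (FibCat.fp q F).p.obj o₁ = Over.mk b := a.w_obj _
  refine ⟨w, F.toFunctor.mapIso e.symm ≪≫ o₁.obj.iso.symm ≪≫ q.toFunctor.mapIso e' ≪≫ iq, ?_⟩
  have h1 : 𝒵.p.IsHomLift (𝟙 (Over.mk b)) (F.map e.inv) :=
    @BasedFunctor.preserves_isHomLift _ _ _ _ F _ _ _ _ (𝟙 (Over.mk b)) e.inv
      (@IsHomLift.lift_id_inv _ _ _ _ (FibCat.overCat A).p _ _ _ e he)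
  have h2 : 𝒵.p.IsHomLift (𝟙 (Over.mk b)) o₁.obj.iso.inv :=
    @IsHomLift.lift_id_inv _ _ _ _ 𝒵.p _ _ _ _ (fp_iso_isHomLift o₁ hb₁)
  have h3 : 𝒵.p.IsHomLift (𝟙 (Over.mk b)) (q.map e'.hom) :=
    @BasedFunctor.preserves_isHomLift _ _ _ _ q _ _ _ _ (𝟙 (Over.mk b)) e'.hom he'
  exact homLift_id_comp h1 (homLift_id_comp h2 (homLift_id_comp h3 hiq))

/-- The thickening. -/
abbrev ιT {R : Type u} [CommRing R] (b : Spec (CommRingCat.of R) ⟶ S) (I : Ideal R) :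
    Over.mk (thick I ≫ b) ⟶ Over.mk b :=
  Over.homMk (thick I) rfl

/-- The morphism of points of a chart over the thickening. -/
abbrev ιM {R : Type u} [CommRing R] {b : Spec (CommRingCat.of R) ⟶ S} {I : Ideal R} {A : Over S}
    {a₀ : Over.mk (thick I ≫ b) ⟶ A} {w : Over.mk b ⟶ A} (h : ιT b I ≫ w = a₀) :
    (Over.mk a₀ : (FibCat.overCat A).obj) ⟶ Over.mk w :=
  Over.homMk (ιT b I) h

/-- A point of a smooth chart over a thickening with strictly henselian local closed part extends. -/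
theorem exists_lift_extend {R : Type u} [CommRing R] (b : Spec (CommRingCat.of R) ⟶ S) {I : Ideal R}
    (hI : I ^ 2 = ⊥) [HenselianLocalRing (R ⧸ I)] [IsSepClosed (IsLocalRing.ResidueField (R ⧸ I))]
    {A : Over S} {F : FibCat.overCat A ⥤ᵇ 𝒵} (hF : AlgSt.RepByAlgSpWith (AlgSp.LocP @Smooth) F)
    {o : 𝒵.obj} (ho : 𝒵.p.obj o = Over.mk b) {a₀ : Over.mk (thick I ≫ b) ⟶ A}
    (χ : F.obj (Over.mk a₀) ⟶ o) (hχ : 𝒵.p.IsHomLift (ιT b I) χ) :
    ∃ (w : Over.mk b ⟶ A) (hw : ιT b I ≫ w = a₀) (i : F.obj (Over.mk w) ≅ o),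
      𝒵.p.IsHomLift (𝟙 (Over.mk b)) i.hom ∧ F.map (ιM hw) ≫ i.hom = χ := by
  have := isFibered_of_fibGrpd hZ
  obtain ⟨q, iq, -, hiq⟩ := exists_fromOver (𝒳 := 𝒵) ho
  obtain ⟨B, a, h, hh, ⟨j⟩, hae, has⟩ := exists_chart_data F q hF
  have : Smooth h.left := hh
  let T := Over.mk b
  let T₀ := Over.mk (thick I ≫ b)
  -- the point over the closed part
  let ιs : (Over.mk (ιT b I) : (FibCat.overCat T).obj) ⟶ topObj T :=
    toTop (Over.mk (ιT b I) : (FibCat.overCat T).obj)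
  have hq : 𝒵.p.IsHomLift (ιT b I) (q.map ιs ≫ iq.hom) :=
    lift_then_vert (@BasedFunctor.preserves_isHomLift _ _ _ _ q _ _ _ _ (ιT b I) ιs
      (overCat_isHomLift ιs)) hiq
  obtain ⟨ε, hε, hεe⟩ := exists_vertIso hZ (ιT b I) (q.map ιs ≫ iq.hom) χ
  let pt₀ : (FibCat.fp q F).obj := fpObj (Over.mk (ιT b I)) (Over.mk a₀) ε rfl hε
  obtain ⟨s₀, k, hk⟩ := exists_lift (fp_fibGrpd (fibGrpd_overCat T) (fibGrpd_overCat A) hZ)
    (thick I ≫ b) hae has (o := pt₀) rfl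
  have hk₁ : (FibCat.overCat T).p.IsHomLift (𝟙 T₀) k.hom.hom.fst := (fp_isHomLift_iff _ _).1 hk
  have hs₀ : s₀ ≫ h = ιT b I := by
    obtain ⟨w', e, e', he, he'⟩ := exists_components j (rfl : s₀ ≫ h = s₀ ≫ h)
    have hl : (FibCat.overCat T).p.IsHomLift (𝟙 T₀) (e'.inv ≫ k.hom.hom.fst) :=
      homLift_id_comp (@IsHomLift.lift_id_inv _ _ _ _ (FibCat.overCat T).p _ _ _ e' he') hk₁
    exact ((left_of_lift (w' := s₀ ≫ h) (w := ιT b I) (e'.inv ≫ k.hom.hom.fst) hl).2).symm.trans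
      (Category.id_comp _)
  -- its extension
  obtain ⟨s₁, hs₁, hs₁h⟩ := ((S1488.result h.left).1 inferInstance).2 R I hI s₀.left (𝟙 _)
    ((Category.comp_id _).trans (congrArg CommaMorphism.left hs₀).symm)
  let s : T ⟶ B := Over.homMk s₁ (by
    rw [← Over.w h, ← Category.assoc]
    exact (congrArg (· ≫ b) hs₁h).trans (Category.id_comp b))
  have hs : s ≫ h = 𝟙 T := Over.OverMorphism.ext hs₁h
  have hs' : ιT b I ≫ s = s₀ := Over.OverMorphism.ext hs₁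
  obtain ⟨w, e, e', he, he'⟩ := exists_components j hs
  let o₁ := a.obj (Over.mk s)
  have hb₁ : (FibCat.fp q F).p.obj o₁ = T := a.w_obj _
  let ψ : pt₀ ⟶ o₁ := k.inv ≫ a.map (ιM hs')
  have hψ : (FibCat.fp q F).p.IsHomLift (ιT b I) ψ :=
    vert_then_lift (@IsHomLift.lift_id_inv _ _ _ _ (FibCat.fp q F).p _ _ _ k hk)
      (@BasedFunctor.preserves_isHomLift _ _ _ _ a _ _ _ _ (ιT b I) (ιM hs')
        (overCat_isHomLift (ιM hs')))
  have hψ₂ : (FibCat.overCat A).p.IsHomLift (ιT b I) (ψ.hom.snd ≫ e.hom) :=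
    lift_then_vert (@BasedFunctor.preserves_isHomLift _ _ _ _ (FibCat.fpSnd q F) _ _ _ _
      (ιT b I) ψ hψ) he
  have hψ₁ : (FibCat.overCat T).p.IsHomLift (ιT b I) (ψ.hom.fst ≫ e'.hom) :=
    lift_then_vert ((fp_isHomLift_iff _ _).1 hψ) he'
  have hw : ιT b I ≫ w = a₀ := (left_of_lift (w' := a₀) (w := w) (ψ.hom.snd ≫ e.hom) hψ₂).2
  refine ⟨w, hw, F.toFunctor.mapIso e.symm ≪≫ o₁.obj.iso.symm ≪≫ q.toFunctor.mapIso e' ≪≫ iq, ?_, ?_⟩
  · have h1 : 𝒵.p.IsHomLift (𝟙 T) (F.map e.inv) :=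
      @BasedFunctor.preserves_isHomLift _ _ _ _ F _ _ _ _ (𝟙 T) e.inv
        (@IsHomLift.lift_id_inv _ _ _ _ (FibCat.overCat A).p _ _ _ e he)
    have h2 : 𝒵.p.IsHomLift (𝟙 T) o₁.obj.iso.inv :=
      @IsHomLift.lift_id_inv _ _ _ _ 𝒵.p _ _ _ _ (fp_iso_isHomLift o₁ hb₁)
    have h3 : 𝒵.p.IsHomLift (𝟙 T) (q.map e'.hom) :=
      @BasedFunctor.preserves_isHomLift _ _ _ _ q _ _ _ _ (𝟙 T) e'.hom he'
    exact homLift_id_comp h1 (homLift_id_comp h2 (homLift_id_comp h3 hiq))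
  · have e1 : ιM hw = ψ.hom.snd ≫ e.hom :=
      mk_hom_ext (g := ιT b I) (overCat_isHomLift (ιM hw)) hψ₂
    have e2 : ψ.hom.fst ≫ e'.hom = ιs :=
      mk_hom_ext (g := ιT b I) hψ₁ (overCat_isHomLift ιs)
    have hc : q.map ψ.hom.fst ≫ o₁.obj.iso.hom = ε.hom ≫ F.map ψ.hom.snd := ψ.hom.w
    have hc' : F.map ψ.hom.snd ≫ o₁.obj.iso.inv = ε.inv ≫ q.map ψ.hom.fst := by
      rw [Iso.comp_inv_eq, Category.assoc, hc, Iso.inv_hom_id_assoc]
    simp only [Iso.trans_hom, Functor.mapIso_hom, Iso.symm_hom]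
    rw [e1, F.toFunctor.map_comp, Category.assoc, ← Category.assoc (F.map e.hom),
      ← F.toFunctor.map_comp, e.hom_inv_id, F.toFunctor.map_id, Category.id_comp,
      reassoc_of% hc', ← q.toFunctor.map_comp_assoc, e2, ← hεe, Iso.inv_hom_id_assoc]

/-- The morphism of base schemes given by a surjection of rings. -/
abbrev πT {R R₀ : Type u} [CommRing R] [CommRing R₀] (b : Spec (CommRingCat.of R) ⟶ S) (π : R →+* R₀) :
    Over.mk (Spec.map (CommRingCat.ofHom π) ≫ b) ⟶ Over.mk b :=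
  Over.homMk (U := Over.mk (Spec.map (CommRingCat.ofHom π) ≫ b)) (V := Over.mk b)
    (Spec.map (CommRingCat.ofHom π)) rfl

/-- Variant of `exists_lift_extend` for a thickening given by a surjection of rings. -/
theorem exists_lift_extend' {R R₀ : Type u} [CommRing R] [CommRing R₀] [HenselianLocalRing R₀]
    [IsSepClosed (IsLocalRing.ResidueField R₀)] (b : Spec (CommRingCat.of R) ⟶ S)
    (π : R →+* R₀) (hπ : Function.Surjective π) (hI : RingHom.ker π ^ 2 = ⊥) {b₀ : Over S}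
    (eb : b₀ ≅ Over.mk (Spec.map (CommRingCat.ofHom π) ≫ b))
    {A : Over S} {F : FibCat.overCat A ⥤ᵇ 𝒵} (hF : AlgSt.RepByAlgSpWith (AlgSp.LocP @Smooth) F)
    {o : 𝒵.obj} (ho : 𝒵.p.obj o = Over.mk b) {a₀ : b₀ ⟶ A}
    (χ : F.obj (Over.mk a₀) ⟶ o)
    (hχ : 𝒵.p.IsHomLift (eb.hom ≫ πT b π) χ) :
    ∃ (w : Over.mk b ⟶ A) (hw : (eb.hom ≫ πT b π) ≫ w = a₀)
      (i : F.obj (Over.mk w) ≅ o), 𝒵.p.IsHomLift (𝟙 (Over.mk b)) i.hom ∧
      F.map (Over.homMk (eb.hom ≫ πT b π) hw :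
        (Over.mk a₀ : (FibCat.overCat A).obj) ⟶ Over.mk w) ≫ i.hom = χ := by
  let q := RingHom.quotientKerEquivOfSurjective hπ
  obtain ⟨hH, hS⟩ : ∃ (_ : HenselianLocalRing (R ⧸ RingHom.ker π)),
      IsSepClosed (IsLocalRing.ResidueField (R ⧸ RingHom.ker π)) := by
    obtain ⟨h1, h2⟩ := H12AlgSp.isStrictlyHenselianLocalRing_of_ringEquiv q.symm
      ⟨inferInstance, inferInstance⟩
    exact ⟨h1, h2⟩
  let j := Spec.map (CommRingCat.ofHom π)
  let g := eb.hom ≫ πT b π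
  let e₀ : Over.mk (thick (RingHom.ker π) ≫ b) ≅ Over.mk (j ≫ b) :=
    Over.isoMk (Scheme.Spec.mapIso (RingEquiv.toCommRingCatIso q).op).symm (by
      change Spec.map (CommRingCat.ofHom q.symm.toRingHom) ≫ j ≫ b = thick (RingHom.ker π) ≫ b
      rw [← Category.assoc]
      congr 1
      simp only [j, thick, ← Spec.map_comp]
      congr 1
      exact CommRingCat.hom_ext (RingHom.ext fun x => (q.symm_apply_eq).2 rfl))
  let t := e₀ ≪≫ eb.symm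
  have ht : t.hom ≫ g = ιT b (RingHom.ker π) := by
    simp only [t, g, Iso.trans_hom, Iso.symm_hom, Category.assoc, Iso.inv_hom_id_assoc]
    refine Over.OverMorphism.ext ?_
    change Spec.map (CommRingCat.ofHom q.symm.toRingHom) ≫ j = thick (RingHom.ker π)
    simp only [j, thick, ← Spec.map_comp]
    congr 1
    exact CommRingCat.hom_ext (RingHom.ext fun x => (q.symm_apply_eq).2 rfl)
  let μ : (Over.mk (t.hom ≫ a₀) : (FibCat.overCat A).obj) ⟶ Over.mk a₀ := Over.homMk t.hom rfl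
  obtain ⟨w, hw, i, hi, he⟩ := exists_lift_extend hZ b hI hF ho (F.map μ ≫ χ) (by
    rw [← ht]
    exact homLift_comp' (@BasedFunctor.preserves_isHomLift _ _ _ _ F _ _ _ _ t.hom μ
      (overCat_isHomLift μ)) hχ)
  have hw' : g ≫ w = a₀ := by rw [← cancel_epi t.hom, ← Category.assoc, ht, hw]
  refine ⟨w, hw', i, hi, ?_⟩
  have : IsIso μ := ⟨(Over.homMk t.inv (by simp) :
    (Over.mk a₀ : (FibCat.overCat A).obj) ⟶ Over.mk (t.hom ≫ a₀)),
    Over.OverMorphism.ext t.hom_inv_id, Over.OverMorphism.ext t.inv_hom_id⟩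
  rw [← cancel_epi (F.map μ), ← Category.assoc, ← F.toFunctor.map_comp, ← he]
  congr 2
  exact Over.OverMorphism.ext ht

/-- An unramified morphism has at most one lift of a point over a strictly henselian thickening. -/
theorem lift_unique {R : Type u} [CommRing R] [HenselianLocalRing R]
    [IsSepClosed (IsLocalRing.ResidueField R)] (b : Spec (CommRingCat.of R) ⟶ S) {I : Ideal R}
    (hI : I ^ 2 = ⊥) {A : Over S} {F : FibCat.overCat A ⥤ᵇ 𝒵}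
    (hF : AlgSt.RepByAlgSpWith (AlgSp.LocP (@LocallyOfFiniteType ⊓ @FormallyUnramified)) F)
    {o : 𝒵.obj} (ho : 𝒵.p.obj o = Over.mk b) {a₀ : Over.mk (thick I ≫ b) ⟶ A}
    {w₁ w₂ : Over.mk b ⟶ A} (h₁ : ιT b I ≫ w₁ = a₀) (h₂ : ιT b I ≫ w₂ = a₀)
    (i₁ : F.obj (Over.mk w₁) ≅ o) (i₂ : F.obj (Over.mk w₂) ≅ o)
    (hi₁ : 𝒵.p.IsHomLift (𝟙 (Over.mk b)) i₁.hom) (hi₂ : 𝒵.p.IsHomLift (𝟙 (Over.mk b)) i₂.hom)
    (he : F.map (ιM h₁) ≫ i₁.hom = F.map (ιM h₂) ≫ i₂.hom) :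
    ∃ hw : w₁ = w₂, i₁.hom = F.map (Over.homMk (𝟙 (Over.mk b)) (by simp [hw]) :
      (Over.mk w₁ : (FibCat.overCat A).obj) ⟶ Over.mk w₂) ≫ i₂.hom := by
  have := isFibered_of_fibGrpd hZ
  obtain ⟨q, iq, -, hiq⟩ := exists_fromOver (𝒳 := 𝒵) ho
  obtain ⟨B, a, h, ⟨hh₁, hh₂⟩, ⟨j⟩, hae, has⟩ := exists_chart_data F q hF
  have : FormallyUnramified h.left := hh₂
  let T := Over.mk b
  have hq := fp_fibGrpd (F := q) (G := F) (fibGrpd_overCat T) (fibGrpd_overCat A) hZ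
  have hI1 : I ≠ ⊤ := fun e => one_ne_zero (α := R) (by
    have h2 : (1 : R) * 1 ∈ I ^ 2 := by rw [pow_two]; exact Ideal.mul_mem_mul (e ▸ trivial) (e ▸ trivial)
    rw [hI, one_mul] at h2
    exact h2)
  obtain ⟨hH, hS⟩ := henselian_quotient R I hI1
  have := hS inferInstance
  have mkpt : ∀ (w : T ⟶ A) (i : F.obj (Over.mk w) ≅ o), 𝒵.p.IsHomLift (𝟙 T) i.hom →
      𝒵.p.IsHomLift (𝟙 T) (iq ≪≫ i.symm).hom := fun w i hi =>
    homLift_id_comp hiq (@IsHomLift.lift_id_inv _ _ _ _ 𝒵.p _ _ _ i hi)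
  let pt₁ : (FibCat.fp q F).obj := fpObj (topObj T) (Over.mk w₁) (iq ≪≫ i₁.symm) rfl (mkpt w₁ i₁ hi₁)
  let pt₂ : (FibCat.fp q F).obj := fpObj (topObj T) (Over.mk w₂) (iq ≪≫ i₂.symm) rfl (mkpt w₂ i₂ hi₂)
  let ιs : (Over.mk (ιT b I) : (FibCat.overCat T).obj) ⟶ topObj T :=
    toTop (Over.mk (ιT b I) : (FibCat.overCat T).obj)
  have hqs : 𝒵.p.IsHomLift (ιT b I) (q.map ιs ≫ iq.hom) :=
    lift_then_vert (@BasedFunctor.preserves_isHomLift _ _ _ _ q _ _ _ _ (ιT b I) ιs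
      (overCat_isHomLift ιs)) hiq
  have hF₁ : 𝒵.p.IsHomLift (ιT b I) (F.map (ιM h₁) ≫ i₁.hom) :=
    lift_then_vert (@BasedFunctor.preserves_isHomLift _ _ _ _ F _ _ _ _ (ιT b I) (ιM h₁)
      (overCat_isHomLift (ιM h₁))) hi₁
  obtain ⟨ε, hε, hεe⟩ := exists_vertIso hZ (ιT b I) (q.map ιs ≫ iq.hom) (F.map (ιM h₁) ≫ i₁.hom)
  let pt₀ : (FibCat.fp q F).obj := fpObj (Over.mk (ιT b I)) (Over.mk a₀) ε rfl hε
  let φ₁ : pt₀ ⟶ pt₁ := fpHom ιs (ιM h₁) (by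
    change q.map ιs ≫ iq.hom ≫ i₁.inv = ε.hom ≫ F.map (ιM h₁)
    rw [← Category.assoc, Iso.comp_inv_eq, Category.assoc]
    exact hεe.symm)
  let φ₂ : pt₀ ⟶ pt₂ := fpHom ιs (ιM h₂) (by
    change q.map ιs ≫ iq.hom ≫ i₂.inv = ε.hom ≫ F.map (ιM h₂)
    rw [← Category.assoc, Iso.comp_inv_eq, Category.assoc, ← he]
    exact hεe.symm)
  have hφ₁ : (FibCat.fp q F).p.IsHomLift (ιT b I) φ₁ :=
    (fp_isHomLift_iff _ _).2 (overCat_isHomLift ιs)
  have hφ₂ : (FibCat.fp q F).p.IsHomLift (ιT b I) φ₂ :=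
    (fp_isHomLift_iff _ _).2 (overCat_isHomLift ιs)
  obtain ⟨s₁, k₁, hk₁⟩ := exists_lift hq b hae has (o := pt₁) rfl
  let s₀ := ιT b I ≫ s₁
  let μ₁ : (Over.mk s₀ : (FibCat.overCat B).obj) ⟶ Over.mk s₁ := ιM (b := b) (I := I) (w := s₁) rfl
  have hm : (FibCat.fp q F).p.IsHomLift (ιT b I) (a.map μ₁ ≫ k₁.hom) :=
    lift_then_vert (@BasedFunctor.preserves_isHomLift _ _ _ _ a _ _ _ _ (ιT b I) μ₁
      (overCat_isHomLift μ₁)) hk₁
  obtain ⟨m, hm', -⟩ := exists_vertIso hq (ιT b I) (a.map μ₁ ≫ k₁.hom) φ₁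
  obtain ⟨s₂, hs₂, k₂, hk₂, -⟩ := exists_lift_extend hq b hI
    (repWith_locP_mono (fun _ _ g (_ : Etale g) => (inferInstance : Smooth g)) hae)
    (o := pt₂) rfl (a₀ := s₀) (m.hom ≫ φ₂) (vert_then_lift hm' hφ₂)
  have sect : ∀ (s : T ⟶ B) (w : T ⟶ A) (i : F.obj (Over.mk w) ≅ o)
      (hi : 𝒵.p.IsHomLift (𝟙 T) (iq ≪≫ i.symm).hom)
      (k : a.obj (Over.mk s) ≅ fpObj (topObj T) (Over.mk w) (iq ≪≫ i.symm) rfl hi),
      (FibCat.fp q F).p.IsHomLift (𝟙 T) k.hom → s ≫ h = 𝟙 T := by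
    intro s w i hi k hk
    obtain ⟨w', e, e', he, he'⟩ := exists_components j (rfl : s ≫ h = s ≫ h)
    have hl : (FibCat.overCat T).p.IsHomLift (𝟙 T) (e'.inv ≫ k.hom.hom.fst) :=
      homLift_id_comp (@IsHomLift.lift_id_inv _ _ _ _ (FibCat.overCat T).p _ _ _ e' he')
        ((fp_isHomLift_iff _ _).1 hk)
    exact ((left_of_lift (w' := s ≫ h) (w := 𝟙 T) (e'.inv ≫ k.hom.hom.fst) hl).2).symm.trans
      (Category.id_comp _)
  have e₁ := sect s₁ w₁ i₁ _ k₁ hk₁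
  have e₂ := sect s₂ w₂ i₂ _ k₂ hk₂
  have : IsClosedImmersion (thick I) :=
    IsClosedImmersion.spec_of_surjective _ Ideal.Quotient.mk_surjective
  have hs : s₁ = s₂ := Over.OverMorphism.ext (FormallyUnramified.hom_ext (thick I)
    ⟨2, thick_ker_sq hI⟩ h.left (congrArg CommaMorphism.left hs₂).symm
    ((congrArg CommaMorphism.left e₁).trans (congrArg CommaMorphism.left e₂).symm))
  subst hs
  let κ : pt₁ ≅ pt₂ := k₁.symm ≪≫ k₂
  have hκ : (FibCat.fp q F).p.IsHomLift (𝟙 T) κ.hom :=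
    homLift_id_comp (@IsHomLift.lift_id_inv _ _ _ _ (FibCat.fp q F).p _ _ _ k₁ hk₁) hk₂
  have hκ₂ : (FibCat.overCat A).p.IsHomLift (𝟙 T) κ.hom.hom.snd :=
    @BasedFunctor.preserves_isHomLift _ _ _ _ (FibCat.fpSnd q F) _ _ _ _ (𝟙 T) κ.hom hκ
  have hww : w₁ = w₂ := ((left_of_lift (w' := w₁) (w := w₂) κ.hom.hom.snd hκ₂).2).symm.trans
    (Category.id_comp _)
  refine ⟨hww, ?_⟩
  have hκ₁ : κ.hom.hom.fst = 𝟙 (topObj T) :=
    mk_hom_ext (w' := 𝟙 T) (w := 𝟙 T) (g := 𝟙 T) ((fp_isHomLift_iff _ _).1 hκ)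
      (IsHomLift.id rfl)
  have hc : q.map κ.hom.hom.fst ≫ (iq ≪≫ i₂.symm).hom = (iq ≪≫ i₁.symm).hom ≫ F.map κ.hom.hom.snd :=
    κ.hom.hom.w
  rw [show q.map κ.hom.hom.fst = 𝟙 _ from (congrArg q.toFunctor.map hκ₁).trans (q.toFunctor.map_id _),
    Category.id_comp, Iso.trans_hom, Iso.trans_hom, Category.assoc, cancel_epi] at hc
  change i₂.inv = i₁.inv ≫ F.map κ.hom.hom.snd at hc
  rw [Iso.eq_inv_comp] at hc
  rw [show (Over.homMk (𝟙 T) ((Category.id_comp w₂).trans hww.symm) :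
    (Over.mk w₁ : (FibCat.overCat A).obj) ⟶ Over.mk w₂) = κ.hom.hom.snd from
      mk_hom_ext (g := 𝟙 T) (IsHomLift.of_fac' (FibCat.overCat A).p _ _ rfl rfl (by simp; rfl)) hκ₂, ← hc, Category.assoc, Iso.inv_hom_id]
  exact (Category.comp_id _).symm

end Groth.Agent.H14IsoNat
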