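import Groth.Agent.H14IsoNat.DoubleClass
import Groth.Agent.H14IsoNat.Points
import Groth.Agent.H14AlgSt.SetoidSpace
import Mathlib.CategoryTheory.Conj

/-!
# Automorphisms read off the presheaf of isomorphism classes
-/

set_option autoImplicit false
set_option backward.isDefEq.respectTransparency false
set_option backward.isDefEq.respectTransparency.types false

universe u

open CategoryTheory CategoryTheory.Functor CategoryTheory.Limits AlgebraicGeometry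

noncomputable section

namespace Groth.Agent.H14IsoNat

open H14Fib H14Stk Axes

local notation "K₀" => Scheme.fppfPrecoverage

variable {S : Scheme.{u}} {𝒳 𝒴 : AlgSt.Cat S} {T : Over S}

lemma sepStack (hX : AlgSt.IsAlgStack K₀ 𝒳)
    (hd : AlgSt.RepByAlgSpWith (AlgSp.IsSeparatedMor ⊓ AlgSp.IsQuasiCompactMor)
      (FibCat.diag (FibCat.toSelf 𝒳))) : SepStack 𝒳 :=
  ⟨hX.isStack, H14AlgSt.repWith_mono (fun _ _ _ h => h.1) hd⟩

section Twists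

variable [hX : SepStack 𝒳] {P : FibCat.overCat T ⥤ᵇ 𝒳} {k l : ℕ}

/-- A chosen twist. -/
def twObj (P : FibCat.overCat T ⥤ᵇ 𝒳) (a : Fin k → Vert P P (Over.mk (𝟙 T))) :
    𝒳.p.Fiber (PT T (Y.{u} k)).left :=
  ⟨(exists_isTw (tw a)).choose, (exists_isTw (tw a)).choose_spec.1⟩

lemma isTw_twObj (a : Fin k → Vert P P (Over.mk (𝟙 T))) : IsTw (tw a) (twObj P a).1 :=
  (exists_isTw (tw a)).choose_spec

/-- The class of a twist. -/
def twCls (P : FibCat.overCat T ⥤ᵇ 𝒳) (a : Fin k → Vert P P (Over.mk (𝟙 T))) :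
    IsoNat.IsoCl 𝒳 (PT T (Y.{u} k)).left :=
  IsoNat.cls (twObj P a)

lemma cls_eq_of_hom {U : Over S} {x y : 𝒳.p.Fiber U} (ψ : x.1 ⟶ y.1)
    (hψ : 𝒳.p.IsHomLift (𝟙 U) ψ) : IsoNat.cls x = IsoNat.cls y :=
  haveI := hψ
  haveI := isIso_of_fibGrpd hX.isStack.1 (𝟙 U) ψ
  cls_eq_of_iso (asIso ψ) hψ

theorem twCls_eq_iff {a b : Fin k → Vert P P (Over.mk (𝟙 T))} :
    twCls P a = twCls P b ↔ ∃ c d : Vert P P (Over.mk (𝟙 T)), ∀ i, c * b i = a i * d := by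
  rw [← iso_tw_iff (isTw_twObj a) (isTw_twObj b)]
  exact ⟨fun h => let ⟨e, he⟩ := fib_iso_of_cls_eq h; ⟨e.hom, he⟩,
    fun ⟨ψ, hψ⟩ => cls_eq_of_hom ψ hψ⟩

lemma eq_twCls {a : Fin k → Vert P P (Over.mk (𝟙 T))} (x : 𝒳.p.Fiber (PT T (Y.{u} k)).left)
    (h : IsTw (tw a) x.1) : IsoNat.cls x = twCls P a :=
  let ⟨ψ, hψ⟩ := (iso_tw_iff h (isTw_twObj a)).2 ⟨1, 1, fun _ => by simp⟩
  cls_eq_of_hom ψ hψ

lemma exists_twCls (x : 𝒳.p.Fiber (PT T (Y.{u} k)).left) (h : IsLT P k x.1) (hb : IsBT P k x.1) :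
    ∃ a, IsoNat.cls x = twCls P a := by
  obtain ⟨a, ξ, ψ, hξ, hψ⟩ := exists_const_of_bt h hb
  exact ⟨a, (cls_eq_of_hom (x := ⟨ξ, hξ.1⟩) ψ hψ).symm.trans (eq_twCls ⟨ξ, hξ.1⟩ hξ)⟩

/-- The group of an object is commutative exactly when twists by triples are determined by
twists by pairs. -/
theorem comm_iff :
    (∀ g h : Vert P P (Over.mk (𝟙 T)), g * h = h * g) ↔
      ∀ a b : Fin 3 → Vert P P (Over.mk (𝟙 T)), twCls P (a ∘ ![0, 1]) = twCls P (b ∘ ![0, 1]) →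
        twCls P (a ∘ ![1, 2]) = twCls P (b ∘ ![1, 2]) → twCls P a = twCls P b := by
  constructor
  · intro hc a b h01 h12
    obtain ⟨c, d, h⟩ := twCls_eq_iff.1 h01
    obtain ⟨c', d', h'⟩ := twCls_eq_iff.1 h12
    refine twCls_eq_iff.2 ⟨c, d, fun i => ?_⟩
    letI : CommGroup (Vert P P (Over.mk (𝟙 T))) :=
      { (inferInstance : Group (Vert P P (Over.mk (𝟙 T)))) with mul_comm := hc }
    have e0 : c * b 0 = a 0 * d := h 0
    have e1 : c * b 1 = a 1 * d := h 1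
    have e1' : c' * b 1 = a 1 * d' := h' 0
    have e2' : c' * b 2 = a 2 * d' := h' 1
    have key : d * c' = d' * c := by
      have : a 1 * (d * c') = a 1 * (d' * c) := by
        rw [← mul_assoc, ← mul_assoc, ← e1, ← e1', mul_right_comm, mul_comm c c',
          mul_right_comm c' c]
      exact mul_left_cancel this
    fin_cases i
    · exact e0
    · exact e1
    · refine mul_right_cancel (b := c') ?_
      calc c * b 2 * c' = c' * b 2 * c := by ac_rfl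
        _ = a 2 * (d' * c) := by rw [e2', mul_assoc]
        _ = a 2 * d * c' := by rw [← key, mul_assoc]
  · intro h x g
    let a : Fin 3 → Vert P P (Over.mk (𝟙 T)) := ![x, 1, x⁻¹]
    let b : Fin 3 → Vert P P (Over.mk (𝟙 T)) := ![x, 1, (g * x * g⁻¹)⁻¹]
    obtain ⟨c, d, hcd⟩ := twCls_eq_iff.1 (h a b
      (twCls_eq_iff.2 ⟨1, 1, fun i => by fin_cases i <;> simp [a, b]⟩)
      (twCls_eq_iff.2 ⟨g⁻¹, g⁻¹, fun i => by fin_cases i <;> simp [a, b, mul_assoc]⟩))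
    have h0 : c * x = x * d := hcd 0
    have h1 : c * 1 = 1 * d := hcd 1
    have h2 : c * (g * x * g⁻¹)⁻¹ = x⁻¹ * d := hcd 2
    rw [mul_one, one_mul] at h1
    subst h1
    have h3 : (g * x * g⁻¹)⁻¹ = x⁻¹ := by
      have : Commute x⁻¹ c := (Commute.inv_left (show Commute x c from h0.symm))
      exact mul_left_cancel (h2.trans this.eq)
    rw [inv_inj, mul_inv_eq_iff_eq_mul] at h3
    exact h3.symm

end Twists

section Transfer

variable [hX : SepStack 𝒳] [hY : SepStack 𝒴] (φ : IsoNat.FIso 𝒳 𝒴) {P : FibCat.overCat T ⥤ᵇ 𝒳}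
  {P' : FibCat.overCat T ⥤ᵇ 𝒴} {k l : ℕ}

/-- Two slice functors correspond. -/
def Corresp (P : FibCat.overCat T ⥤ᵇ 𝒳) (P' : FibCat.overCat T ⥤ᵇ 𝒴) : Prop :=
  ∀ c : Over T, φ.toEquiv c.left (IsoNat.cls ⟨P.obj c, P.w_obj c⟩) =
    IsoNat.cls ⟨P'.obj c, P'.w_obj c⟩

variable {φ}

omit hX hY in
lemma corresp_of_top (hg : FibCat.IsFibGrpd 𝒴.p) {η : 𝒳.p.Fiber T} {η' : 𝒴.p.Fiber T}
    (hη : φ.toEquiv T (IsoNat.cls η) = IsoNat.cls η') (i : P.obj (topObj T) ≅ η.1)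
    (hi : 𝒳.p.IsHomLift (𝟙 T) i.hom) (i' : P'.obj (topObj T) ≅ η'.1)
    (hi' : 𝒴.p.IsHomLift (𝟙 T) i'.hom) : Corresp φ P P' := by
  intro c
  obtain ⟨y, hy⟩ := Quotient.exists_rep (φ.toEquiv c.left (IsoNat.cls ⟨P.obj c, P.w_obj c⟩))
  have hl : ∀ {𝒵 : AlgSt.Cat S} (R : FibCat.overCat T ⥤ᵇ 𝒵) {ζ : 𝒵.obj}
      (j : R.obj (topObj T) ≅ ζ), 𝒵.p.IsHomLift (𝟙 T) j.hom →
      𝒵.p.IsHomLift c.hom (R.map (toTop c) ≫ j.hom) :=
    fun R _ j hj => lift_comp_id (g := c.hom) (map_lift' R (toTop c)) hj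
  obtain ⟨b, hb⟩ := exists_hom φ c.hom (x' := ⟨P.obj c, P.w_obj c⟩) (x := η)
    (P.map (toTop c) ≫ i.hom) (hl P i hi) (y' := y) (y := η') hy.symm hη
  have := hl P' i' hi'
  obtain ⟨e, he, -⟩ := exists_vertIso hg c.hom b (P'.map (toTop c) ≫ i'.hom)
  rw [← hy]
  exact cls_eq_of_iso e he

lemma corresp_symm (h : Corresp φ P P') :
    Corresp (symm φ hX.isStack.1 hY.isStack.1) P' P := fun c =>
  (Equiv.symm_apply_eq _).2 (h c).symm

lemma transfer_lt {x : 𝒳.p.Fiber (PT T (Y.{u} k)).left} {y : 𝒴.p.Fiber (PT T (Y.{u} k)).left}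
    (h : Corresp φ P P') (hxy : φ.toEquiv _ (IsoNat.cls x) = IsoNat.cls y) (hx : IsLT P k x.1) :
    IsLT P' k y.1 := by
  refine ⟨y.2, fun a => ?_⟩
  obtain ⟨e, he⟩ := hx.2 a
  exact exists_hom φ (leg (T := T) (k := k) a).left (x' := ⟨_, P.w_obj _⟩) (x := x) e he
    (y' := ⟨_, P'.w_obj _⟩) (y := y) (h _) hxy

lemma transfer_bt {x : 𝒳.p.Fiber (PT T (Y.{u} k)).left} {y : 𝒴.p.Fiber (PT T (Y.{u} k)).left}
    (h : Corresp φ P P') (hxy : φ.toEquiv _ (IsoNat.cls x) = IsoNat.cls y) (hx : IsBT P k x.1) :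
    IsBT P' k y.1 := by
  intro i
  obtain ⟨e, he⟩ := hx i
  exact exists_hom φ (PTmap (T := T) (mapY.{u} (fun _ : Fin 1 => i))).left
    (x' := ⟨_, P.w_obj _⟩) (x := x) e he (y' := ⟨_, P'.w_obj _⟩) (y := y) (h _) hxy

/-- Twists correspond to twists. -/
theorem exists_transfer (h : Corresp φ P P') (a : Fin k → Vert P P (Over.mk (𝟙 T))) :
    ∃ a' : Fin k → Vert P' P' (Over.mk (𝟙 T)),
      φ.toEquiv (PT T (Y.{u} k)).left (twCls P a) = twCls P' a' := by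
  obtain ⟨y, hy⟩ := Quotient.exists_rep (φ.toEquiv (PT T (Y.{u} k)).left (twCls P a))
  obtain ⟨a', ha'⟩ := exists_twCls y (transfer_lt h hy.symm (isLT_of_isTw (isTw_twObj a)))
    (transfer_bt h hy.symm (isBT_of_isTw (isTw_twObj a)))
  exact ⟨a', hy.symm.trans ha'⟩

theorem exists_transfer' (h : Corresp φ P P') (a' : Fin k → Vert P' P' (Over.mk (𝟙 T))) :
    ∃ a : Fin k → Vert P P (Over.mk (𝟙 T)),
      φ.toEquiv (PT T (Y.{u} k)).left (twCls P a) = twCls P' a' := by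
  obtain ⟨a, ha⟩ := exists_transfer (corresp_symm h) a'
  exact ⟨a, ((Equiv.symm_apply_eq _).1 ha).symm⟩

/-- The correspondence of twists is compatible with maps of axes. -/
theorem transfer_pull (σ : Fin l → Fin k) {a : Fin k → Vert P P (Over.mk (𝟙 T))}
    {a' : Fin k → Vert P' P' (Over.mk (𝟙 T))}
    (h : φ.toEquiv (PT T (Y.{u} k)).left (twCls P a) = twCls P' a') :
    φ.toEquiv (PT T (Y.{u} l)).left (twCls P (a ∘ σ)) = twCls P' (a' ∘ σ) := by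
  let g := (PTmap (T := T) (mapY.{u} σ)).left
  have := isFibered_of_fibGrpd hX.isStack.1
  obtain ⟨w, χ, hχ⟩ := isFibered_exists_sc 𝒳.p (twObj P a).2 g
  have hχ' : 𝒳.p.IsHomLift g χ := inferInstance
  let x' : 𝒳.p.Fiber (PT T (Y.{u} l)).left := ⟨w, IsHomLift.domain_eq 𝒳.p g χ⟩
  have hx' := isTw_pull σ (isTw_twObj a) χ hχ'
  rw [rs_mapO_tw] at hx'
  obtain ⟨y, hy⟩ := Quotient.exists_rep (φ.toEquiv (PT T (Y.{u} l)).left (IsoNat.cls x'))
  obtain ⟨b, hb⟩ := exists_hom φ g (x' := x') (x := twObj P a) χ hχ' (y' := y) (y := twObj P' a')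
    hy.symm h
  have hy' := isTw_pull σ (isTw_twObj a') b hb
  rw [rs_mapO_tw] at hy'
  rw [← eq_twCls x' hx', ← eq_twCls y hy']
  exact hy.symm

/-- Commutativity of the group of an object is detected by the presheaf. -/
theorem comm_transfer (h : Corresp φ P P')
    (hc : ∀ g g' : Vert P P (Over.mk (𝟙 T)), g * g' = g' * g) :
    ∀ g g' : Vert P' P' (Over.mk (𝟙 T)), g * g' = g' * g := by
  refine comm_iff.2 fun a' b' h01 h12 => ?_
  obtain ⟨a, ha⟩ := exists_transfer' h a'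
  obtain ⟨b, hb⟩ := exists_transfer' h b'
  have e := comm_iff.1 hc a b ((φ.toEquiv _).injective (by
      rw [transfer_pull _ ha, transfer_pull _ hb, h01]))
    ((φ.toEquiv _).injective (by rw [transfer_pull _ ha, transfer_pull _ hb, h12]))
  rw [← ha, ← hb, e]

/-- A commutative group is recovered from the presheaf, through the twists by pairs. -/
theorem exists_mulEquiv_spec (h : Corresp φ P P')
    (hc : ∀ g g' : Vert P P (Over.mk (𝟙 T)), g * g' = g' * g) :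
    ∃ M : Vert P P (Over.mk (𝟙 T)) ≃* Vert P' P' (Over.mk (𝟙 T)), ∀ x x',
      φ.toEquiv (PT T (Y.{u} 2)).left (twCls P ![x, 1]) = twCls P' ![x', 1] ↔ M x = x' := by
  have hc' := comm_transfer h hc
  have pair : ∀ {𝒵 : AlgSt.Cat S} [SepStack 𝒵] {Q : FibCat.overCat T ⥤ᵇ 𝒵}
      (_ : ∀ g g' : Vert Q Q (Over.mk (𝟙 T)), g * g' = g' * g)
      (a b : Fin 2 → Vert Q Q (Over.mk (𝟙 T))),
      twCls Q a = twCls Q b ↔ a 0 * (a 1)⁻¹ = b 0 * (b 1)⁻¹ := by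
    intro 𝒵 _ Q hq a b
    letI : CommGroup (Vert Q Q (Over.mk (𝟙 T))) :=
      { (inferInstance : Group (Vert Q Q (Over.mk (𝟙 T)))) with mul_comm := hq }
    rw [twCls_eq_iff]
    constructor
    · rintro ⟨c, d, hcd⟩
      have e0 := hcd 0
      have e1 := hcd 1
      have e0' : a 0 = c * b 0 * d⁻¹ := eq_mul_inv_of_mul_eq e0.symm
      have e1' : a 1 = c * b 1 * d⁻¹ := eq_mul_inv_of_mul_eq e1.symm
      rw [e0', e1']
      rw [mul_inv_rev, mul_inv_rev, inv_inv, mul_assoc (c * b 0), inv_mul_cancel_left,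
        mul_comm c (b 0), mul_assoc, mul_comm c, inv_mul_cancel_right]
    · intro e
      refine ⟨1, (a 1)⁻¹ * b 1, fun i => ?_⟩
      fin_cases i
      · change 1 * b 0 = a 0 * ((a 1)⁻¹ * b 1)
        rw [← mul_assoc, e, inv_mul_cancel_right, one_mul]
      · change 1 * b 1 = a 1 * ((a 1)⁻¹ * b 1)
        rw [mul_inv_cancel_left, one_mul]
  have ex : ∀ x, ∃ x', φ.toEquiv (PT T (Y.{u} 2)).left (twCls P ![x, 1]) = twCls P' ![x', 1] := by
    intro x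
    obtain ⟨a', ha'⟩ := exists_transfer h ![x, 1]
    exact ⟨a' 0 * (a' 1)⁻¹, ha'.trans ((pair hc' _ _).2 (by simp))⟩
  choose β hβ using ex
  have inj : Function.Injective β := fun x y e => by
    have := (φ.toEquiv _).injective ((hβ x).trans (e ▸ (hβ y).symm))
    simpa using (pair hc _ _).1 this
  have surj : Function.Surjective β := fun x' => by
    obtain ⟨a, ha⟩ := exists_transfer' h ![x', 1]
    refine ⟨a 0 * (a 1)⁻¹, ?_⟩
    have h1 : twCls P ![a 0 * (a 1)⁻¹, 1] = twCls P a := (pair hc _ _).2 (by simp)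
    have := (hβ (a 0 * (a 1)⁻¹)).symm.trans (h1 ▸ ha)
    simpa using (pair hc' _ _).1 this
  have mul : ∀ x y, β (x * y) = β x * β y := fun x y => by
    obtain ⟨a', ha'⟩ := exists_transfer h ![x * y, y, 1]
    have key : ∀ (σ : Fin 2 → Fin 3) (z : Vert P P (Over.mk (𝟙 T))),
        (![x * y, y, 1] : Fin 3 → _) (σ 0) * ((![x * y, y, 1] : Fin 3 → _) (σ 1))⁻¹ = z →
        β z = a' (σ 0) * (a' (σ 1))⁻¹ := by
      intro σ z hz
      have h1 := transfer_pull σ ha'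
      rw [(pair hc (![x * y, y, 1] ∘ σ) ![z, 1]).2 (by simpa using hz)] at h1
      simpa using (pair hc' _ _).1 ((hβ z).symm.trans h1)
    rw [key ![0, 2] (x * y) (by simp), key ![0, 1] x (by simp), key ![1, 2] y (by simp)]
    simp [mul_assoc]
  refine ⟨MulEquiv.ofBijective (MonoidHom.mk' β mul) ⟨inj, surj⟩, fun x x' => ⟨fun e => ?_, ?_⟩⟩
  · change β x = x'
    simpa using (pair hc' _ _).1 ((hβ x).symm.trans e)
  · rintro rfl
    exact hβ x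

/-- A commutative group is recovered from the presheaf. -/
theorem exists_mulEquiv (h : Corresp φ P P')
    (hc : ∀ g g' : Vert P P (Over.mk (𝟙 T)), g * g' = g' * g) :
    Nonempty (Vert P P (Over.mk (𝟙 T)) ≃* Vert P' P' (Over.mk (𝟙 T))) :=
  let ⟨M, _⟩ := exists_mulEquiv_spec h hc
  ⟨M⟩

end Transfer

section Fibre

variable [hX : SepStack 𝒳]

/-- Automorphisms in a fibre and vertical automorphisms of a slice functor. -/
theorem exists_aut_mulEquiv (η : 𝒳.p.Fiber T) (P : FibCat.overCat T ⥤ᵇ 𝒳)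
    (i : P.obj (topObj T) ≅ η.1) (hi : 𝒳.p.IsHomLift (𝟙 T) i.hom) :
    Nonempty (Aut η ≃* Vert P P (Over.mk (𝟙 T))) := by
  let p : 𝒳.p.Fiber T := ⟨P.obj (topObj T), P.w_obj _⟩
  let e : p ≅ η :=
    { hom := ⟨i.hom, hi⟩
      inv := ⟨i.inv, @IsHomLift.lift_id_inv _ _ _ _ 𝒳.p T _ _ i hi⟩
      hom_inv_id := Fiber.hom_ext i.hom_inv_id
      inv_hom_id := Fiber.hom_ext i.inv_hom_id }
  refine ⟨(e.symm.conjAut).trans
    { toFun := fun α => ⟨α.inv.1, α.inv.2⟩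
      invFun := fun v =>
        { hom := ⟨(v⁻¹).1, (v⁻¹).2⟩
          inv := ⟨v.1, v.2⟩
          hom_inv_id := Fiber.hom_ext (congrArg Subtype.val (inv_mul_cancel v))
          inv_hom_id := Fiber.hom_ext (congrArg Subtype.val (mul_inv_cancel v)) }
      left_inv := fun α => Aut.ext (Fiber.hom_ext ?_)
      right_inv := fun v => rfl
      map_mul' := fun α β => rfl }⟩
  have h1 : (⟨α.inv.1, α.inv.2⟩ : Vert P P (Over.mk (𝟙 T)))⁻¹ = ⟨α.hom.1, α.hom.2⟩ :=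
    inv_eq_of_mul_eq_one_right (Subtype.ext (congrArg Subtype.val α.inv_hom_id))
  exact congrArg Subtype.val h1

lemma exists_slice (η : 𝒳.p.Fiber T) :
    ∃ (P : FibCat.overCat T ⥤ᵇ 𝒳) (i : P.obj (topObj T) ≅ η.1), 𝒳.p.IsHomLift (𝟙 T) i.hom := by
  have := isFibered_of_fibGrpd hX.isStack.1
  obtain ⟨P, i, -, hi⟩ := exists_fromOver (𝒳 := 𝒳) η.2
  exact ⟨P, i, hi⟩

variable [hY : SepStack 𝒴] {φ : IsoNat.FIso 𝒳 𝒴} {η : 𝒳.p.Fiber T} {η' : 𝒴.p.Fiber T}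

theorem aut_comm_transfer (hη : φ.toEquiv T (IsoNat.cls η) = IsoNat.cls η')
    (h : ∀ s t : Aut η, s * t = t * s) : ∀ s t : Aut η', s * t = t * s := by
  obtain ⟨P, i, hi⟩ := exists_slice η
  obtain ⟨P', i', hi'⟩ := exists_slice η'
  obtain ⟨E⟩ := exists_aut_mulEquiv η P i hi
  obtain ⟨E'⟩ := exists_aut_mulEquiv η' P' i' hi'
  have hc := comm_transfer (corresp_of_top hY.isStack.1 hη i hi i' hi') (fun g g' =>
    E.symm.injective (by rw [map_mul, map_mul]; exact h _ _))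
  exact fun s t => E'.injective (by rw [map_mul, map_mul]; exact hc _ _)

theorem nonempty_aut_mulEquiv (hη : φ.toEquiv T (IsoNat.cls η) = IsoNat.cls η')
    (h : ∀ s t : Aut η, s * t = t * s) : Nonempty (Aut η ≃* Aut η') := by
  obtain ⟨P, i, hi⟩ := exists_slice η
  obtain ⟨P', i', hi'⟩ := exists_slice η'
  obtain ⟨E⟩ := exists_aut_mulEquiv η P i hi
  obtain ⟨E'⟩ := exists_aut_mulEquiv η' P' i' hi'
  obtain ⟨M⟩ := exists_mulEquiv (corresp_of_top hY.isStack.1 hη i hi i' hi') (fun g g' =>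
    E.symm.injective (by rw [map_mul, map_mul]; exact h _ _))
  exact ⟨(E.trans M).trans E'.symm⟩

theorem isAutAbelian_transfer (hη : φ.toEquiv T (IsoNat.cls η) = IsoNat.cls η')
    (h : IsoNat.IsAutAbelian η) : IsoNat.IsAutAbelian η' := by
  intro T' y a
  let g : T' ⟶ T := eqToHom y.2.symm ≫ 𝒴.p.map a ≫ eqToHom η'.2
  have hg : 𝒴.p.IsHomLift g a := IsHomLift.of_fac' 𝒴.p g a y.2 η'.2 (by simp [g])
  obtain ⟨x, hx⟩ := Quotient.exists_rep ((φ.toEquiv T').symm (IsoNat.cls y))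
  have hxy : φ.toEquiv T' (IsoNat.cls x) = IsoNat.cls y :=
    (congrArg (φ.toEquiv T') hx).trans ((φ.toEquiv T').apply_symm_apply _)
  obtain ⟨b, -⟩ := exists_hom (symm φ hX.isStack.1 hY.isStack.1) g (x' := y) (x := η') a hg
    (y' := x) (y := η) ((Equiv.symm_apply_eq _).2 hxy.symm) ((Equiv.symm_apply_eq _).2 hη.symm)
  exact aut_comm_transfer hxy (h T' x b)

end Fibre

section Separated

variable [hX : SepStack 𝒳]

/-- A disjoint union of the two copies over the doubled axes. -/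
def twoCopies (T : Over S) (k : ℕ) : Over (PT T (Y.{u} k)).left :=
  Over.mk (Over.homMk (Sigma.desc fun a : ULift.{u} Bool => (leg (T := T) (k := k) a.down).left.left) rfl :
    Over.mk ((Sigma.desc fun a : ULift.{u} Bool => (leg (T := T) (k := k) a.down).left.left) ≫
      (PT T (Y.{u} k)).left.hom) ⟶ (PT T (Y.{u} k)).left)

/-- Separatedness of the presheaf kills automorphisms. -/
theorem vert_eq_one_of_separated
    (hs : ∀ (T T' : Over S) (π : T' ⟶ T) [Flat π.left] [Surjective π.left]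
      [LocallyOfFinitePresentation π.left] (x₁ x₂ : 𝒳.p.Fiber T) (x₁' x₂' : 𝒳.p.Fiber T')
      (a₁ : x₁'.1 ⟶ x₁.1) (a₂ : x₂'.1 ⟶ x₂.1), 𝒳.p.IsHomLift π a₁ → 𝒳.p.IsHomLift π a₂ →
      Nonempty (x₁' ≅ x₂') → Nonempty (x₁ ≅ x₂))
    (P : FibCat.overCat T ⥤ᵇ 𝒳) (g : Vert P P (Over.mk (𝟙 T))) : g = 1 := by
  let k := 2
  let c := (PT T (Y.{u} k)).left
  let D := twoCopies T k
  let ξ₁ := twObj P (![g, 1] : Fin k → _)
  let ξ₂ := twObj P (![1, 1] : Fin k → _)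
  have := isFibered_of_fibGrpd hX.isStack.1
  obtain ⟨Q₁, i₁, -, hi₁⟩ := exists_fromOver (𝒳 := 𝒳) ξ₁.2
  obtain ⟨Q₂, i₂, -, hi₂⟩ := exists_fromOver (𝒳 := 𝒳) ξ₂.2
  let f₀ : ULift.{u} Bool → ((PT T (U.{u} k)).left ⟶ c) :=
    fun a => (leg (T := T) (k := k) a.down).left
  let d : ULift.{u} Bool → Over c := fun a => Over.mk (f₀ a)
  let fc : ∀ a, d a ⟶ D := fun a => Over.homMk (Over.homMk
    (Sigma.ι (fun _ : ULift.{u} Bool => (PT T (U.{u} k)).left.left) a) (by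
      change _ ≫ (Sigma.desc _) ≫ _ = _
      rw [Sigma.ι_desc_assoc]
      exact Over.w (f₀ a))) (Over.OverMorphism.ext (Sigma.ι_desc _ _))
  have hi : ∀ a, IsOpenImmersion (fc a).left.left := fun a =>
    inferInstanceAs (IsOpenImmersion
      (Sigma.ι (fun _ : ULift.{u} Bool => (PT T (U.{u} k)).left.left) a))
  have hfc : IsCov fc := ⟨fun a => have := hi a; inferInstance,
    fun a => have := hi a; inferInstance, fun z => by
      obtain ⟨⟨a, t⟩, rfl⟩ := (sigmaMk (fun _ : ULift.{u} Bool => (PT T (U.{u} k)).left.left)).surjective z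
      refine ⟨a, t, ?_⟩
      rw [sigmaMk_mk]
      rfl⟩
  have hφ : ∀ a, ∃ φ : Q₁.obj (d a) ⟶ Q₂.obj (d a), 𝒳.p.IsHomLift (𝟙 (d a).left) φ := by
    intro a
    have hh : ∀ {ζ : 𝒳.obj} (Q : FibCat.overCat c ⥤ᵇ 𝒳) (i : Q.obj (topObj c) ≅ ζ),
        𝒳.p.IsHomLift (𝟙 c) i.hom → (∃ e : P.obj (PT T (U.{u} k)) ⟶ ζ,
          𝒳.p.IsHomLift (f₀ a) e) →
        ∃ κ : Q.obj (d a) ≅ P.obj (PT T (U.{u} k)),
          𝒳.p.IsHomLift (𝟙 (PT T (U.{u} k)).left) κ.hom := by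
      rintro ζ Q i hi' ⟨e, he⟩
      have : 𝒳.p.IsHomLift (f₀ a) (Q.map (toTop (d a)) ≫ i.hom) :=
        lift_comp_id (g := f₀ a) (map_lift' Q (toTop (d a))) hi'
      obtain ⟨κ, hκ, -⟩ :=
        exists_vertIso hX.isStack.1 (f₀ a) (Q.map (toTop (d a)) ≫ i.hom) e
      exact ⟨κ, hκ⟩
    obtain ⟨κ₁, hκ₁⟩ := hh Q₁ i₁ hi₁ ((isLT_of_isTw (isTw_twObj _)).2 a.down)
    obtain ⟨κ₂, hκ₂⟩ := hh Q₂ i₂ hi₂ ((isLT_of_isTw (isTw_twObj _)).2 a.down)
    exact ⟨κ₁.hom ≫ κ₂.inv, homLift_id_comp hκ₁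
      (@IsHomLift.lift_id_inv _ _ _ _ 𝒳.p _ _ _ κ₂ hκ₂)⟩
  choose φ hφ' using hφ
  obtain ⟨Φ, -⟩ := exists_glue hX.isStack hfc (fun a => (⟨φ a, hφ' a⟩ : Vert Q₁ Q₂ (d a)))
    fun a b e n n' w => by
      have w' : n.left.left ≫ (fc a).left.left = n'.left.left ≫ (fc b).left.left :=
        congrArg (fun m => m.left.left) w
      by_cases hab : a = b
      · subst hab
        have := hi a
        obtain rfl : n = n' := Over.OverMorphism.ext (Over.OverMorphism.ext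
          ((cancel_mono (fc a).left.left).1 w'))
        rfl
      · have : IsEmpty e.left.left := isEmpty_of_commSq_sigmaι_of_ne ⟨w'⟩ hab
        exact vert_ext (ι := PEmpty.{1}) (d := PEmpty.elim) (f := fun i => i.elim) hX.isStack
          ⟨fun i => i.elim, fun i => i.elim, fun z => isEmptyElim z⟩ (fun i => i.elim)
  have : Flat D.hom.left := by
    change Flat (Sigma.desc _)
    exact IsZariskiLocalAtSource.sigmaDesc (P := @Flat) fun a => isCov_leg.flat a.down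
  have : LocallyOfFinitePresentation D.hom.left := by
    change LocallyOfFinitePresentation (Sigma.desc _)
    exact IsZariskiLocalAtSource.sigmaDesc (P := @LocallyOfFinitePresentation)
      fun a => isCov_leg.lfp a.down
  have : Surjective D.hom.left := ⟨fun z => by
    obtain ⟨a, t, ht⟩ := (isCov_leg (T := T) (k := k)).surj z
    refine ⟨Sigma.ι (fun _ : ULift.{u} Bool => (PT T (U.{u} k)).left.left) ⟨a⟩ t, ?_⟩
    refine (Scheme.Hom.comp_apply (Sigma.ι (fun _ : ULift.{u} Bool => (PT T (U.{u} k)).left.left) ⟨a⟩)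
      (Sigma.desc fun a : ULift.{u} Bool => (leg (T := T) (k := k) a.down).left.left) t).symm.trans ?_
    rw [Sigma.ι_desc]
    exact ht⟩
  have := Φ.2
  have := isIso_of_fibGrpd hX.isStack.1 (𝟙 D.left) Φ.1
  obtain ⟨E⟩ := hs c D.left D.hom ξ₁ ξ₂ ⟨Q₁.obj D, Q₁.w_obj D⟩ ⟨Q₂.obj D, Q₂.w_obj D⟩
    (Q₁.map (toTop D) ≫ i₁.hom) (Q₂.map (toTop D) ≫ i₂.hom)
    (lift_comp_id (g := D.hom) (map_lift' Q₁ (toTop D)) hi₁)
    (lift_comp_id (g := D.hom) (map_lift' Q₂ (toTop D)) hi₂)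
    (Quotient.exact (cls_eq_of_hom (x := ⟨Q₁.obj D, Q₁.w_obj D⟩) (y := ⟨Q₂.obj D, Q₂.w_obj D⟩)
      Φ.1 Φ.2))
  obtain ⟨a, b, hab⟩ := twCls_eq_iff.1 (Quotient.sound ⟨E⟩ : twCls P (![g, 1] : Fin k → _) =
    twCls P (![1, 1] : Fin k → _))
  have h0 : a * 1 = g * b := hab 0
  have h1 : a * 1 = 1 * b := hab 1
  rw [one_mul] at h1
  exact mul_right_cancel (b := b) (h0.symm.trans (h1.trans (one_mul b).symm))

theorem isClean_of_separated
    (hs : ∀ (T T' : Over S) (π : T' ⟶ T) [Flat π.left] [Surjective π.left]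
      [LocallyOfFinitePresentation π.left] (x₁ x₂ : 𝒳.p.Fiber T) (x₁' x₂' : 𝒳.p.Fiber T')
      (a₁ : x₁'.1 ⟶ x₁.1) (a₂ : x₂'.1 ⟶ x₂.1), 𝒳.p.IsHomLift π a₁ → 𝒳.p.IsHomLift π a₂ →
      Nonempty (x₁' ≅ x₂') → Nonempty (x₁ ≅ x₂)) (η : 𝒳.obj) : IsoNat.IsClean η := by
  intro x _ s hs'
  let p : 𝒳.p.Fiber (𝒳.p.obj x) := ⟨x, rfl⟩
  obtain ⟨P, i, hi⟩ := exists_slice p
  obtain ⟨E⟩ := exists_aut_mulEquiv p P i hi
  have hl : 𝒳.p.IsHomLift (𝟙 (𝒳.p.obj x)) s :=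
    IsHomLift.of_fac' 𝒳.p _ s rfl rfl (by simp [hs'])
  have := isIso_of_fibGrpd hX.isStack.1 (𝟙 (𝒳.p.obj x)) s
  let α : Aut p :=
    { hom := ⟨s, hl⟩
      inv := ⟨(asIso s).inv, @IsHomLift.lift_id_inv _ _ _ _ 𝒳.p _ _ _ (asIso s) hl⟩
      hom_inv_id := Fiber.hom_ext (asIso s).hom_inv_id
      inv_hom_id := Fiber.hom_ext (asIso s).inv_hom_id }
  have h1 : α = 1 := E.injective ((vert_eq_one_of_separated hs P (E α)).trans (map_one E).symm)
  exact congrArg (fun β : Aut p => β.hom.1) h1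

theorem separated_of_clean (hcl : ∀ η : 𝒳.obj, IsoNat.IsClean η)
    (T T' : Over S) (π : T' ⟶ T) [Flat π.left] [Surjective π.left]
    [LocallyOfFinitePresentation π.left] (x₁ x₂ : 𝒳.p.Fiber T) (x₁' x₂' : 𝒳.p.Fiber T')
    (a₁ : x₁'.1 ⟶ x₁.1) (a₂ : x₂'.1 ⟶ x₂.1) (h₁ : 𝒳.p.IsHomLift π a₁)
    (h₂ : 𝒳.p.IsHomLift π a₂) (he : Nonempty (x₁' ≅ x₂')) : Nonempty (x₁ ≅ x₂) := by
  obtain ⟨e⟩ := he
  have uniq : ∀ {U : Over S} {a b : 𝒳.obj} (p q : a ⟶ b), 𝒳.p.IsHomLift (𝟙 U) p →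
      𝒳.p.IsHomLift (𝟙 U) q → p = q := by
    intro U a b p q hp hq
    have ha : 𝒳.p.obj a = U := IsHomLift.domain_eq 𝒳.p (𝟙 U) p
    have := isIso_of_fibGrpd hX.isStack.1 (𝟙 U) q
    have hl : 𝒳.p.IsHomLift (𝟙 U) (p ≫ (asIso q).inv) :=
      homLift_id_comp hp (@IsHomLift.lift_id_inv _ _ _ _ 𝒳.p U _ _ (asIso q) hq)
    have h1 : p ≫ (asIso q).inv = 𝟙 a := hcl a a (𝟙 a) _ (by
      rw [@IsHomLift.fac' _ _ _ _ 𝒳.p _ _ _ _ (𝟙 U) (p ≫ (asIso q).inv) hl]; simp)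
    rw [← Category.id_comp q, ← h1, Category.assoc]
    simp
  obtain ⟨Q₁, i₁, hi₁⟩ := exists_slice x₁
  obtain ⟨Q₂, i₂, hi₂⟩ := exists_slice x₂
  let d : Over T := Over.mk π
  let f : PUnit.{1} → (d ⟶ Over.mk (𝟙 T)) := fun _ => Over.homMk π (Category.comp_id _)
  have hf : IsCov f := ⟨fun _ => ‹Flat π.left›, fun _ => ‹LocallyOfFinitePresentation π.left›,
    fun z => ⟨⟨⟩, π.left.surjective z⟩⟩
  have hQ₁ : 𝒳.p.IsHomLift π (Q₁.map (toTop d) ≫ i₁.hom) :=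
    lift_comp_id (g := π) (map_lift' Q₁ (toTop d)) hi₁
  have hQ₂ : 𝒳.p.IsHomLift π (Q₂.map (toTop d) ≫ i₂.hom) :=
    lift_comp_id (g := π) (map_lift' Q₂ (toTop d)) hi₂
  obtain ⟨j₁, hj₁, -⟩ := exists_vertIso hX.isStack.1 π (Q₁.map (toTop d) ≫ i₁.hom) a₁
  obtain ⟨j₂, hj₂, -⟩ := exists_vertIso hX.isStack.1 π a₂ (Q₂.map (toTop d) ≫ i₂.hom)
  let φ : Vert Q₁ Q₂ d :=
    ⟨j₁.hom ≫ e.hom.1 ≫ j₂.hom, homLift_id_comp hj₁ (homLift_id_comp e.hom.2 hj₂)⟩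
  obtain ⟨Φ, -⟩ := exists_glue hX.isStack hf (fun _ => φ)
    (fun _ _ e₀ n n' _ => Subtype.ext (uniq _ _ (res hX.isStack.1 n φ).2 (res hX.isStack.1 n' φ).2))
  exact Quotient.exact (cls_eq_of_hom (x := x₁) (y := x₂) (i₁.inv ≫ Φ.1 ≫ i₂.hom)
    (homLift_id_comp (@IsHomLift.lift_id_inv _ _ _ _ 𝒳.p T _ _ i₁ hi₁)
      (homLift_id_comp Φ.2 hi₂)))

end Separated

section Space

variable [hX : SepStack 𝒳] [hY : SepStack 𝒴]

lemma isClean_of_fibSetoid (hs : FibCat.IsFibSetoid 𝒳.p) (η : 𝒳.obj) : IsoNat.IsClean η := by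
  intro x _ s h
  have := (fibSetoid_iff_faithful.1 hs).2
  exact 𝒳.p.map_injective (h.trans (𝒳.p.map_id x).symm)

lemma fibSetoid_of_clean (h : ∀ η : 𝒳.obj, IsoNat.IsClean η) : FibCat.IsFibSetoid 𝒳.p := by
  refine fibSetoid_iff_faithful.2 ⟨hX.isStack.1, ⟨fun {a b} p q e => ?_⟩⟩
  have hp : 𝒳.p.IsHomLift (𝒳.p.map q) p := e ▸ IsHomLift.map 𝒳.p p
  have := IsHomLift.map 𝒳.p q
  obtain ⟨i, hi, hi'⟩ := exists_vertIso hX.isStack.1 (𝒳.p.map q) p q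
  have h1 : i.hom = 𝟙 a := h a a (𝟙 a) i.hom (by
    rw [@IsHomLift.fac' _ _ _ _ 𝒳.p _ _ _ _ (𝟙 (𝒳.p.obj a)) i.hom hi]; simp)
  rw [← hi', h1, Category.id_comp]

/-- Separatedness of the presheaf transfers. -/
lemma separated_transfer (φ : IsoNat.FIso 𝒳 𝒴) (hcl : ∀ η : 𝒳.obj, IsoNat.IsClean η)
    (T T' : Over S) (π : T' ⟶ T) [Flat π.left] [Surjective π.left]
    [LocallyOfFinitePresentation π.left] (y₁ y₂ : 𝒴.p.Fiber T) (y₁' y₂' : 𝒴.p.Fiber T')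
    (a₁ : y₁'.1 ⟶ y₁.1) (a₂ : y₂'.1 ⟶ y₂.1) (h₁ : 𝒴.p.IsHomLift π a₁)
    (h₂ : 𝒴.p.IsHomLift π a₂) (he : Nonempty (y₁' ≅ y₂')) : Nonempty (y₁ ≅ y₂) := by
  let ψ := symm φ hX.isStack.1 hY.isStack.1
  obtain ⟨x₁', x₁, b₁, hb₁, hx₁', hx₁⟩ := ψ.natural π y₁' y₁ a₁ h₁
  obtain ⟨x₂', x₂, b₂, hb₂, hx₂', hx₂⟩ := ψ.natural π y₂' y₂ a₂ h₂
  have e' : Nonempty (x₁' ≅ x₂') := Quotient.exact
    (hx₁'.symm.trans ((congrArg (ψ.toEquiv T') (Quotient.sound he)).trans hx₂'))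
  have e := separated_of_clean hcl T T' π x₁ x₂ x₁' x₂' b₁ b₂ hb₁ hb₂ e'
  exact Quotient.exact ((ψ.toEquiv T).injective
    (hx₁.trans ((Quotient.sound e).trans hx₂.symm)))

theorem fibSetoid_transfer (φ : IsoNat.FIso 𝒳 𝒴) (hs : FibCat.IsFibSetoid 𝒳.p) :
    FibCat.IsFibSetoid 𝒴.p :=
  fibSetoid_of_clean fun η => isClean_of_separated
    (fun T T' π _ _ _ => separated_transfer φ (isClean_of_fibSetoid hs) T T' π) η

end Space

end Groth.Agent.H14IsoNat
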