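import Mathlib.AlgebraicGeometry.Limits
import Mathlib.AlgebraicGeometry.Gluing
import Mathlib.AlgebraicGeometry.OpenImmersion
import Mathlib.RingTheory.Spectrum.Prime.Topology
import Mathlib.RingTheory.Localization.Away.Basic
import Mathlib.Algebra.Polynomial.Eval.Defs
import Mathlib.RingTheory.Polynomial.Basic

/-!
# The union of coordinate axes, its punctured part, and the doubled axes
-/

set_option autoImplicit false
set_option backward.isDefEq.respectTransparency false
set_option backward.isDefEq.respectTransparency.types false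

universe u

open CategoryTheory CategoryTheory.Limits AlgebraicGeometry Polynomial

noncomputable section

namespace Groth.Agent.H14IsoNat.Axes

variable {k l : ℕ}

/-- The integers, in the universe `u`. -/
abbrev Z₀ : Type u := ULift.{u} ℤ

/-- Polynomials in one variable over the integers. -/
abbrev P₀ : Type u := Polynomial Z₀.{u}

/-- The ring of functions on `k` lines meeting at one point. -/
def ring (k : ℕ) : Subring (Fin k → P₀.{u}) where
  carrier := {p | ∀ i j, constantCoeff (p i) = constantCoeff (p j)}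
  one_mem' := fun i j => by simp
  zero_mem' := fun i j => by simp
  mul_mem' := fun {a b} ha hb i j => by simp only [Pi.mul_apply, map_mul, ha i j, hb i j]
  add_mem' := fun {a b} ha hb i j => by simp only [Pi.add_apply, map_add, ha i j, hb i j]
  neg_mem' := fun {a} ha i j => by simp only [Pi.neg_apply, map_neg, ha i j]

lemma mem_ring {p : Fin k → P₀.{u}} :
    p ∈ ring k ↔ ∀ i j, constantCoeff (p i) = constantCoeff (p j) := Iff.rfl

/-- The `i`-th coordinate. -/
def e (i : Fin k) : ring.{u} k := ⟨Pi.single i X, fun a b => by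
  have h : ∀ a, constantCoeff ((Pi.single i X : Fin k → P₀.{u}) a) = 0 := fun a => by
    by_cases h : a = i
    · subst h; simp
    · simp [h]
  rw [h, h]⟩

/-- The scheme of `k` axes. -/
abbrev U (k : ℕ) : Scheme.{u} := Spec (CommRingCat.of (ring.{u} k))

/-- The line. -/
abbrev A : Scheme.{u} := Spec (CommRingCat.of P₀.{u})

/-- The punctured line. -/
abbrev Gm : Scheme.{u} := Spec (CommRingCat.of (Localization.Away (X : P₀.{u})))

/-- The punctured line in the line. -/
def jX : Gm.{u} ⟶ A :=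
  Spec.map (CommRingCat.ofHom (algebraMap P₀.{u} (Localization.Away (X : P₀.{u}))))

instance : IsOpenImmersion jX.{u} := IsOpenImmersion.of_isLocalization (X : P₀.{u})

lemma range_jX : Set.range jX.{u} = (↑(PrimeSpectrum.basicOpen (X : P₀.{u})) : Set (PrimeSpectrum P₀.{u})) :=
  PrimeSpectrum.localization_away_comap_range (Localization.Away (X : P₀.{u})) _

/-- Restriction to a branch. -/
def evalAt (i : Fin k) : ring.{u} k →+* P₀.{u} :=
  (Pi.evalRingHom (fun _ : Fin k => P₀.{u}) i).comp (ring k).subtype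

@[simp] lemma evalAt_apply (i : Fin k) (p : ring.{u} k) : evalAt i p = p.1 i := rfl

/-- Extension from a branch, constant on the others. -/
def extAt (i : Fin k) : P₀.{u} →+* ring.{u} k :=
  RingHom.codRestrict
    (RingHom.pi fun j => if j = i then RingHom.id _ else C.comp constantCoeff)
    (ring k) fun p a b => by
      have h : ∀ a, constantCoeff ((RingHom.pi (fun j => if j = i then RingHom.id _ else
          (C : Z₀.{u} →+* P₀.{u}).comp constantCoeff) : P₀.{u} →+* (Fin k → P₀.{u})) p a) =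
            constantCoeff p := fun a => by
        change constantCoeff ((if a = i then RingHom.id _ else
          (C : Z₀.{u} →+* P₀.{u}).comp constantCoeff) p) = _
        by_cases h : a = i <;> simp [h]
      rw [h, h]

lemma extAt_apply (i j : Fin k) (p : P₀.{u}) :
    (extAt i p).1 j = if j = i then p else C (constantCoeff p) := by
  change (if j = i then RingHom.id _ else C.comp constantCoeff) p = _
  by_cases h : j = i <;> simp [h]

/-- A branch. -/
def br (i : Fin k) : A.{u} ⟶ U k := Spec.map (CommRingCat.ofHom (evalAt i))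

/-- The retraction to a branch. -/
def ret (i : Fin k) : U.{u} k ⟶ A := Spec.map (CommRingCat.ofHom (extAt i))

/-- The point at the origin. -/
def zero : Spec (CommRingCat.of Z₀.{u}) ⟶ A :=
  Spec.map (CommRingCat.ofHom (constantCoeff : P₀.{u} →+* Z₀.{u}))

/-- The structure map of the line. -/
def toPt : A.{u} ⟶ Spec (CommRingCat.of Z₀.{u}) :=
  Spec.map (CommRingCat.ofHom (C : Z₀.{u} →+* P₀.{u}))

lemma zero_toPt : zero.{u} ≫ toPt = 𝟙 _ := by
  rw [zero, toPt, ← Spec.map_comp, ← Spec.map_id]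
  congr 1
  ext
  simp

lemma br_ret_self (i : Fin k) : br.{u} i ≫ ret i = 𝟙 _ := by
  rw [br, ret, ← Spec.map_comp, ← Spec.map_id]
  congr 1
  refine CommRingCat.hom_ext (RingHom.ext fun p => ?_)
  change (extAt i p).1 i = p
  simp [extAt_apply]

lemma br_ret_ne {i j : Fin k} (h : i ≠ j) : br.{u} i ≫ ret j = toPt ≫ zero := by
  rw [br, ret, zero, toPt, ← Spec.map_comp, ← Spec.map_comp]
  congr 1
  refine CommRingCat.hom_ext (RingHom.ext fun p => ?_)
  change (extAt j p).1 i = C (constantCoeff p)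
  simp [extAt_apply, h]

lemma zero_br (i j : Fin k) : zero.{u} ≫ br i = zero ≫ br j := by
  rw [zero, br, br, ← Spec.map_comp, ← Spec.map_comp]
  congr 1
  refine CommRingCat.hom_ext (RingHom.ext fun p => ?_)
  exact p.2 i j

/-- The punctured `i`-th axis. -/
def gm (i : Fin k) : Gm.{u} ⟶ U k :=
  Spec.map (CommRingCat.ofHom ((algebraMap P₀.{u} (Localization.Away (X : P₀.{u}))).comp (evalAt i)))

lemma gm_eq (i : Fin k) : gm.{u} i = jX ≫ br i := by
  rw [gm, jX, br, ← Spec.map_comp]
  rfl

lemma e_apply_self (i : Fin k) : (e.{u} i).1 i = X := Pi.single_eq_same (M := fun _ => P₀.{u}) i X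

lemma e_apply_ne {i j : Fin k} (h : j ≠ i) : (e.{u} i).1 j = 0 :=
  Pi.single_eq_of_ne (M := fun _ => P₀.{u}) h X

lemma gm_aux (i : Fin k) :
    letI := ((algebraMap P₀.{u} (Localization.Away (X : P₀.{u}))).comp (evalAt i)).toAlgebra
    IsLocalization.Away (e.{u} i) (Localization.Away (X : P₀.{u})) := by
  letI := ((algebraMap P₀.{u} (Localization.Away (X : P₀.{u}))).comp (evalAt i)).toAlgebra
  have hX : IsUnit (algebraMap P₀.{u} (Localization.Away (X : P₀.{u})) X) :=
    IsLocalization.Away.algebraMap_isUnit X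
  refine IsLocalization.Away.mk _ ?_ (fun z => ?_) (fun a b hab => ?_)
  · change IsUnit (algebraMap P₀.{u} _ ((e i).1 i))
    rwa [e_apply_self]
  · obtain ⟨n, q, hq⟩ := IsLocalization.Away.surj (X : P₀.{u}) z
    let a : ring.{u} k := ⟨Pi.single i (q * X), fun a b => by
      have h : ∀ a, constantCoeff ((Pi.single i (q * X) : Fin k → P₀.{u}) a) = 0 := fun a => by
        by_cases h : a = i
        · subst h; simp
        · simp [h]
      rw [h, h]⟩
    refine ⟨n + 1, a, ?_⟩
    change z * (algebraMap P₀.{u} _ ((e i).1 i)) ^ (n + 1) =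
      algebraMap P₀.{u} _ ((Pi.single i (q * X) : Fin k → P₀.{u}) i)
    rw [e_apply_self, Pi.single_eq_same, map_mul, pow_succ, ← mul_assoc, hq]
  · change algebraMap P₀.{u} _ (a.1 i) = algebraMap P₀.{u} _ (b.1 i) at hab
    obtain ⟨⟨_, n, rfl⟩, hn⟩ := (IsLocalization.eq_iff_exists
      (Submonoid.powers (X : P₀.{u})) _).1 hab
    refine ⟨n + 1, Subtype.ext (funext fun j => ?_)⟩
    push_cast
    rw [Pi.mul_apply, Pi.mul_apply, Pi.pow_apply]
    by_cases h : j = i
    · subst h
      rw [e_apply_self, pow_succ']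
      change X * X ^ n * _ = X * X ^ n * _
      rw [mul_assoc, mul_assoc, show X ^ n * a.1 j = X ^ n * b.1 j from hn]
    · rw [e_apply_ne h, zero_pow n.succ_ne_zero, zero_mul, zero_mul]

instance gm_isOpenImmersion (i : Fin k) : IsOpenImmersion (gm.{u} i) :=
  letI := ((algebraMap P₀.{u} (Localization.Away (X : P₀.{u}))).comp (evalAt i)).toAlgebra
  haveI := gm_aux.{u} i
  IsOpenImmersion.of_isLocalization (e.{u} i)

lemma range_gm (i : Fin k) : Set.range (gm.{u} i) = (↑(PrimeSpectrum.basicOpen (e.{u} i)) : Set (PrimeSpectrum (ring.{u} k))) :=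
  letI := ((algebraMap P₀.{u} (Localization.Away (X : P₀.{u}))).comp (evalAt i)).toAlgebra
  haveI := gm_aux.{u} i
  PrimeSpectrum.localization_away_comap_range (Localization.Away (X : P₀.{u})) _

lemma disjoint_gm {i j : Fin k} (h : i ≠ j) {x : Gm.{u}} {y : Gm} :
    gm i x ≠ gm j y := fun hxy => by
  have h1 : gm i x ∈ (↑(PrimeSpectrum.basicOpen (e.{u} i)) : Set (PrimeSpectrum (ring.{u} k))) := range_gm i ▸ ⟨x, rfl⟩
  have h2 : gm i x ∈ (↑(PrimeSpectrum.basicOpen (e.{u} j)) : Set (PrimeSpectrum (ring.{u} k))) := range_gm j ▸ ⟨y, hxy.symm⟩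
  have h0 : e.{u} i * e j = 0 := Subtype.ext (funext fun a => by
    change (e i).1 a * (e j).1 a = 0
    by_cases ha : a = i
    · rw [e_apply_ne (i := j) (ha ▸ h), mul_zero]
    · rw [e_apply_ne ha, zero_mul])
  have h3 : gm i x ∈ (↑(PrimeSpectrum.basicOpen (e.{u} i * e j)) : Set (PrimeSpectrum (ring.{u} k))) := by
    rw [PrimeSpectrum.basicOpen_mul]
    exact ⟨h1, h2⟩
  rw [h0, PrimeSpectrum.basicOpen_zero] at h3
  exact h3

/-- The punctured axes. -/
def O (k : ℕ) : (U.{u} k).Opens := ⨆ i, (gm.{u} i).opensRange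

lemma mem_O {x : U.{u} k} : x ∈ O k ↔ ∃ (i : Fin k) (t : Gm.{u}), gm i t = x := by
  rw [O, TopologicalSpace.Opens.mem_iSup]
  rfl

lemma gm_mem_O (i : Fin k) (t : Gm.{u}) : gm i t ∈ O k := mem_O.2 ⟨i, t, rfl⟩

/-- Functoriality in the set of axes. -/
def pullAt (σ : Fin l → Fin k) : ring.{u} k →+* ring.{u} l :=
  RingHom.codRestrict ((RingHom.pi fun i => Pi.evalRingHom _ (σ i)).comp (ring k).subtype)
    (ring l) fun p a b => p.2 (σ a) (σ b)

/-- A map of axes. -/
def map (σ : Fin l → Fin k) : U.{u} l ⟶ U k := Spec.map (CommRingCat.ofHom (pullAt σ))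

lemma br_map (σ : Fin l → Fin k) (i : Fin l) : br.{u} i ≫ map σ = br (σ i) := by
  rw [br, map, br, ← Spec.map_comp]
  rfl

lemma gm_map (σ : Fin l → Fin k) (i : Fin l) : gm.{u} i ≫ map σ = gm (σ i) := by
  rw [gm_eq, Category.assoc, br_map, gm_eq]

lemma map_mem_O (σ : Fin l → Fin k) {x : U.{u} l} (hx : x ∈ O l) : map σ x ∈ O k := by
  obtain ⟨i, t, rfl⟩ := mem_O.1 hx
  rw [← Scheme.Hom.comp_apply, gm_map]
  exact gm_mem_O _ _

/-- The axes doubled along the punctured axes. -/
abbrev Y (k : ℕ) : Scheme.{u} := pushout (O.{u} k).ι (O k).ι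

instance (k : ℕ) : ∀ {i j : WalkingSpan} (f : i ⟶ j),
    IsOpenImmersion ((span (O.{u} k).ι (O k).ι).map f) := fun {i j} f => by
  cases f with
  | id => simp; infer_instance
  | init a => cases a <;> exact inferInstanceAs (IsOpenImmersion (O k).ι)

/-- The two copies. -/
def u₀ : Bool → (U.{u} k ⟶ Y k)
  | false => pushout.inl _ _
  | true => pushout.inr _ _

instance u₀_isOpenImmersion (a : Bool) : IsOpenImmersion (u₀.{u} (k := k) a) := by
  cases a
  · exact inferInstanceAs (IsOpenImmersion (colimit.ι (span (O k).ι (O k).ι) WalkingSpan.left))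
  · exact inferInstanceAs (IsOpenImmersion (colimit.ι (span (O k).ι (O k).ι) WalkingSpan.right))

lemma u₀_O (a b : Bool) : (O.{u} k).ι ≫ u₀ a = (O k).ι ≫ u₀ b := by
  cases a <;> cases b <;> simp [u₀, pushout.condition]

lemma u₀_surj (y : Y.{u} k) : ∃ a x, u₀ a x = y := by
  obtain ⟨j, x, rfl⟩ := Scheme.IsLocallyDirected.ι_jointly_surjective (span (O.{u} k).ι (O k).ι) y
  rcases j with _ | (_ | _)
  · refine ⟨false, (O k).ι x, ?_⟩
    rw [← Scheme.Hom.comp_apply]
    change ((O k).ι ≫ colimit.ι (span (O k).ι (O k).ι) WalkingSpan.left) x = _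
    have h := colimit.w (span (O.{u} k).ι (O k).ι) WalkingSpan.Hom.fst
    exact Eq.mp (by rfl) (congrArg (fun g : (span (O.{u} k).ι (O k).ι).obj none ⟶
      colimit (span (O.{u} k).ι (O k).ι) => g x) h)
  · exact ⟨false, x, rfl⟩
  · exact ⟨true, x, rfl⟩

lemma u₀_eq_iff {a b : Bool} {x y : U.{u} k} (h : a ≠ b) (e : u₀ a x = u₀ b y) :
    x = y ∧ x ∈ O k := by
  have key : ∀ {x y : U.{u} k}, u₀ false x = u₀ true y → x = y ∧ x ∈ O k := by
    intro x y e
    obtain ⟨j, fi, fj, z, h1, h2⟩ := (Scheme.IsLocallyDirected.ι_eq_ι_iff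
      (span (O.{u} k).ι (O.{u} k).ι) (i := WalkingSpan.left) (j := WalkingSpan.right)).1 e
    rcases j with _ | (_ | _)
    · cases fi; cases fj
      change (O k).ι z = x at h1
      change (O k).ι z = y at h2
      exact ⟨h1.symm.trans h2, h1 ▸ z.2⟩
    · cases fj
    · cases fi
  cases a <;> cases b
  · exact absurd rfl h
  · exact key e
  · exact ⟨(key e.symm).1.symm, (key e.symm).1 ▸ (key e.symm).2⟩
  · exact absurd rfl h

/-- A map of doubled axes. -/
def mapY (σ : Fin l → Fin k) : Y.{u} l ⟶ Y k :=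
  pushout.desc (map σ ≫ u₀ false) (map σ ≫ u₀ true) (by
    let g : (O l).toScheme ⟶ (O k).toScheme :=
      IsOpenImmersion.lift (O k).ι ((O l).ι ≫ map σ) (by
        rintro _ ⟨x, rfl⟩
        rw [Scheme.Opens.range_ι]
        exact map_mem_O σ x.2)
    have hg : g ≫ (O k).ι = (O l).ι ≫ map σ := IsOpenImmersion.lift_fac _ _ _
    rw [← Category.assoc, ← hg, ← Category.assoc, ← hg, Category.assoc, Category.assoc, u₀_O])

lemma u₀_mapY (σ : Fin l → Fin k) (a : Bool) : u₀.{u} a ≫ mapY σ = map σ ≫ u₀ a := by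
  cases a <;> simp [u₀, mapY]

end Groth.Agent.H14IsoNat.Axes
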