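import Groth.Agent.H14IsoNat.NeutralGerbe
import Groth.Agent.H14Quot.QuotStack

/-!
# The classifying stack of a commutative group is determined by its presheaf of classes
-/

set_option autoImplicit false
set_option backward.isDefEq.respectTransparency false
set_option backward.isDefEq.respectTransparency.types false

universe u

open CategoryTheory CategoryTheory.Functor CategoryTheory.Limits AlgebraicGeometry
open MonoidalCategory CartesianMonoidalCategory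

noncomputable section

namespace Groth.Agent.H14IsoNat

open H14Fib H14Stk H14Quot AlgSt MonObj

variable {S : Scheme.{u}}

local notation "K₀" => Scheme.fppfPrecoverage

/-- Local generation passes to a presheaf-equivalent stack. -/
lemma locCovers_transfer {𝒳 𝒴 : AlgSt.Cat S} {T₀ : Over S} {φ : IsoNat.FIso 𝒳 𝒴}
    {P : FibCat.overCat T₀ ⥤ᵇ 𝒳} {P' : FibCat.overCat T₀ ⥤ᵇ 𝒴} (h : Corresp φ P P')
    (hloc : LocCovers (QuotSh.J K₀ S) (fun c : Over T₀ => P.obj c)) :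
    LocCovers (QuotSh.J K₀ S) (fun c : Over T₀ => P'.obj c) := by
  intro ζ
  let y : 𝒴.p.Fiber (𝒴.p.obj ζ) := ⟨ζ, rfl⟩
  obtain ⟨⟨ξ, hξ⟩, hx⟩ := Quotient.exists_rep ((φ.toEquiv _).symm (IsoNat.cls y))
  have hxy : φ.toEquiv _ (IsoNat.cls ⟨ξ, hξ⟩) = IsoNat.cls y :=
    (congrArg (φ.toEquiv _) hx).trans ((φ.toEquiv _).apply_symm_apply _)
  obtain ⟨R, hR, hl⟩ := hloc ξ
  refine ⟨R.pullback (eqToHom hξ.symm), (QuotSh.J K₀ S).pullback_stable _ hR, fun V f hf => ?_⟩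
  obtain ⟨c, m, hm⟩ := hl (f ≫ eqToHom hξ.symm) hf
  have hcV : 𝒳.p.obj (P.obj c) = V := IsHomLift.domain_eq 𝒳.p (f ≫ eqToHom hξ.symm) m
  have hcl : c.left = V := (P.w_obj c).symm.trans hcV
  subst hcl
  have hm' : 𝒳.p.IsHomLift f m := by
    refine IsHomLift.of_fac' 𝒳.p f m hcV hξ ?_
    rw [@IsHomLift.fac' _ _ _ _ 𝒳.p _ _ _ _ (f ≫ eqToHom hξ.symm) m hm]
    simp
  obtain ⟨b, hb⟩ := exists_hom φ f (x' := ⟨P.obj c, P.w_obj c⟩) (x := ⟨ξ, hξ⟩) m hm'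
    (y' := ⟨P'.obj c, P'.w_obj c⟩) (y := y) (h c) hxy
  exact ⟨c, b, hb⟩

section CommAt

variable {𝒳 : AlgSt.Cat S} [hX : SepStack 𝒳] {T₀ : Over S}

/-- The automorphisms at an object of a slice commute. -/
def CommAt (P : FibCat.overCat T₀ ⥤ᵇ 𝒳) (c : Over T₀) : Prop :=
  ∀ g g' : Vert P P c, g * g' = g' * g

lemma commAt_of_iso {P : FibCat.overCat T₀ ⥤ᵇ 𝒳} {c : Over T₀} {x : 𝒳.obj} (κ : P.obj c ≅ x)
    (hκ : 𝒳.p.IsHomLift (𝟙 c.left) κ.hom)
    (h : ∀ a b : x ⟶ x, 𝒳.p.IsHomLift (𝟙 c.left) a → 𝒳.p.IsHomLift (𝟙 c.left) b → a ≫ b = b ≫ a) :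
    CommAt P c := by
  intro g g'
  have hκ' : 𝒳.p.IsHomLift (𝟙 c.left) κ.inv :=
    @IsHomLift.lift_id_inv _ _ _ _ 𝒳.p _ _ _ κ hκ
  have e := h (κ.inv ≫ g.1 ≫ κ.hom) (κ.inv ≫ g'.1 ≫ κ.hom)
    (homLift_id_comp hκ' (homLift_id_comp g.2 hκ)) (homLift_id_comp hκ' (homLift_id_comp g'.2 hκ))
  simp only [Category.assoc, Iso.hom_inv_id_assoc] at e
  rw [cancel_epi, ← Category.assoc, ← Category.assoc, cancel_mono] at e
  exact Subtype.ext e

end CommAt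

variable {G : Over S} [GrpObj G]

/-- The trivial torsor over an object. -/
abbrev trivBG (T : Over S) : (AlgSt.BG K₀ G).obj := triv K₀ G (trivAction G) (toUnit T)

/-- A point of the group attached to an endomorphism of a trivial torsor. -/
def groupElt {T : Over S} (h : trivBG (G := G) T ⟶ trivBG T) : T ⟶ G := secOfHom h ≫ fst G T

lemma secOfHom_eq {T : Over S} (h : trivBG (G := G) T ⟶ trivBG T) (hb : h.base = 𝟙 T) :
    secOfHom h = lift (groupElt h) (𝟙 T) := by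
  apply CartesianMonoidalCategory.hom_ext
  · exact (lift_fst _ _).symm
  · exact ((secOfHom_π h).trans hb).trans (lift_snd _ _).symm

lemma groupElt_comp {T : Over S} (h k : trivBG (G := G) T ⟶ trivBG T) (hb : h.base = 𝟙 T)
    (kb : k.base = 𝟙 T) : groupElt (h ≫ k) = groupElt h * groupElt k := by
  have e : k.top = (G ◁ secOfHom k) ≫ (leftMul G T).act :=
    (congrArg (fun t => t.top) (homOfSec_secOfHom k)).symm
  have e' : secOfHom (h ≫ k) = secOfHom h ≫ k.top := (Category.assoc _ _ _).symm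
  rw [groupElt, e', e, secOfHom_eq h hb, secOfHom_eq k kb]
  simp [leftMul, comp_mul]
  erw [lift_fst, lift_snd_assoc, lift_fst]

lemma triv_comm [IsCommMonObj G] {T : Over S} (h k : trivBG (G := G) T ⟶ trivBG T)
    (hb : h.base = 𝟙 T) (kb : k.base = 𝟙 T) : h ≫ k = k ≫ h := by
  have hk : (h ≫ k).base = 𝟙 T := by
    change h.base ≫ k.base = 𝟙 T
    rw [hb, kb]
    exact Category.id_comp _
  have kh : (k ≫ h).base = 𝟙 T := by
    change k.base ≫ h.base = 𝟙 T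
    rw [hb, kb]
    exact Category.id_comp _
  have e : secOfHom (h ≫ k) = secOfHom (k ≫ h) := by
    rw [secOfHom_eq _ hk, secOfHom_eq _ kh, groupElt_comp h k hb kb, groupElt_comp k h kb hb]
    letI : CommMonoid (T ⟶ G) := Hom.commMonoid
    congr 1
    exact mul_comm _ _
  rw [← homOfSec_secOfHom (h ≫ k), ← homOfSec_secOfHom (k ≫ h)]
  refine QuotObj.hom_ext ?_ ?_
  · change secOfHom (h ≫ k) ≫ _ = secOfHom (k ≫ h) ≫ _
    rw [e]
  · change (G ◁ secOfHom (h ≫ k)) ≫ _ = (G ◁ secOfHom (k ≫ h)) ≫ _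
    rw [e]

section Slice

variable [SepStack (AlgSt.BG K₀ G)] {P : FibCat.overCat (Over.mk (𝟙 S)) ⥤ᵇ AlgSt.BG K₀ G}
  (i : P.obj (topObj (Over.mk (𝟙 S))) ≅ trivBG (Over.mk (𝟙 S)))
  (hi : (AlgSt.BG K₀ G).p.IsHomLift (𝟙 (Over.mk (𝟙 S))) i.hom)

include hi in
lemma exists_iso_triv (c : Over (Over.mk (𝟙 S) : Over S)) :
    ∃ κ : P.obj c ≅ trivBG (G := G) c.left, (AlgSt.BG K₀ G).p.IsHomLift (𝟙 c.left) κ.hom := by
  have hg := (SepStack.isStack (𝒳 := AlgSt.BG K₀ G)).1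
  let m : trivBG (G := G) c.left ⟶ trivBG (Over.mk (𝟙 S)) :=
    homOfSec (lift 1 c.hom) (toUnit_unique _ _)
  have hm : (AlgSt.BG K₀ G).p.IsHomLift c.hom m := IsHomLift.of_fac' _ _ _ rfl rfl (by
    change lift 1 c.hom ≫ snd G _ = 𝟙 _ ≫ c.hom ≫ 𝟙 _
    simp)
  have h1 : (AlgSt.BG K₀ G).p.IsHomLift c.hom (P.map (toTop c) ≫ i.hom) :=
    lift_comp_id (g := c.hom) (map_lift' P (toTop c)) hi
  obtain ⟨κ, hκ, -⟩ := exists_vertIso hg c.hom (P.map (toTop c) ≫ i.hom) m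
  exact ⟨κ, hκ⟩

include hi in
lemma comm_triv [IsCommMonObj G] (c : Over (Over.mk (𝟙 S) : Over S)) : CommAt P c := by
  obtain ⟨κ, hκ⟩ := exists_iso_triv i hi c
  refine commAt_of_iso κ hκ fun a b ha hb => triv_comm a b ?_ ?_
  · exact (@IsHomLift.fac' _ _ _ _ (AlgSt.BG K₀ G).p _ _ _ _ (𝟙 c.left) a ha).trans
      ((Category.id_comp _).trans (Category.id_comp _))
  · exact (@IsHomLift.fac' _ _ _ _ (AlgSt.BG K₀ G).p _ _ _ _ (𝟙 c.left) b hb).trans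
      ((Category.id_comp _).trans (Category.id_comp _))

include hi in
lemma locCovers_triv : LocCovers (QuotSh.J K₀ S) (fun c : Over (Over.mk (𝟙 S) : Over S) => P.obj c) := by
  intro A
  obtain ⟨R₀, hR₀, hs⟩ := A.loc
  obtain ⟨κ, Z, g, rfl⟩ := Presieve.exists_eq_ofArrows R₀
  refine ⟨Sieve.ofArrows _ (fun i : κ => (Over.homMk (g i) rfl : Over.mk (g i ≫ A.base.hom) ⟶ A.base)),
    mem_J_of_family le_rfl hR₀ (fun i => ⟨_, 𝟙 _, _, ⟨i⟩, Category.id_comp _⟩), ?_⟩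
  rintro V f ⟨W, k, _, ⟨j⟩, rfl⟩
  obtain ⟨s, hs₁⟩ := hs (g j) ⟨j⟩
  change s ≫ A.π.left = g j at hs₁
  let σ : Over.mk (g j ≫ A.base.hom) ⟶ A.P := Over.homMk s (by
    change s ≫ A.P.hom = g j ≫ A.base.hom
    rw [← hs₁, Category.assoc, Over.w A.π])
  let c : Over (Over.mk (𝟙 S) : Over S) := Over.mk (Over.mkIdTerminal.from V)
  let m : trivBG (G := G) V ⟶ A := homOfSec (k ≫ σ) (toUnit_unique _ _)
  have hm : (AlgSt.BG K₀ G).p.IsHomLift
      (k ≫ (Over.homMk (g j) rfl : Over.mk (g j ≫ A.base.hom) ⟶ A.base)) m :=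
    IsHomLift.of_fac' _ _ _ rfl rfl (by
      change (k ≫ σ) ≫ A.π = 𝟙 _ ≫ (k ≫ _) ≫ 𝟙 _
      rw [Category.id_comp, Category.comp_id, Category.assoc]
      congr 1
      exact Over.OverMorphism.ext hs₁)
  obtain ⟨κ', hκ'⟩ := exists_iso_triv i hi c
  exact ⟨c, κ'.hom ≫ m, id_comp_lift hκ' hm⟩

end Slice

variable (G) in
/-- The classifying stack of a commutative group is determined by its presheaf of classes. -/
theorem bg_equiv [IsCommMonObj G] {𝒴 : AlgSt.Cat S} [SepStack (AlgSt.BG K₀ G)] [SepStack 𝒴]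
    (φ : IsoNat.FIso (AlgSt.BG K₀ G) 𝒴) :
    ∃ e : AlgSt.BG K₀ G ⥤ᵇ 𝒴, FibCat.IsEquivOver e := by
  let T₀ : Over S := Over.mk (𝟙 S)
  let x : (AlgSt.BG K₀ G).p.Fiber T₀ := ⟨trivBG T₀, rfl⟩
  obtain ⟨P, i, hi⟩ := exists_slice x
  obtain ⟨y, hy⟩ := Quotient.exists_rep (φ.toEquiv T₀ (IsoNat.cls x))
  obtain ⟨P', i', hi'⟩ := exists_slice y
  have hc : Corresp φ P P' :=
    corresp_of_top (SepStack.isStack (𝒳 := 𝒴)).1 hy.symm i hi i' hi'
  exact exists_equiv_of_neutral φ Over.mkIdTerminal hc (comm_triv i hi)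
    (locCovers_triv i hi) (locCovers_transfer hc (locCovers_triv i hi))

end Groth.Agent.H14IsoNat
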