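import Groth.Agent.H14IsoNat.ChartPts
import Groth.Agent.H14AlgSt.LocQ4

/-!
# Locally finitely presented charts correspond
-/

set_option autoImplicit false
set_option backward.isDefEq.respectTransparency false
set_option backward.isDefEq.respectTransparency.types false

universe u

open CategoryTheory CategoryTheory.Functor CategoryTheory.Limits AlgebraicGeometry

noncomputable section

namespace Groth.Agent.H14IsoNat

open H14Fib H14Stk H14AlgSt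

variable {S : Scheme.{u}} {𝒳 𝒴 : AlgSt.Cat S}

/-- The inertia of a category fibred in groupoids is fibred in groupoids. -/
lemma inertia_fibGrpd (h : FibCat.IsFibGrpd 𝒳.p) :
    FibCat.IsFibGrpd (FibCat.inertia (FibCat.toSelf 𝒳)).p where
  exists_lift {o V} f := by
    obtain ⟨w, a, ha⟩ := h.exists_lift (x := o.pt) f
    have hα : 𝒳.p.IsHomLift (𝟙 (𝒳.p.obj o.pt)) o.aut.hom :=
      IsHomLift.of_fac' 𝒳.p _ _ rfl rfl (by rw [show 𝒳.p.map o.aut.hom = 𝟙 _ from o.map_aut]; simp)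
    have := lift_then_vert ha hα
    obtain ⟨e, he, he'⟩ := exists_vertIso h f (a ≫ o.aut.hom) a
    have hw : 𝒳.p.obj w = V := IsHomLift.domain_eq 𝒳.p (𝟙 V) e.hom
    refine ⟨⟨w, e, ?_⟩, ⟨a, he'⟩, IsHomLift.of_fac' _ _ _ hw rfl
      (@IsHomLift.fac' _ _ _ _ 𝒳.p _ _ _ _ f a ha)⟩
    change 𝒳.p.map e.hom = 𝟙 _
    rw [@IsHomLift.fac' _ _ _ _ 𝒳.p _ _ _ _ (𝟙 V) e.hom he]
    simp
  isStronglyCartesian {o₁ o₂} ψ := by
    let f := 𝒳.p.map ψ.hom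
    have : (FibCat.inertia (FibCat.toSelf 𝒳)).p.IsHomLift f ψ :=
      IsHomLift.map (FibCat.inertia (FibCat.toSelf 𝒳)).p ψ
    have : 𝒳.p.IsStronglyCartesian f ψ.hom := h.isStronglyCartesian ψ.hom
    change (FibCat.inertia (FibCat.toSelf 𝒳)).p.IsStronglyCartesian f ψ
    refine ⟨fun {o} g χ hχ => ?_⟩
    have hχ' : 𝒳.p.IsHomLift (g ≫ f) χ.hom := IsHomLift.of_fac' 𝒳.p _ _
      (@IsHomLift.domain_eq _ _ _ _ (FibCat.inertia (FibCat.toSelf 𝒳)).p _ _ _ _ (g ≫ f) χ hχ)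
      rfl (@IsHomLift.fac' _ _ _ _ (FibCat.inertia (FibCat.toSelf 𝒳)).p _ _ _ _ (g ≫ f) χ hχ)
    obtain ⟨m, ⟨hm, hm'⟩, hu⟩ :=
      IsStronglyCartesian.universal_property 𝒳.p f ψ.hom g (g ≫ f) rfl χ.hom
    have hp : ∀ o' : (FibCat.inertia (FibCat.toSelf 𝒳)).obj, 𝒳.p.map o'.aut.hom = 𝟙 _ :=
      fun o' => o'.map_aut
    have hc : o.aut.hom ≫ m = m ≫ o₁.aut.hom := by
      have h₁ : 𝒳.p.IsHomLift g (o.aut.hom ≫ m) :=
        IsHomLift.of_fac' 𝒳.p _ _ (IsHomLift.domain_eq 𝒳.p g m) (IsHomLift.codomain_eq 𝒳.p g m)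
          (by rw [Functor.map_comp, hp, Category.id_comp]; exact IsHomLift.fac' 𝒳.p g m)
      have h₂ : 𝒳.p.IsHomLift g (m ≫ o₁.aut.hom) :=
        IsHomLift.of_fac' 𝒳.p _ _ (IsHomLift.domain_eq 𝒳.p g m) (IsHomLift.codomain_eq 𝒳.p g m)
          (by rw [Functor.map_comp, hp, Category.comp_id]; exact IsHomLift.fac' 𝒳.p g m)
      apply IsStronglyCartesian.ext 𝒳.p f ψ.hom g
      rw [Category.assoc, hm', Category.assoc, ψ.comm, reassoc_of% hm', χ.comm]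
    refine ⟨⟨m, hc⟩, ⟨IsHomLift.of_fac' _ _ _ (IsHomLift.domain_eq 𝒳.p g m)
      (IsHomLift.codomain_eq 𝒳.p g m) (IsHomLift.fac' 𝒳.p g m), FibCat.InertiaObj.hom_ext hm'⟩, ?_⟩
    rintro ⟨m', _⟩ ⟨h1, h2⟩
    exact FibCat.InertiaObj.hom_ext (hu m' ⟨IsHomLift.of_fac' 𝒳.p _ _
      (@IsHomLift.domain_eq _ _ _ _ (FibCat.inertia (FibCat.toSelf 𝒳)).p _ _ _ _ g _ h1)
      (@IsHomLift.codomain_eq _ _ _ _ (FibCat.inertia (FibCat.toSelf 𝒳)).p _ _ _ _ g _ h1)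
      (@IsHomLift.fac' _ _ _ _ (FibCat.inertia (FibCat.toSelf 𝒳)).p _ _ _ _ g _ h1),
      congrArg (·.hom) h2⟩)

variable [hX : SepStack 𝒳] [hY : SepStack 𝒴] {φ : IsoNat.FIso 𝒳 𝒴} {Z U W : Over S}
  {z' : FibCat.overCat Z ⥤ᵇ 𝒳} {x : FibCat.overCat U ⥤ᵇ 𝒳}
  {z : FibCat.overCat Z ⥤ᵇ 𝒴} {y : FibCat.overCat U ⥤ᵇ 𝒴}
  {c : FibCat.overCat W ⥤ᵇ FibCat.fp z y} {g : W ⟶ Z}

/-- An automorphism of a value of a slice. -/
abbrev VAut {T : Over S} (y : FibCat.overCat U ⥤ᵇ 𝒴) (v : T ⟶ U) : Type u :=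
  {δ : y.obj (Over.mk v) ≅ y.obj (Over.mk v) // 𝒴.p.IsHomLift (𝟙 T) δ.hom}

omit hY in
/-- The automorphism given by a point of the pulled back inertia. -/
lemma exists_aut {T W' : Over S} {u' : W' ⟶ U}
    (o : (FibCat.fp (BasedFunctor.comp (AlgSt.overMap u') y) (FibCat.inertiaToBase (FibCat.toSelf 𝒴))).obj)
    (ho : o.obj.fst.left = T) :
    ∀ (v : T ⟶ W') (e : o.obj.fst ≅ (Over.mk v : (FibCat.overCat W').obj)),
      (FibCat.overCat W').p.IsHomLift (𝟙 T) e.hom →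
      ∃ δ : VAut y (v ≫ u'), δ.1.hom =
        (BasedFunctor.comp (AlgSt.overMap u') y).map e.inv ≫ o.obj.iso.hom ≫ o.obj.snd.aut.hom ≫
          o.obj.iso.inv ≫ (BasedFunctor.comp (AlgSt.overMap u') y).map e.hom := by
  intro v e he
  let q := BasedFunctor.comp (AlgSt.overMap u') y
  have ho' : (FibCat.fp q (FibCat.inertiaToBase (FibCat.toSelf 𝒴))).p.obj o = T := ho
  have h1 : 𝒴.p.IsHomLift (𝟙 T) (q.map e.inv) :=
    @BasedFunctor.preserves_isHomLift _ _ _ _ q _ _ _ _ (𝟙 T) e.inv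
      (@IsHomLift.lift_id_inv _ _ _ _ (FibCat.overCat W').p _ _ _ e he)
  have h2 : 𝒴.p.IsHomLift (𝟙 T) (q.map e.hom) :=
    @BasedFunctor.preserves_isHomLift _ _ _ _ q _ _ _ _ (𝟙 T) e.hom he
  have h3 := fp_iso_isHomLift o ho'
  have h4 : 𝒴.p.obj o.obj.snd.pt = T :=
    (fp_snd_obj o).trans ho'
  have h5 : 𝒴.p.IsHomLift (𝟙 T) o.obj.snd.aut.hom :=
    IsHomLift.of_fac' 𝒴.p _ _ h4 h4 (by
      rw [show 𝒴.p.map o.obj.snd.aut.hom = 𝟙 _ from o.obj.snd.map_aut]; simp)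
  refine ⟨⟨q.toFunctor.mapIso e.symm ≪≫ o.obj.iso ≪≫ o.obj.snd.aut ≪≫ o.obj.iso.symm ≪≫
    q.toFunctor.mapIso e, ?_⟩, rfl⟩
  exact homLift_id_comp h1 (homLift_id_comp h3 (homLift_id_comp h5 (homLift_id_comp
    (@IsHomLift.lift_id_inv _ _ _ _ 𝒴.p _ _ _ _ h3) h2)))

omit hY in
/-- The automorphisms of points are natural. -/
lemma aut_nat {T T' W' : Over S} {u' : W' ⟶ U}
    {o o' : (FibCat.fp (BasedFunctor.comp (AlgSt.overMap u') y) (FibCat.inertiaToBase (FibCat.toSelf 𝒴))).obj}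
    {v : T ⟶ W'} {e : o.obj.fst ≅ (Over.mk v : (FibCat.overCat W').obj)}
    (he : (FibCat.overCat W').p.IsHomLift (𝟙 T) e.hom) {v' : T' ⟶ W'}
    {e' : o'.obj.fst ≅ (Over.mk v' : (FibCat.overCat W').obj)}
    (he' : (FibCat.overCat W').p.IsHomLift (𝟙 T') e'.hom)
    {p : T' ⟶ T} (ψ : o' ⟶ o)
    (hψ : (FibCat.fp (BasedFunctor.comp (AlgSt.overMap u') y)
      (FibCat.inertiaToBase (FibCat.toSelf 𝒴))).p.IsHomLift p ψ)
    {δ : VAut y (v ≫ u')} {δ' : VAut y (v' ≫ u')}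
    (hδ : δ.1.hom = (BasedFunctor.comp (AlgSt.overMap u') y).map e.inv ≫ o.obj.iso.hom ≫
      o.obj.snd.aut.hom ≫ o.obj.iso.inv ≫ (BasedFunctor.comp (AlgSt.overMap u') y).map e.hom)
    (hδ' : δ'.1.hom = (BasedFunctor.comp (AlgSt.overMap u') y).map e'.inv ≫ o'.obj.iso.hom ≫
      o'.obj.snd.aut.hom ≫ o'.obj.iso.inv ≫ (BasedFunctor.comp (AlgSt.overMap u') y).map e'.hom) :
    ∃ (h : p ≫ v = v') (h' : p ≫ v ≫ u' = v' ≫ u'),
      δ'.1.hom ≫ y.map (mkHom p h') = y.map (mkHom p h') ≫ δ.1.hom := by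
  let q := BasedFunctor.comp (AlgSt.overMap u') y
  have hμ : (FibCat.overCat W').p.IsHomLift p (e'.inv ≫ ψ.hom.fst ≫ e.hom) :=
    vert_then_lift (@IsHomLift.lift_id_inv _ _ _ _ (FibCat.overCat W').p _ _ _ e' he')
      (lift_then_vert ((fp_isHomLift_iff _ _).1 hψ) he)
  obtain ⟨hl, hv⟩ := left_of_lift (w' := v') (w := v) _ hμ
  refine ⟨hv, (Category.assoc _ _ _).symm.trans (congrArg (· ≫ u') hv), ?_⟩
  have hm : y.map (mkHom p ((Category.assoc _ _ _).symm.trans (congrArg (· ≫ u') hv))) =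
      q.map e'.inv ≫ q.map ψ.hom.fst ≫ q.map e.hom := by
    rw [← q.toFunctor.map_comp, ← q.toFunctor.map_comp]
    exact congrArg y.toFunctor.map (Over.OverMorphism.ext hl.symm)
  have hw : q.map ψ.hom.fst ≫ o.obj.iso.hom = o'.obj.iso.hom ≫ ψ.hom.snd.hom := ψ.hom.w
  have hw' : ψ.hom.snd.hom ≫ o.obj.iso.inv = o'.obj.iso.inv ≫ q.map ψ.hom.fst := by
    rw [Iso.comp_inv_eq, Category.assoc, hw, Iso.inv_hom_id_assoc]
  have hcm : o'.obj.snd.aut.hom ≫ ψ.hom.snd.hom = ψ.hom.snd.hom ≫ o.obj.snd.aut.hom :=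
    ψ.hom.snd.comm
  rw [hm, hδ, hδ']
  have c1 : q.map e'.hom ≫ q.map e'.inv = 𝟙 _ := (q.toFunctor.mapIso e').hom_inv_id
  have c2 : q.map e.hom ≫ q.map e.inv = 𝟙 _ := (q.toFunctor.mapIso e).hom_inv_id
  simp only [q] at c1 c2 hw hw' ⊢
  simp only [Category.assoc, reassoc_of% c1, reassoc_of% c2]
  rw [reassoc_of% hw, ← reassoc_of% hcm, reassoc_of% hw']

theorem lfp_chart (hz : Corresp φ z' z) (hxy : Corresp φ x y)
    (hi : AlgSt.RepByAlgSpWith (AlgSp.LocP @LocallyOfFinitePresentation)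
      (FibCat.inertiaToBase (FibCat.toSelf 𝒴)))
    (hx : AlgSt.RepByAlgSpWith (AlgSp.LocP @LocallyOfFinitePresentation) x)
    (hc : AlgSt.RepByAlgSpWith (AlgSp.LocP @Etale) c)
    (hcs : AlgSt.RepByAlgSpWith AlgSp.IsSurjectiveMor c)
    (j : BasedFunctor.comp c (FibCat.fpFst z y) ≅ AlgSt.overMap g) :
    LocallyOfFinitePresentation g.left := by
  have hXg := hX.isStack.1
  have hYg := hY.isStack.1
  have hfY := fp_fibGrpd (F := z) (G := y) (fibGrpd_overCat Z) (fibGrpd_overCat U) hYg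
  have hfX := fp_fibGrpd (F := z') (G := x) (fibGrpd_overCat Z) (fibGrpd_overCat U) hXg
  -- a chart on the side of `𝒳`
  obtain ⟨W', c', g', hg', ⟨j'⟩, hc', hcs'⟩ := exists_chart_data x z' hx
  have : LocallyOfFinitePresentation g'.left := hg'
  obtain ⟨u', γ', κ', hκ'⟩ := exists_pt j' (𝟙 W') (Category.id_comp g')
  obtain ⟨β'⟩ := exists_viso_fwd hz hxy γ'
  -- the automorphisms over it
  obtain ⟨B, a, h, hh, ⟨ja⟩, ha, has⟩ := exists_chart_data (FibCat.inertiaToBase (FibCat.toSelf 𝒴))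
    (BasedFunctor.comp (AlgSt.overMap u') y) hi
  have : LocallyOfFinitePresentation h.left := hh
  have hfI := fp_fibGrpd (F := BasedFunctor.comp (AlgSt.overMap u') y)
    (G := FibCat.inertiaToBase (FibCat.toSelf 𝒴)) (fibGrpd_overCat W') (inertia_fibGrpd hYg) hYg
  let oB := a.obj (Over.mk (𝟙 B))
  let eB : oB.obj.fst ≅ (Over.mk h : (FibCat.overCat W').obj) :=
    isoApp ja (Over.mk (𝟙 B)) ≪≫ Over.isoMk (Iso.refl _) (by
      change 𝟙 B ≫ h = 𝟙 B ≫ h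
      rfl)
  have heB : (FibCat.overCat W').p.IsHomLift (𝟙 B) eB.hom :=
    homLift_id_comp (isoApp_lift ja (Over.mk (𝟙 B))) (IsHomLift.of_fac' _ _ _ rfl rfl (by simp; rfl))
  obtain ⟨δB, hδB⟩ := exists_aut oB (a.w_obj _) h eB heB
  obtain ⟨βB, hβB⟩ := exists_res hYg h β' (rfl : h ≫ g' = h ≫ g') (rfl : h ≫ u' = h ≫ u')
  let ρ : VIso z y (h ≫ g') (h ≫ u') := ⟨βB.1 ≪≫ δB.1, homLift_id_comp βB.2 δB.2⟩
  have := isFibered_of_fibGrpd hfY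
  obtain ⟨q, iq, -, hiq⟩ := exists_fromOver (𝒳 := FibCat.fp z y) (U := B) (x := ρ.obj) rfl
  obtain ⟨B₂, a₂, h₂, hh₂, ⟨j₂⟩, ha₂, has₂⟩ := exists_chart_data c q hc
  have : Etale h₂.left := hh₂
  obtain ⟨m, e₂, e₂', he₂, he₂'⟩ := exists_components j₂ (Category.id_comp h₂)
  let o₂ := a₂.obj (Over.mk (𝟙 B₂))
  have ho₂ : (FibCat.fp q c).p.obj o₂ = B₂ := a₂.w_obj _
  -- the composite with the atlas
  obtain ⟨um, βm, κm, hκm⟩ := exists_pt j m (rfl : m ≫ g = m ≫ g)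
  let n₂ : (Over.mk h₂ : (FibCat.overCat B).obj) ⟶ topObj B := toTop (Over.mk h₂ : (FibCat.overCat B).obj)
  have hm : m ≫ g = h₂ ≫ h ≫ g' := by
    have hψ : (FibCat.fp z y).p.IsHomLift h₂
        (κm.inv ≫ c.map e₂.inv ≫ o₂.obj.iso.inv ≫ q.map (e₂'.hom ≫ n₂) ≫ iq.hom) :=
      vert_then_lift (@IsHomLift.lift_id_inv _ _ _ _ (FibCat.fp z y).p _ _ _ κm hκm)
        (vert_then_lift (@BasedFunctor.preserves_isHomLift _ _ _ _ c _ _ _ _ (𝟙 B₂) e₂.inv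
          (@IsHomLift.lift_id_inv _ _ _ _ (FibCat.overCat W).p _ _ _ e₂ he₂))
        (vert_then_lift (@IsHomLift.lift_id_inv _ _ _ _ (FibCat.fp z y).p _ _ _ _ (fp_iso_isHomLift o₂ ho₂))
        (lift_then_vert (@BasedFunctor.preserves_isHomLift _ _ _ _ q _ _ _ _ h₂ (e₂'.hom ≫ n₂)
          (vert_then_lift he₂' (overCat_isHomLift n₂))) hiq)))
    exact (isRes_of_hom _ hψ).1.symm
  -- the point of the chart
  obtain ⟨u₁, β₁, κ₁, hκ₁⟩ := exists_pt j (𝟙 W) (Category.id_comp g)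
  obtain ⟨γ₁⟩ := exists_viso_bwd hz hxy β₁
  obtain ⟨W₃, e₃, w', χ₃, he₃, hse₃, hχ₃⟩ := exists_lift_et hfX hc' hcs' (o := γ₁.obj) rfl
  obtain ⟨u₃, γ₃, κ₃, hκ₃⟩ := exists_pt j' w' (rfl : w' ≫ g' = w' ≫ g')
  obtain ⟨t₁, t₂, -⟩ := isRes_of_hom (κ₃.inv ≫ χ₃)
    (vert_then_lift (@IsHomLift.lift_id_inv _ _ _ _ (FibCat.fp z' x).p _ _ _ κ₃ hκ₃) hχ₃)
  obtain ⟨-, t₂', -⟩ := pt_nat w' (Category.comp_id w') κ' hκ' κ₃ hκ₃
  obtain ⟨β₃, hβ₃⟩ := exists_res hYg e₃ β₁ t₁ t₂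
  obtain ⟨β₃', hβ₃'⟩ := exists_res hYg w' β' rfl t₂'
  let δ₃ : VAut y u₃ := ⟨β₃'.1.symm ≪≫ β₃.1,
    homLift_id_comp (@IsHomLift.lift_id_inv _ _ _ _ 𝒴.p _ _ _ _ β₃'.2) β₃.2⟩
  let o₃ : (FibCat.inertia (FibCat.toSelf 𝒴)).obj := ⟨y.obj (Over.mk u₃), δ₃.1, by
    change 𝒴.p.map δ₃.1.hom = 𝟙 _
    rw [@IsHomLift.fac' _ _ _ _ 𝒴.p _ _ _ _ (𝟙 W₃) δ₃.1.hom δ₃.2]
    simp⟩
  let q₁ := BasedFunctor.comp (AlgSt.overMap u') y
  let i₃ : q₁.obj (Over.mk w') ≅ (FibCat.inertiaToBase (FibCat.toSelf 𝒴)).obj o₃ :=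
    y.toFunctor.mapIso (Over.isoMk (Iso.refl _) ((Category.id_comp _).trans t₂'.symm))
  let P₃ : (FibCat.fp q₁ (FibCat.inertiaToBase (FibCat.toSelf 𝒴))).obj :=
    fpObj (Over.mk w') o₃ i₃ rfl (@BasedFunctor.preserves_isHomLift _ _ _ _ y _ _ _ _ (𝟙 W₃) _
      (IsHomLift.of_fac' _ _ _ rfl rfl (by simp; rfl)))
  obtain ⟨δP, hδP⟩ := exists_aut P₃ rfl w' (Iso.refl _) (IsHomLift.id rfl)
  obtain ⟨W₄, e₄, w₄, χ₄, he₄, hse₄, hχ₄⟩ := exists_lift_et hfI ha has (o := P₃) rfl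
  let e₄' : (a.obj (Over.mk w₄)).obj.fst ≅ (Over.mk (w₄ ≫ h) : (FibCat.overCat W').obj) :=
    isoApp ja (Over.mk w₄) ≪≫ Over.isoMk (Iso.refl _) (Category.id_comp _)
  have he₄' : (FibCat.overCat W').p.IsHomLift (𝟙 W₄) e₄'.hom :=
    homLift_id_comp (isoApp_lift ja (Over.mk w₄)) (IsHomLift.of_fac' _ _ _ rfl rfl (by simp; rfl))
  obtain ⟨δ₄, hδ₄⟩ := exists_aut (a.obj (Over.mk w₄)) (a.w_obj _) (w₄ ≫ h) e₄' he₄'
  obtain ⟨-, r₄, nB⟩ := aut_nat heB he₄' (a.map (mkHom w₄ (Category.comp_id w₄)))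
    (map_mkHom_lift a w₄ _) hδB hδ₄
  obtain ⟨s₄, r₄', n₃⟩ := aut_nat (e := Iso.refl _) (IsHomLift.id rfl) he₄' χ₄ hχ₄ hδP hδ₄
  -- the restricted isomorphism
  obtain ⟨βB₄, hβB₄⟩ := exists_res hYg w₄ βB (rfl : w₄ ≫ h ≫ g' = w₄ ≫ h ≫ g') r₄
  let β₄ : VIso z y (w₄ ≫ h ≫ g') ((w₄ ≫ h) ≫ u') :=
    ⟨βB₄.1 ≪≫ δ₄.1, homLift_id_comp βB₄.2 δ₄.2⟩
  obtain ⟨a₁, b₁, eq₁⟩ := id hβB₄
  have resρ : IsRes w₄ ρ β₄ := by
    refine ⟨a₁, b₁, ?_⟩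
    change z.map (mkHom w₄ a₁) ≫ βB.1.hom ≫ δB.1.hom = (βB₄.1.hom ≫ δ₄.1.hom) ≫ y.map (mkHom w₄ b₁)
    exact (Category.assoc _ _ _).symm.trans ((congrArg (· ≫ δB.1.hom) eq₁).trans
      ((Category.assoc _ _ _).trans ((congrArg (βB₄.1.hom ≫ ·) nB.symm).trans (Category.assoc _ _ _).symm)))
  have s₄' : e₄ ≫ w' = w₄ ≫ h := s₄
  have t₄ : e₄ ≫ u₃ = (w₄ ≫ h) ≫ u' := by rw [← s₄', Category.assoc, t₂']
  have res₃' : IsRes e₄ β₃' βB₄ := by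
    obtain ⟨β'', hβ''⟩ := exists_res hYg e₄ β₃'
      (show e₄ ≫ w' ≫ g' = w₄ ≫ h ≫ g' by rw [← Category.assoc, s₄', Category.assoc]) t₄
    have hh : IsRes (e₄ ≫ w') β' βB₄ := by
      rw [s₄']
      exact hβB.trans hβB₄
    have := isRes_unique hYg (hβ₃'.trans hβ'') hh
    subst this
    exact hβ''
  obtain ⟨a₃, b₃, eq₃⟩ := res₃'
  have res₄ : IsRes e₄ β₃ β₄ := by
    refine ⟨a₃, b₃, ?_⟩
    change z.map (mkHom e₄ a₃) ≫ β₃.1.hom = (βB₄.1.hom ≫ δ₄.1.hom) ≫ y.map (mkHom e₄ b₃)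
    have h1 : β₃.1.hom = β₃'.1.hom ≫ δ₃.1.hom := (Iso.hom_inv_id_assoc β₃'.1 β₃.1.hom).symm
    have h2 : y.map (mkHom e₄ b₃) = y.map (mkHom e₄ r₄') ≫ i₃.hom := by
      refine Eq.trans ?_ (y.toFunctor.map_comp _ _)
      exact congrArg y.toFunctor.map (Over.OverMorphism.ext (Category.comp_id _).symm)
    have h3 : i₃.hom ≫ δ₃.1.hom = δP.1.hom ≫ i₃.hom := by
      rw [hδP]
      change i₃.hom ≫ δ₃.1.hom =
        (q₁.map (𝟙 _) ≫ i₃.hom ≫ δ₃.1.hom ≫ i₃.inv ≫ q₁.map (𝟙 _)) ≫ i₃.hom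
      rw [show q₁.map (𝟙 (Over.mk w' : (FibCat.overCat W').obj)) = 𝟙 _ from q₁.toFunctor.map_id _,
        Category.id_comp, Category.comp_id]
      simp only [Category.assoc, Iso.inv_hom_id, Category.comp_id]
    refine (congrArg (z.map (mkHom e₄ a₃) ≫ ·) h1).trans ((Category.assoc _ _ _).symm.trans
      ((congrArg (· ≫ δ₃.1.hom) eq₃).trans ((Category.assoc _ _ _).trans ?_)))
    refine Eq.trans ?_ (Category.assoc _ _ _).symm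
    refine congrArg (βB₄.1.hom ≫ ·) ?_
    refine (congrArg (· ≫ δ₃.1.hom) h2).trans ((Category.assoc _ _ _).trans
      ((congrArg (y.map (mkHom e₄ r₄') ≫ ·) h3).trans ((Category.assoc _ _ _).symm.trans
        ((congrArg (· ≫ i₃.hom) n₃.symm).trans ((Category.assoc _ _ _).trans ?_)))))
    exact congrArg (δ₄.1.hom ≫ ·) h2.symm
  obtain ⟨ψρ, hψρ⟩ := resρ.exists_hom
  obtain ⟨ψβ, hψβ⟩ := (hβ₃.trans res₄).exists_hom
  let e₅ := e₄ ≫ e₃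
  have := lift_then_vert (map_mkHom_lift c e₅ (Category.comp_id e₅)) hκ₁
  obtain ⟨ε, hε, -⟩ := exists_vertIso hfY e₅ (c.map (mkHom e₅ (Category.comp_id e₅)) ≫ κ₁.hom) ψβ
  let n₄ : (Over.mk w₄ : (FibCat.overCat B).obj) ⟶ topObj B := toTop (Over.mk w₄ : (FibCat.overCat B).obj)
  have := lift_then_vert (@BasedFunctor.preserves_isHomLift _ _ _ _ q _ _ _ _ w₄ n₄
    (overCat_isHomLift n₄)) hiq
  have := hψρ
  obtain ⟨ε', hε', -⟩ := exists_vertIso hfY w₄ (q.map n₄ ≫ iq.hom) ψρ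
  let P₄ : (FibCat.fp q c).obj := fpObj (Over.mk w₄) (Over.mk e₅) (ε' ≪≫ ε.symm) rfl
    (homLift_id_comp hε' (@IsHomLift.lift_id_inv _ _ _ _ (FibCat.fp z y).p _ _ _ ε hε))
  obtain ⟨W₅, e₆, w₅, χ₅, he₆, hse₆, hχ₅⟩ := exists_lift_et
    (fp_fibGrpd (F := q) (G := c) (fibGrpd_overCat B) (fibGrpd_overCat W) hfY) ha₂ has₂ (o := P₄) rfl
  obtain ⟨m₅, em, -, hem, -⟩ := exists_components j₂ (rfl : w₅ ≫ h₂ = w₅ ≫ h₂)
  have hm₅ : m₅ = w₅ ≫ m := ((left_of_lift (w' := m₅) (w := m)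
    (em.inv ≫ (a₂.map (mkHom w₅ (Category.comp_id w₅))).hom.snd ≫ e₂.hom)
    (vert_then_lift (@IsHomLift.lift_id_inv _ _ _ _ (FibCat.overCat W).p _ _ _ em hem)
      (lift_then_vert (@BasedFunctor.preserves_isHomLift _ _ _ _ (FibCat.fpSnd q c) _ _ _ _ w₅ _
        (map_mkHom_lift a₂ w₅ (Category.comp_id w₅))) he₂))).2).symm
  have hm₅' : m₅ = e₆ ≫ e₅ := ((left_of_lift (w' := m₅) (w := e₅) (em.inv ≫ χ₅.hom.snd)
    (vert_then_lift (@IsHomLift.lift_id_inv _ _ _ _ (FibCat.overCat W).p _ _ _ em hem)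
      (@BasedFunctor.preserves_isHomLift _ _ _ _ (FibCat.fpSnd q c) _ _ _ _ e₆ χ₅ hχ₅))).2).symm
  -- descent along the covering
  let e₇ := e₆ ≫ e₄ ≫ e₃
  have hE : Etale e₇.left := inferInstanceAs (Etale (e₆.left ≫ e₄.left ≫ e₃.left))
  have hS : Surjective e₇.left := inferInstanceAs (Surjective (e₆.left ≫ e₄.left ≫ e₃.left))
  have hfac : e₇ = w₅ ≫ m := hm₅'.symm.trans hm₅
  have hmg : LocallyOfFinitePresentation (m ≫ g).left := by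
    rw [hm]
    exact inferInstanceAs (LocallyOfFinitePresentation (h₂.left ≫ h.left ≫ g'.left))
  have : LocallyOfFinitePresentation (m.left ≫ g.left) := hmg
  have : LocallyOfFiniteType m.left := locallyOfFiniteType_of_comp m.left g.left
  have hw₅ : LocallyOfFinitePresentation w₅.left := by
    have : LocallyOfFinitePresentation (w₅.left ≫ m.left) := by
      rw [← Over.comp_left, ← hfac]
      infer_instance
    exact H12AlgSp.lfp_of_comp w₅.left m.left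
  refine H12AlgSp.etLocal_lfp.descends e₇.left g.left hE hS ?_
  rw [hfac, Over.comp_left, Category.assoc]
  infer_instance

end Groth.Agent.H14IsoNat
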