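import Groth.Agent.H14IsoNat.SHCritSch

/-!
# Families of lifts glued over a product thickening
-/

set_option autoImplicit false
set_option backward.isDefEq.respectTransparency.types false

universe u

open CategoryTheory AlgebraicGeometry

noncomputable section

namespace Groth.Agent.H14IsoNat

open SHCrit

variable {R : Type u} [CommRing R] (I : Ideal R) (G : Type u)

/-- Families of elements congruent modulo the ideal. -/
def famRing : Subring (G → R) where
  carrier := {f | ∀ g g', f g - f g' ∈ I}
  mul_mem' {a b} ha hb g g' := by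
    have h : (a * b) g - (a * b) g' = a g * (b g - b g') + b g' * (a g - a g') := by
      simp only [Pi.mul_apply]; ring
    rw [h]
    exact I.add_mem (I.mul_mem_left _ (hb g g')) (I.mul_mem_left _ (ha g g'))
  one_mem' g g' := by simp
  add_mem' {a b} ha hb g g' := by
    have h : (a + b) g - (a + b) g' = (a g - a g') + (b g - b g') := by
      simp only [Pi.add_apply]; ring
    rw [h]
    exact I.add_mem (ha g g') (hb g g')
  zero_mem' g g' := by simp
  neg_mem' {a} ha g g' := by
    have h : (-a) g - (-a) g' = -(a g - a g') := by simp only [Pi.neg_apply]; ring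
    rw [h]
    exact I.neg_mem (ha g g')

variable {I G}

/-- Evaluation. -/
def famEv (g : G) : famRing I G →+* R := (Pi.evalRingHom (fun _ => R) g).comp (famRing I G).subtype

/-- The reduction. -/
def famRed (g₀ : G) : famRing I G →+* R ⧸ I := (Ideal.Quotient.mk I).comp (famEv g₀)

lemma famRed_eq (g₀ g : G) : famRed g₀ = (Ideal.Quotient.mk I).comp (famEv g) :=
  RingHom.ext fun f => Ideal.Quotient.eq.2 (f.2 g₀ g)

lemma famRed_surjective (g₀ : G) : Function.Surjective (famRed (I := I) g₀) := fun x => by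
  obtain ⟨r, rfl⟩ := Ideal.Quotient.mk_surjective x
  exact ⟨⟨fun _ => r, fun _ _ => by simp⟩, rfl⟩

lemma famRed_ker (hI : I ^ 2 = ⊥) (g₀ : G) : RingHom.ker (famRed (I := I) g₀) ^ 2 = ⊥ := by
  rw [pow_two, eq_bot_iff, Ideal.mul_le]
  intro a ha b hb
  refine (Submodule.mem_bot _).2 (Subtype.ext (funext fun g => ?_))
  have hmem : ∀ f ∈ RingHom.ker (famRed (I := I) g₀), f.1 g ∈ I := fun f hf => by
    rw [RingHom.mem_ker, famRed_eq g₀ g] at hf
    exact Ideal.Quotient.eq_zero_iff_mem.1 hf
  have h2 := Ideal.mul_mem_mul (hmem a ha) (hmem b hb)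
  rw [← pow_two, hI] at h2
  exact h2

/-- Morphisms from a local scheme agreeing on the thickening glue over the family ring. -/
theorem exists_glue_fam [IsLocalRing R] (hI : I ^ 2 = ⊥) (g₀ : G) {W : Scheme.{u}}
    (h : G → (Spec (CommRingCat.of R) ⟶ W)) (hh : ∀ g, thick I ≫ h g = thick I ≫ h g₀) :
    ∃ h' : Spec (CommRingCat.of (famRing I G)) ⟶ W,
      ∀ g, Spec.map (CommRingCat.ofHom (famEv g)) ≫ h' = h g := by
  obtain ⟨_, ⟨V, hV, rfl⟩, hxV, -⟩ := W.isBasis_affineOpens.exists_subset_of_mem_open
    (Set.mem_univ (h g₀ (IsLocalRing.closedPoint R))) isOpen_univ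
  have hr : ∀ g, Set.range (h g) ⊆ Set.range hV.fromSpec := by
    intro g
    rw [hV.range_fromSpec]
    rintro _ ⟨p, rfl⟩
    refine ((IsLocalRing.specializes_closedPoint p).map (h g).continuous).mem_open V.isOpen ?_
    obtain ⟨t, ht⟩ := Groth.Agent.H8Props.FormallySmoothScheme.comap_mk_surjective hI
      (IsLocalRing.closedPoint R)
    have h1 : (thick I ≫ h g) t = (thick I ≫ h g₀) t := by rw [hh g]
    rw [Scheme.Hom.comp_apply, Scheme.Hom.comp_apply, show thick I t = IsLocalRing.closedPoint R from ht] at h1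
    rw [h1]
    exact hxV
  choose η hη using fun g => Spec.map_surjective (IsOpenImmersion.lift hV.fromSpec (h g) (hr g))
  have hη' : ∀ g, Spec.map (η g) ≫ hV.fromSpec = h g := fun g => by
    rw [hη g, IsOpenImmersion.lift_fac]
  have hmk : ∀ g g', η g ≫ CommRingCat.ofHom (Ideal.Quotient.mk I) =
      η g' ≫ CommRingCat.ofHom (Ideal.Quotient.mk I) := fun g g' => Spec.map_injective (by
    rw [← cancel_mono hV.fromSpec, Spec.map_comp, Spec.map_comp, Category.assoc, Category.assoc,
      hη', hη']
    exact (hh g).trans (hh g').symm)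
  let η' : Γ(W, V) →+* famRing I G :=
    (RingHom.codRestrict (Pi.ringHom fun g => (η g).hom) (famRing I G) fun a g g' =>
      Ideal.Quotient.eq.1 (congr($(congrArg CommRingCat.Hom.hom (hmk g g')) a)))
  refine ⟨Spec.map (CommRingCat.ofHom η') ≫ hV.fromSpec, fun g => ?_⟩
  rw [← Category.assoc, ← Spec.map_comp, ← hη' g]
  rfl

end Groth.Agent.H14IsoNat
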