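import Groth.Agent.H14IsoNat.ChartPts
import Groth.Agent.H14IsoNat.FamRing

/-!
# Smooth charts correspond
-/

set_option autoImplicit false
set_option backward.isDefEq.respectTransparency false
set_option backward.isDefEq.respectTransparency.types false

universe u

open CategoryTheory CategoryTheory.Functor CategoryTheory.Limits AlgebraicGeometry

noncomputable section

namespace Groth.Agent.H14IsoNat

open H14Fib H14Stk H14AlgSt SHCrit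

variable {S : Scheme.{u}} {𝒳 𝒴 : AlgSt.Cat S} [hX : SepStack 𝒳] [hY : SepStack 𝒴]
  {φ : IsoNat.FIso 𝒳 𝒴} {Z U W : Over S}
  {z' : FibCat.overCat Z ⥤ᵇ 𝒳} {x : FibCat.overCat U ⥤ᵇ 𝒳}
  {z : FibCat.overCat Z ⥤ᵇ 𝒴} {y : FibCat.overCat U ⥤ᵇ 𝒴}
  {c : FibCat.overCat W ⥤ᵇ FibCat.fp z y} {g : W ⟶ Z}

theorem smooth_chart (hz : Corresp φ z' z) (hxy : Corresp φ x y)
    (hzs : AlgSt.RepByAlgSpWith (AlgSp.LocP @Smooth) z)
    (hx : AlgSt.RepByAlgSpWith (AlgSp.LocP @Smooth) x)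
    (hc : AlgSt.RepByAlgSpWith (AlgSp.LocP @Etale) c)
    (j : BasedFunctor.comp c (FibCat.fpFst z y) ≅ AlgSt.overMap g)
    [LocallyOfFinitePresentation g.left] : Smooth g.left := by
  refine smooth_of_lifting g.left fun R _ _ _ I hI a' ζ' hcomm => ?_
  have hXg := hX.isStack.1
  have hYg := hY.isStack.1
  let b := ζ' ≫ Z.hom
  let T := Over.mk b
  let T₀ := Over.mk (thick I ≫ b)
  let ι := ιT b I
  let ζ : T ⟶ Z := Over.homMk ζ'
  let a₀ : T₀ ⟶ W := Over.homMk a' (by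
    change a' ≫ W.hom = thick I ≫ ζ' ≫ Z.hom
    rw [← Over.w g, ← Category.assoc, ← Category.assoc, hcomm])
  let ζ₀ := ι ≫ ζ
  have ha₀ : a₀ ≫ g = ζ₀ := Over.OverMorphism.ext hcomm.symm
  obtain ⟨u₀, β₀, κ₀, hκ₀⟩ := exists_pt j a₀ ha₀
  have hI1 : I ≠ ⊤ := fun e => one_ne_zero (α := R) (by
    have h2 : (1 : R) * 1 ∈ I ^ 2 := by
      rw [pow_two]; exact Ideal.mul_mem_mul (e ▸ trivial) (e ▸ trivial)
    rw [hI, one_mul] at h2
    exact h2)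
  obtain ⟨_, hS'⟩ := henselian_quotient R I hI1
  have := hS' inferInstance
  -- lifts of the point of the atlas realising every automorphism
  let G := VIso z z ζ₀ ζ₀
  have hlift : ∀ k : G, ∃ (ζk : T ⟶ Z) (hk : ι ≫ ζk = ζ₀) (θ : z.obj (Over.mk ζk) ≅ z.obj (Over.mk ζ)),
      𝒴.p.IsHomLift (𝟙 T) θ.hom ∧
        z.map (mkHom ι hk) ≫ θ.hom = k.1.hom ≫ z.map (mkHom ι (rfl : ι ≫ ζ = ζ₀)) := fun k =>
    exists_lift_extend hYg b hI hzs (z.w_obj _) (k.1.hom ≫ z.map (mkHom ι (rfl : ι ≫ ζ = ζ₀)))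
      (vert_then_lift k.2 (map_mkHom_lift z ι rfl))
  choose ζk hζk θ hθ hθe using hlift
  let k₀ : G := ⟨Iso.refl _, IsHomLift.id (z.w_obj _)⟩
  obtain ⟨h', hh'⟩ := exists_glue_fam hI k₀ (fun k => (ζk k).left) (fun k =>
    (congrArg CommaMorphism.left (hζk k)).trans (congrArg CommaMorphism.left (hζk k₀)).symm)
  let b' := h' ≫ Z.hom
  let T' := Over.mk b'
  let ζ'' : T' ⟶ Z := Over.homMk h'
  let p : G → (T ⟶ T') := fun k => Over.homMk (Spec.map (CommRingCat.ofHom (famEv (I := I) k))) (by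
    change _ ≫ h' ≫ Z.hom = b
    rw [← Category.assoc, hh' k]
    exact Over.w (ζk k))
  have hp : ∀ k, p k ≫ ζ'' = ζk k := fun k => Over.OverMorphism.ext (hh' k)
  have hred : ∀ k, thick I ≫ Spec.map (CommRingCat.ofHom (famEv (I := I) k)) =
      Spec.map (CommRingCat.ofHom (famRed (I := I) k₀)) := fun k => by
    rw [famRed_eq k₀ k, thick, ← Spec.map_comp]
    rfl
  let eb : T₀ ≅ Over.mk (Spec.map (CommRingCat.ofHom (famRed (I := I) k₀)) ≫ b') :=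
    Over.isoMk (Iso.refl _) (by
      change 𝟙 _ ≫ Spec.map _ ≫ h' ≫ Z.hom = thick I ≫ b
      rw [Category.id_comp, ← hred k₀, Category.assoc]
      exact congrArg (thick I ≫ ·) (Over.w (p k₀)))
  let q₀ : T₀ ⟶ T' := eb.hom ≫ πT b' (famRed k₀)
  have hq : ∀ k, ι ≫ p k = q₀ := fun k =>
    Over.OverMorphism.ext ((hred k).trans (Category.id_comp _).symm)
  have hqζ : q₀ ≫ ζ'' = ζ₀ := by rw [← hq k₀, Category.assoc, hp, hζk]
  obtain ⟨γ₀⟩ := exists_viso_bwd hz hxy β₀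
  obtain ⟨u'', hu'', i'', hi'', -⟩ := exists_lift_extend' hXg b' (famRed k₀) (famRed_surjective k₀)
    (famRed_ker hI k₀) eb hx (o := z'.obj (Over.mk ζ'')) (z'.w_obj _)
    (γ₀.1.inv ≫ z'.map (mkHom q₀ hqζ))
    (vert_then_lift (@IsHomLift.lift_id_inv _ _ _ _ 𝒳.p _ _ _ _ γ₀.2) (map_mkHom_lift z' q₀ hqζ))
  obtain ⟨β''⟩ := exists_viso_fwd hz hxy
    (⟨i''.symm, @IsHomLift.lift_id_inv _ _ _ _ 𝒳.p _ _ _ _ hi''⟩ : VIso z' x ζ'' u'')
  obtain ⟨β₀', hβ₀'⟩ := exists_res hYg q₀ β'' hqζ hu''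
  let k : G := ⟨β₀'.1 ≪≫ β₀.1.symm,
    homLift_id_comp β₀'.2 (@IsHomLift.lift_id_inv _ _ _ _ 𝒴.p _ _ _ _ β₀.2)⟩
  obtain ⟨βk, hβk⟩ := exists_res hYg (p k) β'' (hp k) (rfl : p k ≫ u'' = p k ≫ u'')
  obtain ⟨β₁, hβ₁⟩ := exists_res hYg ι βk (hζk k) (show ι ≫ p k ≫ u'' = u₀ from
    (Category.assoc ι (p k) u'').symm.trans ((congrArg (· ≫ u'') (hq k)).trans hu''))
  have eβ : β₁ = β₀' := isRes_unique hYg (hq k ▸ hβk.trans hβ₁) hβ₀'
  subst eβ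
  let β : VIso z y ζ (p k ≫ u'') := ⟨(θ k).symm ≪≫ βk.1,
    homLift_id_comp (@IsHomLift.lift_id_inv _ _ _ _ 𝒴.p _ _ _ _ (hθ k)) βk.2⟩
  obtain ⟨c₁, d₁, e₁⟩ := hβ₁
  have hres : IsRes ι β β₀ := by
    refine ⟨rfl, d₁, ?_⟩
    have h1 : z.map (mkHom ι (rfl : ι ≫ ζ = ζ₀)) ≫ (θ k).inv = k.1.inv ≫ z.map (mkHom ι c₁) :=
      (Iso.comp_inv_eq _).2 (((Category.assoc _ _ _).trans
        ((congrArg (k.1.inv ≫ ·) (hθe k)).trans (Iso.inv_hom_id_assoc _ _))).symm)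
    refine ((Category.assoc _ _ _).symm.trans ((congrArg (· ≫ βk.1.hom) h1).trans
      ((Category.assoc _ _ _).trans ((congrArg (k.1.inv ≫ ·) e₁).trans ?_))))
    change (β₀.1.hom ≫ β₁.1.inv) ≫ β₁.1.hom ≫ y.map (mkHom ι d₁) = _
    rw [Category.assoc, Iso.inv_hom_id_assoc]
  obtain ⟨ψ, hψ⟩ := hres.exists_hom
  obtain ⟨w, hw, κ, hκ, -⟩ := exists_lift_extend (fp_fibGrpd (fibGrpd_overCat Z) (fibGrpd_overCat U) hYg)
    b hI (repWith_locP_mono (fun _ _ f (_ : Etale f) => (inferInstance : Smooth f)) hc)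
    (o := β.obj) rfl (κ₀.hom ≫ ψ) (vert_then_lift hκ₀ hψ)
  exact ⟨w.left, congrArg CommaMorphism.left hw,
    congrArg CommaMorphism.left (eq_of_iso j κ hκ)⟩

end Groth.Agent.H14IsoNat
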