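import Groth.Agent.H14IsoNat.ChartUnram
import Groth.Agent.H14IsoNat.ChartSmooth
import Groth.Agent.H14IsoNat.ChartLfp
import Groth.Agent.H14AlgSt.DiagDescent
import Groth.Agent.H14AlgSt.FieldPoint
import Groth.Agent.S10527
import Groth.Agent.S10542
import Groth.Agent.S10543
import Groth.Agent.S10544

/-!
# Properties of charts are read off the presheaf of isomorphism classes
-/

set_option autoImplicit false
set_option backward.isDefEq.respectTransparency false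
set_option backward.isDefEq.respectTransparency.types false

universe u

open CategoryTheory CategoryTheory.Functor CategoryTheory.Limits AlgebraicGeometry

noncomputable section

namespace Groth.Agent.H14IsoNat

open H14Fib H14Stk H14AlgSt

local notation "K₀" => Scheme.fppfPrecoverage

variable {S : Scheme.{u}} {𝒳 𝒴 : AlgSt.Cat S} {U V : Over S}

/-- Properties of a chart tested on one etale chart of its base change to an atlas. -/
theorem exists_fp_chart (hY : AlgSt.IsAlgStack K₀ 𝒴) (y : FibCat.overCat U ⥤ᵇ 𝒴) :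
    ∃ (Z W : Over S) (z : FibCat.overCat Z ⥤ᵇ 𝒴) (c : FibCat.overCat W ⥤ᵇ FibCat.fp z y)
      (g : W ⟶ Z), AlgSt.RepByAlgSpWith (AlgSp.LocP @Smooth) z ∧
      AlgSt.RepByAlgSpWith (AlgSp.LocP @Etale) c ∧ AlgSt.RepByAlgSpWith AlgSp.IsSurjectiveMor c ∧
      Nonempty (BasedFunctor.comp c (FibCat.fpFst z y) ≅ AlgSt.overMap g) ∧
      ∀ Q : MorphismProperty Scheme.{u}, H12AlgSp.EtLocal Q →
        AlgSp.IsLocalOnBase (AlgSp.IsFppfCover (S := S)) (AlgSp.LocP Q) → Q g.left →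
          AlgSt.RepByAlgSpWith (AlgSp.LocP Q) y := by
  obtain ⟨Z, z, hz, hzs⟩ := hY.atlas
  have hy := rep1_chart hY y
  obtain ⟨G, e, he⟩ := hy Z z
  obtain ⟨W, p, hpe, hps⟩ := G.property.atlas
  let σ := AlgSt.spMapOfOver (BasedFunctor.comp e (FibCat.fpFst z y))
  obtain ⟨k⟩ := spMapOfOver_eq (BasedFunctor.comp e (FibCat.fpFst z y))
  obtain ⟨g, hg⟩ := (AlgSp.yon S).map_surjective (p ≫ σ)
  let b := BasedFunctor.comp (AlgSt.ofOverCat W) (AlgSt.ofSpMap p)
  refine ⟨Z, W, z, BasedFunctor.comp b e, g, hz, ?_, ?_, ⟨?_⟩, fun Q hQ hloc hgQ => ?_⟩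
  · exact (repWith_comp_equiv_iff he).2
      ((repWith_equiv_comp_iff (ofOverCat_isEquivOver W)).1
        (repWith_locP_of_repWith H12AlgSp.etLocal_etale p hpe))
  · exact (repWith_comp_equiv_iff he).2
      ((repWith_equiv_comp_iff (ofOverCat_isEquivOver W)).1 (repWith_surjective_of_repWith p hps))
  · let m : BasedFunctor.comp (BasedFunctor.comp (AlgSt.ofOverCat W) (AlgSt.ofSpMap (p ≫ σ)))
        (AlgSt.toOverCat Z) ≅ AlgSt.overMap g := by
      rw [← hg]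
      exact mkIso (fun s => Iso.refl _)
        (fun {_ _} φ => (Category.comp_id _).trans ((Category.id_comp _).trans
          (Over.OverMorphism.ext rfl)).symm)
        (fun s => IsHomLift.id rfl)
    exact (Stk.restr b _).mapIso k ≪≫ m
  · refine repWith_of_fppf hloc (baseStable_locP hQ).sourceIsoInv hy
      (repWith_locP_mono smooth_le_flat hz) (repWith_locP_mono smooth_le_lfp hz) hzs
      (repWith_fpFst_of_data (baseStable_locP hQ) z he ?_)
    exact H12AlgSp.locP_of_one_chart hQ g hpe hps (AlgSp.repWith_id @Etale Z)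
      (by rw [Category.comp_id, hg]) hgQ

/-- A slice corresponding to a given one. -/
theorem exists_corresp [hX : SepStack 𝒳] [hY : SepStack 𝒴] (φ : IsoNat.FIso 𝒳 𝒴)
    (z : FibCat.overCat V ⥤ᵇ 𝒴) : ∃ z' : FibCat.overCat V ⥤ᵇ 𝒳, Corresp φ z' z := by
  obtain ⟨η, hη⟩ := Quotient.exists_rep
    ((φ.toEquiv V).symm (IsoNat.cls ⟨z.obj (topObj V), z.w_obj _⟩))
  obtain ⟨z', i, hi⟩ := exists_slice η
  exact ⟨z', corresp_of_top (η := η) (η' := ⟨z.obj (topObj V), z.w_obj _⟩) hY.isStack.1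
    ((Equiv.eq_symm_apply _).1 hη) i hi (Iso.refl _) (IsHomLift.id (z.w_obj _))⟩

lemma corresp_of_objCls [hY : SepStack 𝒴] {φ : IsoNat.FIso 𝒳 𝒴}
    {x : FibCat.overCat U ⥤ᵇ 𝒳} {y : FibCat.overCat U ⥤ᵇ 𝒴}
    (h : φ.toEquiv U (IsoNat.objCls x) = IsoNat.objCls y) : Corresp φ x y :=
  corresp_of_top (η := ⟨x.obj (topObj U), x.w_obj _⟩) (η' := ⟨y.obj (topObj U), y.w_obj _⟩)
    hY.isStack.1 h (Iso.refl _) (IsHomLift.id (x.w_obj _)) (Iso.refl _) (IsHomLift.id (y.w_obj _))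

variable [SepStack 𝒳] [SepStack 𝒴] {φ : IsoNat.FIso 𝒳 𝒴}
  {x : FibCat.overCat U ⥤ᵇ 𝒳} {y : FibCat.overCat U ⥤ᵇ 𝒴}

theorem lfp_transfer (hY : AlgSt.IsAlgStack K₀ 𝒴)
    (hi : AlgSt.RepByAlgSpWith (AlgSp.LocP @LocallyOfFinitePresentation)
      (FibCat.inertiaToBase (FibCat.toSelf 𝒴))) (h : Corresp φ x y)
    (hx : AlgSt.RepByAlgSpWith (AlgSp.LocP @LocallyOfFinitePresentation) x) :
    AlgSt.RepByAlgSpWith (AlgSp.LocP @LocallyOfFinitePresentation) y := by
  obtain ⟨Z, W, z, c, g, hz, hc, hcs, ⟨j⟩, hall⟩ := exists_fp_chart hY y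
  obtain ⟨z', hz'⟩ := exists_corresp φ z
  exact hall _ H12AlgSp.etLocal_lfp (localFppf_of_fpqc (S10527.result S))
    (lfp_chart hz' h hi hx hc hcs j)

theorem smooth_transfer (hY : AlgSt.IsAlgStack K₀ 𝒴)
    (hi : AlgSt.RepByAlgSpWith (AlgSp.LocP @LocallyOfFinitePresentation)
      (FibCat.inertiaToBase (FibCat.toSelf 𝒴))) (h : Corresp φ x y)
    (hx : AlgSt.RepByAlgSpWith (AlgSp.LocP @Smooth) x) :
    AlgSt.RepByAlgSpWith (AlgSp.LocP @Smooth) y := by
  obtain ⟨Z, W, z, c, g, hz, hc, hcs, ⟨j⟩, hall⟩ := exists_fp_chart hY y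
  obtain ⟨z', hz'⟩ := exists_corresp φ z
  have := lfp_chart hz' h hi (repWith_locP_mono smooth_le_lfp hx) hc hcs j
  exact hall _ H12AlgSp.etLocal_smooth (localFppf_of_fpqc (S10542.result S))
    (smooth_chart hz' h hz hx hc j)

theorem unramified_transfer (hY : AlgSt.IsAlgStack K₀ 𝒴)
    (hi : AlgSt.RepByAlgSpWith (AlgSp.LocP @LocallyOfFinitePresentation)
      (FibCat.inertiaToBase (FibCat.toSelf 𝒴))) (h : Corresp φ x y)
    (hl : AlgSt.RepByAlgSpWith (AlgSp.LocP @LocallyOfFinitePresentation) x)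
    (hx : AlgSt.RepByAlgSpWith (AlgSp.LocP (@LocallyOfFiniteType ⊓ @FormallyUnramified)) x) :
    AlgSt.RepByAlgSpWith (AlgSp.LocP (@LocallyOfFiniteType ⊓ @FormallyUnramified)) y := by
  obtain ⟨Z, W, z, c, g, hz, hc, hcs, ⟨j⟩, hall⟩ := exists_fp_chart hY y
  obtain ⟨z', hz'⟩ := exists_corresp φ z
  have := lfp_chart hz' h hi hl hc hcs j
  exact hall _ etLocal_unramified (localFppf_of_fpqc (S10543.result S))
    ⟨(inferInstance : LocallyOfFiniteType g.left), formallyUnramified_chart hz' h hx hc j⟩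

theorem etale_transfer (hY : AlgSt.IsAlgStack K₀ 𝒴)
    (hi : AlgSt.RepByAlgSpWith (AlgSp.LocP @LocallyOfFinitePresentation)
      (FibCat.inertiaToBase (FibCat.toSelf 𝒴))) (h : Corresp φ x y)
    (hx : AlgSt.RepByAlgSpWith AlgSp.IsEtaleMor x) :
    AlgSt.RepByAlgSpWith AlgSp.IsEtaleMor y := by
  have hx' : AlgSt.RepByAlgSpWith (AlgSp.LocP @Etale) x :=
    repWith_mono (fun _ _ _ h => H12AlgSp.locP_etale_of_isEtaleMor h) hx
  obtain ⟨Z, W, z, c, g, hz, hc, hcs, ⟨j⟩, hall⟩ := exists_fp_chart hY y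
  obtain ⟨z', hz'⟩ := exists_corresp φ z
  have hxs : AlgSt.RepByAlgSpWith (AlgSp.LocP @Smooth) x :=
    repWith_locP_mono (fun _ _ f (_ : Etale f) => (inferInstance : Smooth f)) hx'
  have := lfp_chart hz' h hi (repWith_locP_mono smooth_le_lfp hxs) hc hcs j
  have := smooth_chart hz' h hz hxs hc j
  have := formallyUnramified_chart hz' h (repWith_locP_mono (fun _ _ f (_ : Etale f) =>
    ⟨(inferInstance : LocallyOfFiniteType f), (inferInstance : FormallyUnramified f)⟩) hx') hc j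
  have : Etale g.left := Etale.of_formallyUnramified_of_flat _
  have hloc : AlgSp.IsLocalOnBase (AlgSp.IsFppfCover (S := S)) (AlgSp.LocP @Etale) := by
    intro ι Y Yi gi hY' hYi hg X f hX Xi p q hXi sq
    rw [← H12AlgSp.isEtaleMor_iff_locP_etale hY']
    exact (localFppf_of_fpqc (S10544.result S) Yi gi hY' hYi hg f hX Xi p q hXi sq).trans
      (forall_congr' fun i => H12AlgSp.isEtaleMor_iff_locP_etale (hYi i))
  intro V v
  obtain ⟨G, e, he, hσ⟩ := hall _ H12AlgSp.etLocal_etale hloc this V v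
  exact ⟨G, e, he, H12AlgSp.isEtaleMor_of_locP_etale (AlgSp.IsAlgSpace.yon_obj V) hσ⟩

lemma Corresp.at_fiber (h : Corresp φ x y) (e : Over U) {T : Over S}
    (h₁ : 𝒳.p.obj (x.obj e) = T) (h₂ : 𝒴.p.obj (y.obj e) = T) :
    φ.toEquiv T (IsoNat.cls ⟨x.obj e, h₁⟩) = IsoNat.cls ⟨y.obj e, h₂⟩ := by
  obtain rfl : e.left = T := (x.w_obj e).symm.trans h₁
  exact h e

/-- A corresponding slice of a surjective one is surjective. -/
theorem surjective_transfer (hX : AlgSt.IsAlgStack K₀ 𝒳) (hY : AlgSt.IsAlgStack K₀ 𝒴)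
    (h : Corresp φ x y) (hx : AlgSt.RepByAlgSpWith AlgSp.IsSurjectiveMor x) :
    AlgSt.RepByAlgSpWith AlgSp.IsSurjectiveMor y := by
  refine repWith_surjective_of_points (fibGrpd_overCat U) hY.isStack.1 (rep1_chart hY y) fun q => ?_
  obtain ⟨q₀, rfl⟩ := (mapPoints_bijective φ hX.isStack.1 hY.isStack.1).2 q
  obtain ⟨t, rfl⟩ := surjective_of_repWith hX.isStack.1 hx q₀
  refine ⟨t, ?_⟩
  obtain ⟨p, rfl⟩ := AlgSt.Points.mk_surjective t
  have h1 : IsoNat.cls (⟨(mapFPt φ (p.map x)).obj, (mapFPt φ (p.map x)).lies⟩ :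
      𝒴.p.Fiber (Over.mk p.str)) = IsoNat.cls ⟨(p.map y).obj, (p.map y).lies⟩ := by
    refine (cls_mapFPt φ (p.map x)).symm.trans ?_
    exact h.at_fiber p.obj (p.map x).lies (p.map y).lies
  obtain ⟨e, -⟩ := fib_iso_of_cls_eq h1
  exact mk_eq_of_hom e.inv

end Groth.Agent.H14IsoNat
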