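import Groth.Agent.H14IsoNat.RigidChart
import Groth.Agent.H14IsoNat.ChartTransfer
import Groth.Agent.H14Stk.Extend

/-!
# Bald stacks are determined by their presheaves of classes
-/

set_option autoImplicit false
set_option backward.isDefEq.respectTransparency false
set_option backward.isDefEq.respectTransparency.types false

universe u

open CategoryTheory CategoryTheory.Functor CategoryTheory.Limits AlgebraicGeometry

noncomputable section

namespace Groth.Agent.H14IsoNat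

open H14Fib H14Stk H14AlgSt

variable {S : Scheme.{u}} {𝒳 𝒴 : AlgSt.Cat S} {U : Over S}

local notation "K₀" => Scheme.fppfPrecoverage

lemma pullStable_slice (x : FibCat.overCat U ⥤ᵇ 𝒳) :
    PullStable (fun c : Over U => x.obj c) := by
  intro c V W g hW
  obtain rfl : c.left = W := (x.w_obj c).symm.trans hW
  exact ⟨Over.mk (g ≫ c.hom), x.map (Over.homMk g rfl : Over.mk (g ≫ c.hom) ⟶ c),
    map_lift' x (Over.homMk g rfl : Over.mk (g ≫ c.hom) ⟶ c)⟩

/-- A smooth surjective chart covers every object locally. -/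
lemma locCovers_slice (h𝒳 : FibCat.IsFibGrpd 𝒳.p) {x : FibCat.overCat U ⥤ᵇ 𝒳}
    (hx : AlgSt.RepByAlgSpWith (AlgSp.LocP @Smooth) x)
    (hxs : AlgSt.RepByAlgSpWith AlgSp.IsSurjectiveMor x) :
    LocCovers (QuotSh.J K₀ S) (fun c : Over U => x.obj c) := by
  intro ξ
  have := isFibered_of_fibGrpd h𝒳
  obtain ⟨q, iq, -, hiq⟩ := exists_fromOver (𝒳 := 𝒳) (x := ξ) (U := 𝒳.p.obj ξ) rfl
  obtain ⟨ι, C, c, hf, hl, hsu, hz⟩ := exists_lift_of_fppf (repWith_locP_mono smooth_le_flat hx)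
    (repWith_locP_mono smooth_le_lfp hx) hxs (𝒳.p.obj ξ) q
  choose z hz using hz
  let f : ∀ i, (Over.mk (c i) : Over (𝒳.p.obj ξ)) ⟶ Over.mk (𝟙 _) :=
    fun i => Over.homMk (c i) (Category.comp_id _)
  have hcov : IsCov f := ⟨hf, hl, hsu⟩
  refine ⟨covSieve f, covSieve_mem hcov, ?_⟩
  rintro V _ ⟨i, k, rfl⟩
  change ∃ (d : Over U) (m : x.obj d ⟶ ξ), 𝒳.p.IsHomLift (k ≫ c i) m
  obtain ⟨w⟩ := hz i
  let d : Over U := (z i).obj (topObj (C i))
  have hd : d.left = C i := (z i).w_obj _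
  have h0 : 𝒳.p.IsHomLift (𝟙 (C i)) (isoApp w (topObj (C i))).hom :=
    BasedNatTrans.isHomLift w.hom rfl
  have h1 : 𝒳.p.IsHomLift (c i)
      ((isoApp w (topObj (C i))).hom ≫
        q.map (toTop ((AlgSt.overMap (c i)).obj (topObj (C i)))) ≫ iq.hom) := by
    have h2 : 𝒳.p.IsHomLift (𝟙 (C i) ≫ c i)
        (q.map (toTop ((AlgSt.overMap (c i)).obj (topObj (C i)))) ≫ iq.hom) :=
      lift_then_vert (map_lift' q (toTop ((AlgSt.overMap (c i)).obj (topObj (C i))))) hiq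
    simpa using homLift_comp' h0 h2
  obtain ⟨d', α, hα⟩ := pullStable_slice x d k ((x.w_obj d).trans hd)
  exact ⟨d', _, homLift_comp' hα h1⟩

/-- The base of a morphism between values of a slice. -/
def baseOf {x : FibCat.overCat U ⥤ᵇ 𝒳} {c c' : Over U} (α : x.obj c ⟶ x.obj c') :
    c.left ⟶ c'.left :=
  eqToHom (x.w_obj c).symm ≫ 𝒳.p.map α ≫ eqToHom (x.w_obj c')

lemma baseOf_eq {x : FibCat.overCat U ⥤ᵇ 𝒳} {c c' : Over U} (α : x.obj c ⟶ x.obj c')
    {g : c.left ⟶ c'.left} (hg : 𝒳.p.IsHomLift g α) : baseOf α = g := by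
  rw [@IsHomLift.fac _ _ _ _ 𝒳.p _ _ _ _ g α hg]
  rfl

lemma baseOf_lift {x : FibCat.overCat U ⥤ᵇ 𝒳} {c c' : Over U} (α : x.obj c ⟶ x.obj c') :
    𝒳.p.IsHomLift (baseOf α) α :=
  IsHomLift.of_fac' 𝒳.p _ α (x.w_obj c) (x.w_obj c') (by simp [baseOf])

variable [hX : SepStack 𝒳]

lemma exists_dec {x : FibCat.overCat U ⥤ᵇ 𝒳} {c c' : Over U} (α : x.obj c ⟶ x.obj c') :
    ∃ γ : VIso x x c.hom (baseOf α ≫ c'.hom), γ.1.hom ≫ x.map (mkHom (baseOf α) rfl) = α := by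
  have := baseOf_lift α
  have := map_mkHom_lift x (baseOf α) (rfl : baseOf α ≫ c'.hom = baseOf α ≫ c'.hom)
  obtain ⟨v, hv, hv'⟩ := exists_vertIso hX.isStack.1 (baseOf α) α
    (x.map (mkHom (baseOf α) (rfl : baseOf α ≫ c'.hom = baseOf α ≫ c'.hom)))
  exact ⟨⟨v, hv⟩, hv'⟩

/-- The vertical part of a morphism between values of a slice. -/
def decomp {x : FibCat.overCat U ⥤ᵇ 𝒳} {c c' : Over U} (α : x.obj c ⟶ x.obj c') :
    VIso x x c.hom (baseOf α ≫ c'.hom) :=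
  (exists_dec α).choose

lemma decomp_spec {x : FibCat.overCat U ⥤ᵇ 𝒳} {c c' : Over U} (α : x.obj c ⟶ x.obj c') :
    (decomp α).1.hom ≫ x.map (mkHom (baseOf α) rfl) = α :=
  (exists_dec α).choose_spec

variable [hY : SepStack 𝒴] {x : FibCat.overCat U ⥤ᵇ 𝒳} {y : FibCat.overCat U ⥤ᵇ 𝒴}

/-- The image of a morphism between values under a natural map. -/
def mapOf (F : NatMap x y) {c c' : Over U} (α : x.obj c ⟶ x.obj c') : y.obj c ⟶ y.obj c' :=
  (F.app (decomp α)).1.hom ≫ y.map (mkHom (baseOf α) rfl)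

lemma mapOf_spec (F : NatMap x y) {c c' : Over U} (α : x.obj c ⟶ x.obj c') (g : c.left ⟶ c'.left)
    {q : c.left ⟶ U} (hq : g ≫ c'.hom = q) (γ : VIso x x c.hom q)
    (h : γ.1.hom ≫ x.map (mkHom g hq) = α) :
    mapOf F α = (F.app γ).1.hom ≫ y.map (mkHom g hq) := by
  have hl : 𝒳.p.IsHomLift g α := h ▸ vert_then_lift γ.2 (map_mkHom_lift x g hq)
  obtain rfl := baseOf_eq α hl
  subst hq
  suffices decomp α = γ by rw [mapOf, this]
  have := (decomp α).2
  have := γ.2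
  have := map_mkHom_lift x (baseOf α) (rfl : baseOf α ≫ c'.hom = baseOf α ≫ c'.hom)
  have := sc_of_fibGrpd hX.isStack.1 (baseOf α)
    (x.map (mkHom (baseOf α) (rfl : baseOf α ≫ c'.hom = baseOf α ≫ c'.hom)))
  exact VIso.ext' (IsStronglyCartesian.ext 𝒳.p (baseOf α)
    (x.map (mkHom (baseOf α) (rfl : baseOf α ≫ c'.hom = baseOf α ≫ c'.hom))) (𝟙 c.left)
    ((decomp_spec α).trans h.symm))

/-- The map on morphisms between values given by a natural map. -/
def homMapOf (hx : AlgSt.RepByAlgSpWith (AlgSp.LocP @Smooth) x) (hr : RigidChart y)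
    (F : NatMap x y) : HomMap (fun c : Over U => x.obj c) (fun c : Over U => y.obj c) :=
  have comp : ∀ {c c' c'' : Over U} (α : x.obj c ⟶ x.obj c') (β : x.obj c' ⟶ x.obj c''),
      mapOf F (α ≫ β) = mapOf F α ≫ mapOf F β := fun {c c' c''} α β => by
    obtain ⟨γ₂, h₂⟩ := exists_res hX.isStack.1 (baseOf α) (decomp β)
      (rfl : baseOf α ≫ c'.hom = baseOf α ≫ c'.hom)
      (rfl : baseOf α ≫ baseOf β ≫ c''.hom = baseOf α ≫ baseOf β ≫ c''.hom)
    obtain ⟨_, _, e⟩ := id h₂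
    obtain ⟨_, _, e'⟩ := F.nat h₂
    rw [mapOf_spec F (α ≫ β) (baseOf α ≫ baseOf β) (Category.assoc _ _ _)
      ((decomp α).trans γ₂) (by
        change ((decomp α).1.hom ≫ γ₂.1.hom) ≫ _ = _
        rw [← map_mkHom_comp x (rfl : baseOf α ≫ baseOf β ≫ c''.hom = baseOf α ≫ baseOf β ≫ c''.hom)
          (rfl : baseOf β ≫ c''.hom = baseOf β ≫ c''.hom)]
        rw [Category.assoc, ← reassoc_of% e, decomp_spec, reassoc_of% decomp_spec α]),
      natMap_trans hx hr]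
    change ((F.app (decomp α)).1.hom ≫ (F.app γ₂).1.hom) ≫ _ = _
    rw [← map_mkHom_comp y (rfl : baseOf α ≫ baseOf β ≫ c''.hom = baseOf α ≫ baseOf β ≫ c''.hom)
      (rfl : baseOf β ≫ c''.hom = baseOf β ≫ c''.hom), Category.assoc, ← reassoc_of% e']
    simp [mapOf]
  have lift : ∀ {c c' : Over U} (α : x.obj c ⟶ x.obj c'),
      𝒴.p.IsHomLift (baseOf α) (mapOf F α) := fun α =>
    vert_then_lift (F.app (decomp α)).2 (map_mkHom_lift y (baseOf α) rfl)
  { map := fun α => mapOf F α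
    lift := fun {c c'} α {V W} g hg => by
      obtain rfl : c.left = V :=
        (x.w_obj c).symm.trans (@IsHomLift.domain_eq _ _ _ _ 𝒳.p _ _ _ _ g α hg)
      obtain rfl : c'.left = W :=
        (x.w_obj c').symm.trans (@IsHomLift.codomain_eq _ _ _ _ 𝒳.p _ _ _ _ g α hg)
      rw [← baseOf_eq α hg]
      exact lift α
    map_id := fun c => by
      have e : baseOf (𝟙 (x.obj c)) = 𝟙 c.left := baseOf_eq _ (IsHomLift.id (x.w_obj c))
      have hl : 𝒴.p.IsHomLift (𝟙 c.left) (mapOf F (𝟙 (x.obj c))) := e ▸ lift (𝟙 (x.obj c))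
      have := isIso_of_fibGrpd hY.isStack.1 (𝟙 c.left) (mapOf F (𝟙 (x.obj c)))
      have h := comp (𝟙 (x.obj c)) (𝟙 (x.obj c))
      rw [Category.id_comp] at h
      rw [← cancel_mono (mapOf F (𝟙 (x.obj c))), Category.id_comp]
      exact h.symm
    map_comp := fun α β => comp α β }

lemma mapOf_inverse (F : NatMap x y) (G : NatMap y x)
    (h : ∀ {T : Over S} {p q : T ⟶ U} (γ : VIso x x p q), G.app (F.app γ) = γ)
    {c c' : Over U} (α : x.obj c ⟶ x.obj c') : mapOf G (mapOf F α) = α := by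
  rw [mapOf_spec G (mapOf F α) (baseOf α) rfl (F.app (decomp α)) rfl, h, decomp_spec]

/-- Bald stacks with the same classes are equivalent. -/
theorem bald_equiv (hX' : AlgSt.IsAlgStack K₀ 𝒳) (hY' : AlgSt.IsAlgStack K₀ 𝒴)
    (hYi : AlgSt.RepByAlgSpWith (AlgSp.LocP @LocallyOfFinitePresentation)
      (FibCat.inertiaToBase (FibCat.toSelf 𝒴)))
    (hbX : ∀ (W : Over S) (w : FibCat.overCat W ⥤ᵇ 𝒳),
      AlgSt.RepByAlgSpWith (AlgSp.LocP @Smooth) w → ∃ V : W.left.Opens,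
        (∀ (T : Over S) (g : T ⟶ W), (∃ g' : T.left ⟶ ↑V, g' ≫ V.ι = g.left) ↔
          IsoNat.IsClean (w.obj (Over.mk g))) ∧ CInt.IsSchematicallyDense V)
    (hbY : ∀ (W : Over S) (w : FibCat.overCat W ⥤ᵇ 𝒴),
      AlgSt.RepByAlgSpWith (AlgSp.LocP @Smooth) w → ∃ V : W.left.Opens,
        (∀ (T : Over S) (g : T ⟶ W), (∃ g' : T.left ⟶ ↑V, g' ≫ V.ι = g.left) ↔
          IsoNat.IsClean (w.obj (Over.mk g))) ∧ CInt.IsSchematicallyDense V)
    (φ : IsoNat.FIso 𝒳 𝒴) : ∃ e : 𝒳 ⥤ᵇ 𝒴, FibCat.IsEquivOver e := by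
  obtain ⟨U, x, hx, hxs⟩ := hX'.atlas
  obtain ⟨η, hη⟩ := Quotient.exists_rep (φ.toEquiv U (IsoNat.cls ⟨x.obj (topObj U), x.w_obj _⟩))
  obtain ⟨y, i, hi⟩ := exists_slice η
  have hxy : Corresp φ x y := corresp_of_top (η := ⟨x.obj (topObj U), x.w_obj _⟩) (η' := η)
    hY.isStack.1 hη.symm (Iso.refl _) (IsHomLift.id (x.w_obj _)) i hi
  have hy := smooth_transfer hY' hYi hxy hx
  have hys := surjective_transfer hX' hY' hxy hxs
  have hrx : RigidChart x := rigid_of_bald hbX hx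
  have hry : RigidChart y := rigid_of_bald hbY hy
  obtain ⟨F⟩ := exists_natMap hxy hx hry
  obtain ⟨G⟩ := exists_natMap (corresp_symm hxy) hy hrx
  have hGF : ∀ {T : Over S} {p q : T ⟶ U} (γ : VIso x x p q), G.app (F.app γ) = γ :=
    fun γ => natMap_ext hx hrx (F.comp G) (NatMap.id x) γ
  have hFG : ∀ {T : Over S} {p q : T ⟶ U} (γ : VIso y y p q), F.app (G.app γ) = γ :=
    fun γ => natMap_ext hy hry (G.comp F) (NatMap.id y) γ
  exact exists_equiv_extension hX.isStack hY.isStack (homMapOf hx hry F) (homMapOf hy hrx G)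
    (fun α => mapOf_inverse F G hGF α) (fun β => mapOf_inverse G F hFG β)
    (pullStable_slice x) (locCovers_slice hX.isStack.1 hx hxs)
    (pullStable_slice y) (locCovers_slice hY.isStack.1 hy hys)

end Groth.Agent.H14IsoNat
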