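import Groth.Agent.H14IsoNat.SHLift
import Groth.Agent.H14IsoNat.AutFromPsh

/-!
# Points of charts of a fibre product of two slices
-/

set_option autoImplicit false
set_option backward.isDefEq.respectTransparency false
set_option backward.isDefEq.respectTransparency.types false

universe u

open CategoryTheory CategoryTheory.Functor CategoryTheory.Limits AlgebraicGeometry

noncomputable section

namespace Groth.Agent.H14IsoNat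

open H14Fib H14Stk H14AlgSt

variable {S : Scheme.{u}} {𝒵 𝒳 𝒴 : AlgSt.Cat S} {A Z U W T T' T'' : Over S}

/-- A morphism between standard objects of a slice. -/
abbrev mkHom (p : T' ⟶ T) {w' : T' ⟶ A} {w : T ⟶ A} (h : p ≫ w = w') :
    (Over.mk w' : (FibCat.overCat A).obj) ⟶ Over.mk w :=
  Over.homMk p h

lemma mkHom_comp {p' : T'' ⟶ T'} {p : T' ⟶ T} {w'' : T'' ⟶ A} {w' : T' ⟶ A} {w : T ⟶ A}
    (h' : p' ≫ w' = w'') (h : p ≫ w = w') :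
    mkHom p' h' ≫ mkHom p h = mkHom (p' ≫ p) (by rw [Category.assoc, h, h']) :=
  Over.OverMorphism.ext rfl

lemma map_mkHom_lift (F : FibCat.overCat A ⥤ᵇ 𝒵) (p : T' ⟶ T) {w' : T' ⟶ A} {w : T ⟶ A}
    (h : p ≫ w = w') : 𝒵.p.IsHomLift p (F.map (mkHom p h)) :=
  @BasedFunctor.preserves_isHomLift _ _ _ _ F _ _ _ _ p (mkHom p h) (overCat_isHomLift (mkHom p h))

lemma map_mkHom_comp (F : FibCat.overCat A ⥤ᵇ 𝒵) {p' : T'' ⟶ T'} {p : T' ⟶ T} {w'' : T'' ⟶ A}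
    {w' : T' ⟶ A} {w : T ⟶ A} (h' : p' ≫ w' = w'') (h : p ≫ w = w') :
    F.map (mkHom p' h') ≫ F.map (mkHom p h) = F.map (mkHom (p' ≫ p) (by rw [Category.assoc, h, h'])) :=
  (F.toFunctor.map_comp _ _).symm.trans (congrArg F.toFunctor.map (mkHom_comp h' h))

lemma map_mkHom_congr (F : FibCat.overCat A ⥤ᵇ 𝒵) {p p' : T' ⟶ T} (e : p = p') {w' : T' ⟶ A}
    {w : T ⟶ A} (h : p ≫ w = w') (h' : p' ≫ w = w') : F.map (mkHom p h) = F.map (mkHom p' h') :=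
  congrArg F.toFunctor.map (Over.OverMorphism.ext e)

variable (F : FibCat.overCat Z ⥤ᵇ 𝒵) (G : FibCat.overCat U ⥤ᵇ 𝒵)

/-- An isomorphism of the values of two slices over `T`. -/
abbrev VIso (ζ : T ⟶ Z) (u : T ⟶ U) : Type u :=
  {β : F.obj (Over.mk ζ) ≅ G.obj (Over.mk u) // 𝒵.p.IsHomLift (𝟙 T) β.hom}

variable {F G}

/-- The object of the fibre product given by an isomorphism of values. -/
abbrev VIso.obj {ζ : T ⟶ Z} {u : T ⟶ U} (β : VIso F G ζ u) : (FibCat.fp F G).obj :=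
  fpObj (Over.mk ζ) (Over.mk u) β.1 rfl β.2

/-- `β'` is the restriction of `β` along `p`. -/
def IsRes (p : T' ⟶ T) {ζ : T ⟶ Z} {u : T ⟶ U} (β : VIso F G ζ u) {ζ' : T' ⟶ Z} {u' : T' ⟶ U}
    (β' : VIso F G ζ' u') : Prop :=
  ∃ (h₁ : p ≫ ζ = ζ') (h₂ : p ≫ u = u'),
    F.map (mkHom p h₁) ≫ β.1.hom = β'.1.hom ≫ G.map (mkHom p h₂)

lemma IsRes.trans {p' : T'' ⟶ T'} {p : T' ⟶ T} {ζ : T ⟶ Z} {u : T ⟶ U} {β : VIso F G ζ u}
    {ζ' : T' ⟶ Z} {u' : T' ⟶ U} {β' : VIso F G ζ' u'} {ζ'' : T'' ⟶ Z} {u'' : T'' ⟶ U}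
    {β'' : VIso F G ζ'' u''} (h : IsRes p β β') (h' : IsRes p' β' β'') : IsRes (p' ≫ p) β β'' := by
  obtain ⟨a₁, a₂, e⟩ := h
  obtain ⟨b₁, b₂, e'⟩ := h'
  refine ⟨by rw [Category.assoc, a₁, b₁], by rw [Category.assoc, a₂, b₂], ?_⟩
  rw [← map_mkHom_comp F b₁ a₁, ← map_mkHom_comp G b₂ a₂, Category.assoc, e, reassoc_of% e']

variable (hZ : FibCat.IsFibGrpd 𝒵.p)

include hZ

lemma isRes_unique {p : T' ⟶ T} {ζ : T ⟶ Z} {u : T ⟶ U} {β : VIso F G ζ u}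
    {ζ' : T' ⟶ Z} {u' : T' ⟶ U} {β₁ β₂ : VIso F G ζ' u'} (h₁ : IsRes p β β₁) (h₂ : IsRes p β β₂) :
    β₁ = β₂ := by
  obtain ⟨_, a, e⟩ := h₁
  obtain ⟨_, _, e'⟩ := h₂
  have := β₁.2
  have := β₂.2
  have := map_mkHom_lift G p a
  have := sc_of_fibGrpd hZ p (G.map (mkHom p a))
  exact Subtype.ext (Iso.ext (IsStronglyCartesian.ext 𝒵.p p (G.map (mkHom p a)) (𝟙 T')
    (e.symm.trans e')))

lemma exists_res (p : T' ⟶ T) {ζ : T ⟶ Z} {u : T ⟶ U} (β : VIso F G ζ u) {ζ' : T' ⟶ Z}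
    {u' : T' ⟶ U} (h₁ : p ≫ ζ = ζ') (h₂ : p ≫ u = u') : ∃ β' : VIso F G ζ' u', IsRes p β β' := by
  have := map_mkHom_lift G p h₂
  have : 𝒵.p.IsHomLift p (F.map (mkHom p h₁) ≫ β.1.hom) :=
    lift_then_vert (map_mkHom_lift F p h₁) β.2
  obtain ⟨e, he, he'⟩ := exists_vertIso hZ p (F.map (mkHom p h₁) ≫ β.1.hom) (G.map (mkHom p h₂))
  exact ⟨⟨e, he⟩, h₁, h₂, he'.symm⟩

omit hZ

/-- The morphism of the fibre product given by a restriction. -/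
lemma IsRes.exists_hom {p : T' ⟶ T} {ζ : T ⟶ Z} {u : T ⟶ U} {β : VIso F G ζ u}
    {ζ' : T' ⟶ Z} {u' : T' ⟶ U} {β' : VIso F G ζ' u'} (h : IsRes p β β') :
    ∃ ψ : β'.obj ⟶ β.obj, (FibCat.fp F G).p.IsHomLift p ψ := by
  obtain ⟨a₁, a₂, e⟩ := h
  exact ⟨fpHom (mkHom p a₁) (mkHom p a₂) e,
    (fp_isHomLift_iff _ _).2 (overCat_isHomLift (mkHom p a₁))⟩

lemma isRes_of_hom {p : T' ⟶ T} {ζ : T ⟶ Z} {u : T ⟶ U} {β : VIso F G ζ u}
    {ζ' : T' ⟶ Z} {u' : T' ⟶ U} {β' : VIso F G ζ' u'} (ψ : β'.obj ⟶ β.obj)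
    (hψ : (FibCat.fp F G).p.IsHomLift p ψ) : IsRes p β β' := by
  have h₁ := left_of_lift (w' := ζ') (w := ζ) ψ.hom.fst ((fp_isHomLift_iff _ _).1 hψ)
  have h₂ := left_of_lift (w' := u') (w := u) ψ.hom.snd
    (@BasedFunctor.preserves_isHomLift _ _ _ _ (FibCat.fpSnd F G) _ _ _ _ p ψ hψ)
  refine ⟨h₁.2, h₂.2, ?_⟩
  rw [show mkHom p h₁.2 = ψ.hom.fst from Over.OverMorphism.ext h₁.1.symm,
    show mkHom p h₂.2 = ψ.hom.snd from Over.OverMorphism.ext h₂.1.symm]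
  exact ψ.hom.w

variable {c : FibCat.overCat W ⥤ᵇ FibCat.fp F G} {g : W ⟶ Z}

/-- The point of the fibre product given by a point of a chart. -/
lemma exists_pt (j : BasedFunctor.comp c (FibCat.fpFst F G) ≅ AlgSt.overMap g) (w : T ⟶ W)
    {ζ : T ⟶ Z} (hζ : w ≫ g = ζ) :
    ∃ (u : T ⟶ U) (β : VIso F G ζ u) (κ : c.obj (Over.mk w) ≅ β.obj),
      (FibCat.fp F G).p.IsHomLift (𝟙 T) κ.hom := by
  obtain ⟨u, e, e', he, he'⟩ := exists_components j hζ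
  let o := c.obj (Over.mk w)
  have ho : (FibCat.fp F G).p.obj o = T := c.w_obj _
  let β : F.obj (Over.mk ζ) ≅ G.obj (Over.mk u) :=
    F.toFunctor.mapIso e'.symm ≪≫ o.obj.iso ≪≫ G.toFunctor.mapIso e
  have hβ : 𝒵.p.IsHomLift (𝟙 T) β.hom := by
    refine homLift_id_comp ?_ (homLift_id_comp (fp_iso_isHomLift o ho) ?_)
    · exact @BasedFunctor.preserves_isHomLift _ _ _ _ F _ _ _ _ (𝟙 T) e'.inv
        (@IsHomLift.lift_id_inv _ _ _ _ (FibCat.overCat Z).p _ _ _ e' he')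
    · exact @BasedFunctor.preserves_isHomLift _ _ _ _ G _ _ _ _ (𝟙 T) e.hom he
  refine ⟨u, ⟨β, hβ⟩, fpIsoMk e' e ?_, (fp_isHomLift_iff _ _).2 he'⟩
  change F.map e'.hom ≫ F.map e'.inv ≫ o.obj.iso.hom ≫ G.map e.hom = o.obj.iso.hom ≫ G.map e.hom
  rw [← Category.assoc (F.map e'.hom), ← F.toFunctor.map_comp, e'.hom_inv_id,
    F.toFunctor.map_id, Category.id_comp]

/-- Naturality of the points of a chart. -/
lemma pt_nat (p : T' ⟶ T) {w : T ⟶ W} {w' : T' ⟶ W} (hp : p ≫ w = w')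
    {ζ : T ⟶ Z} {u : T ⟶ U} {β : VIso F G ζ u} (κ : c.obj (Over.mk w) ≅ β.obj)
    (hκ : (FibCat.fp F G).p.IsHomLift (𝟙 T) κ.hom) {ζ' : T' ⟶ Z} {u' : T' ⟶ U}
    {β' : VIso F G ζ' u'} (κ' : c.obj (Over.mk w') ≅ β'.obj)
    (hκ' : (FibCat.fp F G).p.IsHomLift (𝟙 T') κ'.hom) : IsRes p β β' :=
  isRes_of_hom (κ'.inv ≫ c.map (mkHom p hp) ≫ κ.hom)
    (vert_then_lift (@IsHomLift.lift_id_inv _ _ _ _ (FibCat.fp F G).p _ _ _ κ' hκ')
      (lift_then_vert (map_mkHom_lift c p hp) hκ))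

/-- The first component of a lifted point. -/
lemma eq_of_iso (j : BasedFunctor.comp c (FibCat.fpFst F G) ≅ AlgSt.overMap g) {w : T ⟶ W}
    {ζ : T ⟶ Z} {u : T ⟶ U} {β : VIso F G ζ u} (κ : c.obj (Over.mk w) ≅ β.obj)
    (hκ : (FibCat.fp F G).p.IsHomLift (𝟙 T) κ.hom) : w ≫ g = ζ := by
  obtain ⟨u', e, e', he, he'⟩ := exists_components j (rfl : w ≫ g = w ≫ g)
  have h := left_of_lift (w' := w ≫ g) (w := ζ) (e'.inv ≫ κ.hom.hom.fst)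
    (homLift_id_comp (@IsHomLift.lift_id_inv _ _ _ _ (FibCat.overCat Z).p _ _ _ e' he')
      ((fp_isHomLift_iff _ _).1 hκ))
  exact h.2.symm.trans (Category.id_comp _)

section Transfer

variable {φ : IsoNat.FIso 𝒳 𝒴} {z' : FibCat.overCat Z ⥤ᵇ 𝒳} {x : FibCat.overCat U ⥤ᵇ 𝒳}
  {z : FibCat.overCat Z ⥤ᵇ 𝒴} {y : FibCat.overCat U ⥤ᵇ 𝒴}

/-- Isomorphic values correspond. -/
lemma exists_viso_fwd (hz : Corresp φ z' z) (hy : Corresp φ x y) {ζ : T ⟶ Z} {u : T ⟶ U}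
    (γ : VIso z' x ζ u) : Nonempty (VIso z y ζ u) := by
  have h : IsoNat.cls (⟨z'.obj (Over.mk ζ), z'.w_obj _⟩ : 𝒳.p.Fiber T) =
      IsoNat.cls ⟨x.obj (Over.mk u), x.w_obj _⟩ := cls_eq_of_iso γ.1 γ.2
  obtain ⟨e, he⟩ := fib_iso_of_cls_eq ((hz (Over.mk ζ)).symm.trans
    ((congrArg (φ.toEquiv T) h).trans (hy (Over.mk u))))
  exact ⟨⟨e, he⟩⟩

lemma exists_viso_bwd (hz : Corresp φ z' z) (hy : Corresp φ x y) {ζ : T ⟶ Z} {u : T ⟶ U}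
    (β : VIso z y ζ u) : Nonempty (VIso z' x ζ u) := by
  have h : IsoNat.cls (⟨z.obj (Over.mk ζ), z.w_obj _⟩ : 𝒴.p.Fiber T) =
      IsoNat.cls ⟨y.obj (Over.mk u), y.w_obj _⟩ := cls_eq_of_iso β.1 β.2
  obtain ⟨e, he⟩ := fib_iso_of_cls_eq ((φ.toEquiv T).injective
    ((hz (Over.mk ζ)).trans (h.trans (hy (Over.mk u)).symm)))
  exact ⟨⟨e, he⟩⟩

end Transfer

include hZ in
/-- A point lifts to a surjective chart after a surjective etale covering. -/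
theorem exists_lift_et {H : FibCat.overCat A ⥤ᵇ 𝒵}
    (hHe : AlgSt.RepByAlgSpWith (AlgSp.LocP @Etale) H)
    (hHs : AlgSt.RepByAlgSpWith AlgSp.IsSurjectiveMor H) {o : 𝒵.obj} (ho : 𝒵.p.obj o = T) :
    ∃ (T' : Over S) (e : T' ⟶ T) (w : T' ⟶ A) (χ : H.obj (Over.mk w) ⟶ o),
      Etale e.left ∧ Surjective e.left ∧ 𝒵.p.IsHomLift e χ := by
  have := isFibered_of_fibGrpd hZ
  obtain ⟨q, iq, -, hiq⟩ := exists_fromOver (𝒳 := 𝒵) ho
  obtain ⟨B, a, h, hh, ⟨j⟩, -, has⟩ := exists_chart_data H q hHe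
  obtain ⟨w, e, e', he, he'⟩ := exists_components j (Category.id_comp h)
  let o₁ := a.obj (Over.mk (𝟙 B))
  have hb₁ : (FibCat.fp q H).p.obj o₁ = B := a.w_obj _
  let n : (Over.mk h : (FibCat.overCat T).obj) ⟶ topObj T := toTop (Over.mk h : (FibCat.overCat T).obj)
  refine ⟨B, h, w, H.map e.inv ≫ o₁.obj.iso.inv ≫ q.map (e'.hom ≫ n) ≫ iq.hom, hh,
    surjective_chart hZ hHs j has, ?_⟩
  refine vert_then_lift (@BasedFunctor.preserves_isHomLift _ _ _ _ H _ _ _ _ (𝟙 B) e.inv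
    (@IsHomLift.lift_id_inv _ _ _ _ (FibCat.overCat A).p _ _ _ e he)) (vert_then_lift
    (@IsHomLift.lift_id_inv _ _ _ _ 𝒵.p _ _ _ _ (fp_iso_isHomLift o₁ hb₁)) ?_)
  exact lift_then_vert (@BasedFunctor.preserves_isHomLift _ _ _ _ q _ _ _ _ h (e'.hom ≫ n)
    (vert_then_lift he' (overCat_isHomLift n))) hiq

end Groth.Agent.H14IsoNat
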