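import Groth.Agent.H14IsoNat.AutFromPsh

/-!
# Twisted forms over the doubled axes and change of the base; transfer of restriction kernels
-/

set_option autoImplicit false
set_option backward.isDefEq.respectTransparency false
set_option backward.isDefEq.respectTransparency.types false

universe u

open CategoryTheory CategoryTheory.Functor CategoryTheory.Limits AlgebraicGeometry

noncomputable section

namespace Groth.Agent.H14IsoNat

open H14Fib H14Stk Axes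

variable {S : Scheme.{u}} {𝒳 𝒴 : AlgSt.Cat S} {T₀ T : Over S} (f : T₀ ⟶ T)

/-- The base change of a product with `T`. -/
def PTb (Z : Scheme.{u}) : (Over.map f).obj (PT T₀ Z) ⟶ PT T Z :=
  Over.homMk (Over.homMk (prod.map f.left (𝟙 Z)) (by
    change prod.map f.left (𝟙 Z) ≫ prod.fst ≫ T.hom = prod.fst ≫ T₀.hom
    rw [prod.map_fst_assoc, Over.w f])) (Over.OverMorphism.ext (by
    change prod.map f.left (𝟙 Z) ≫ prod.fst = prod.fst ≫ f.left
    rw [prod.map_fst]))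

/-- The base change of the base. -/
def bTop : (Over.map f).obj (Over.mk (𝟙 T₀)) ⟶ Over.mk (𝟙 T) :=
  Over.mkIdTerminal.from _

lemma PTb_natural {Z Z' : Scheme.{u}} (g : Z ⟶ Z') :
    (Over.map f).map (PTmap g) ≫ PTb f Z' = PTb f Z ≫ PTmap g := by
  refine Over.OverMorphism.ext (Over.OverMorphism.ext ?_)
  change prod.map (𝟙 T₀.left) g ≫ prod.map f.left (𝟙 Z') =
    prod.map f.left (𝟙 Z) ≫ prod.map (𝟙 T.left) g
  simp

variable {P : FibCat.overCat T ⥤ᵇ 𝒳}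

/-- The slice functor on the new base. -/
abbrev bP (P : FibCat.overCat T ⥤ᵇ 𝒳) : FibCat.overCat T₀ ⥤ᵇ 𝒳 :=
  BasedFunctor.comp (AlgSt.overMap f) P

variable [hX : SepStack 𝒳]

/-- Restriction of automorphisms to the new base. -/
def bRs {c₀ : Over T₀} {c : Over T} (m : (Over.map f).obj c₀ ⟶ c) :
    Vert P P c →* Vert (bP f P) (bP f P) c₀ where
  toFun a := ⟨(rs m a).1, (rs m a).2⟩
  map_one' := Subtype.ext (congrArg Subtype.val (map_one (rs (P := P) m)))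
  map_mul' a b := Subtype.ext (congrArg Subtype.val (map_mul (rs m) a b))

lemma rs_bRs {c₀ c₀' : Over T₀} {c : Over T} (n : c₀' ⟶ c₀) (m : (Over.map f).obj c₀ ⟶ c)
    (a : Vert P P c) : rs n (bRs f m a) = bRs f ((Over.map f).map n ≫ m) a :=
  rs_eq (P := bP f P) n (bRs f m a) (ψ := bRs f ((Over.map f).map n ≫ m) a) (by
    change (rs ((Over.map f).map n ≫ m) a).1 ≫ P.map ((Over.map f).map n) = _
    rw [rs_comp]
    exact rs_spec ((Over.map f).map n) (rs m a))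

lemma bRs_rs {c₀ : Over T₀} {c c' : Over T} (m : (Over.map f).obj c₀ ⟶ c') (m' : c' ⟶ c)
    (a : Vert P P c) : bRs f m (rs m' a) = bRs f (m ≫ m') a :=
  Subtype.ext (congrArg Subtype.val (rs_comp m m' a).symm)

variable {k : ℕ}

lemma bRs_tw (a : Fin k → Vert P P (Over.mk (𝟙 T))) :
    bRs f (PTb f (Axes.O.{u} k).toScheme) (tw a) = tw (fun i => bRs f (bTop f) (a i)) := by
  refine punctured_ext fun i => ?_
  rw [rs_bRs, PTb_natural, ← bRs_rs, rs_tw, rs_tw, cs, cs, bRs_rs, rs_bRs]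
  exact congrArg (fun m => bRs f m (a i)) (Over.mkIdTerminal.hom_ext _ _)

/-- Pullback of a twist along a change of the base. -/
lemma isTw_base {t : Vert P P (PT T (Axes.O.{u} k).toScheme)} {ξ ξ' : 𝒳.obj} (h : IsTw t ξ)
    (χ : ξ' ⟶ ξ) (hχ : 𝒳.p.IsHomLift (PTb f (Y.{u} k)).left χ) :
    IsTw (P := bP f P) (bRs f (PTb f (Axes.O.{u} k).toScheme) t) ξ' := by
  obtain ⟨-, e, he, hte⟩ := h
  refine ⟨IsHomLift.domain_eq 𝒳.p (PTb f (Y.{u} k)).left χ, ?_⟩
  let g := (PTb f (Y.{u} k)).left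
  have := sc_of_fibGrpd hX.isStack.1 g χ
  have key : ∀ a, ∃ e' : (bP f P).obj (PT T₀ (U.{u} k)) ⟶ ξ',
      𝒳.p.IsHomLift (leg (T := T₀) (k := k) a).left e' ∧ e' ≫ χ = P.map (PTb f (U k)) ≫ e a := by
    intro a
    have : 𝒳.p.IsHomLift ((leg (T := T₀) (k := k) a).left ≫ g) (P.map (PTb f (U k)) ≫ e a) := by
      rw [show (leg (T := T₀) (k := k) a).left ≫ g = (PTb f (U k)).left ≫ (leg a).left from
        congrArg CommaMorphism.left (PTb_natural f (u₀ a))]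
      exact homLift_comp' (map_lift' P (PTb f (U k))) (he a)
    obtain ⟨e', ⟨h1, h2⟩, -⟩ := IsStronglyCartesian.universal_property 𝒳.p g χ
      (leg (T := T₀) (k := k) a).left _ rfl (P.map (PTb f (U k)) ≫ e a)
    exact ⟨e', h1, h2⟩
  choose e' he' he'χ using key
  refine ⟨e', he', ?_⟩
  let t₀ := bRs f (PTb f (Axes.O.{u} k).toScheme) t
  have h1 : 𝒳.p.IsHomLift ((jO (T := T₀) (k := k)).left ≫ (leg false).left)
      ((bP f P).map jO ≫ e' false) := homLift_comp' (map_lift' (bP f P) _) (he' false)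
  have h2 : 𝒳.p.IsHomLift ((jO (T := T₀) (k := k)).left ≫ (leg false).left)
      (t₀.1 ≫ (bP f P).map jO ≫ e' true) := by
    rw [show (jO (T := T₀) (k := k)).left ≫ (leg false).left = jO.left ≫ (leg true).left from
      congrArg CommaMorphism.left (jO_leg false true)]
    simpa using homLift_comp' t₀.2 (homLift_comp' (map_lift' (bP f P) jO) (he' true))
  apply IsStronglyCartesian.ext 𝒳.p g χ ((jO (T := T₀) (k := k)).left ≫ (leg false).left)
  have sq : P.map ((Over.map f).map (jO (T := T₀) (k := k))) ≫ P.map (PTb f (U k)) =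
      P.map (PTb f (Axes.O.{u} k).toScheme) ≫ P.map jO :=
    (P.toFunctor.map_comp _ _).symm.trans
      ((congrArg P.toFunctor.map (PTb_natural f (Axes.O.{u} k).ι)).trans (P.toFunctor.map_comp _ _))
  have hspec : t₀.1 ≫ P.map (PTb f (Axes.O.{u} k).toScheme) =
      P.map (PTb f (Axes.O.{u} k).toScheme) ≫ t.1 := rs_spec _ t
  simp only [Category.assoc, he'χ]
  change P.map ((Over.map f).map jO) ≫ P.map (PTb f (U k)) ≫ e false =
    t₀.1 ≫ P.map ((Over.map f).map jO) ≫ P.map (PTb f (U k)) ≫ e true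
  rw [reassoc_of% sq, reassoc_of% sq, hte, reassoc_of% hspec]

variable [hY : SepStack 𝒴] {φ : IsoNat.FIso 𝒳 𝒴} {P' : FibCat.overCat T ⥤ᵇ 𝒴}

/-- Triviality of the kernel of restriction is detected by the presheaf. -/
theorem kernel_transfer (h : Corresp φ P P')
    (hker : ∀ a : Vert P P (Over.mk (𝟙 T)), bRs f (bTop f) a = 1 → a = 1)
    (δ : Vert P' P' (Over.mk (𝟙 T))) (hδ : bRs f (bTop f) δ = 1) : δ = 1 := by
  let a' : Fin 2 → Vert P' P' (Over.mk (𝟙 T)) := ![δ, 1]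
  obtain ⟨a, ha⟩ := exists_transfer' h a'
  let g₀ := (PTb f (Y.{u} 2)).left
  have := isFibered_of_fibGrpd hX.isStack.1
  obtain ⟨w, χ, hχ⟩ := isFibered_exists_sc 𝒳.p (twObj P a).2 g₀
  have hχ' : 𝒳.p.IsHomLift g₀ χ := inferInstance
  let x' : 𝒳.p.Fiber (PT T₀ (Y.{u} 2)).left := ⟨w, IsHomLift.domain_eq 𝒳.p g₀ χ⟩
  obtain ⟨y, hy⟩ := Quotient.exists_rep (φ.toEquiv _ (IsoNat.cls x'))
  obtain ⟨b, hb⟩ := exists_hom φ g₀ (x' := x') (x := twObj P a) χ hχ' (y' := y) (y := twObj P' a')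
    hy.symm ha
  have hx' := isTw_base f (isTw_twObj a) χ hχ'
  have hy' := isTw_base f (isTw_twObj a') b hb
  rw [bRs_tw] at hx' hy'
  have h1 : (fun i => bRs f (bTop f) (a' i)) = fun _ => 1 :=
    funext fun i => by fin_cases i <;> simp [a', hδ]
  rw [h1] at hy'
  have triv : ∀ {𝒵 : AlgSt.Cat S} [SepStack 𝒵] {U : Over S} (Q : FibCat.overCat U ⥤ᵇ 𝒵),
      IsTw (tw fun _ : Fin 2 => (1 : Vert Q Q (Over.mk (𝟙 U)))) (Q.obj (PT U (Y.{u} 2))) :=
    fun Q => (tw_one (P := Q) (k := 2)).symm ▸ isTw_trivial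
  obtain ⟨ψ, hψ⟩ := (iso_tw_iff (triv (bP f P')) hy').2 ⟨1, 1, fun _ => rfl⟩
  have e1 : IsoNat.cls x' = IsoNat.cls ⟨(bP f P).obj (PT T₀ (Y.{u} 2)), (bP f P).w_obj _⟩ := by
    apply (φ.toEquiv _).injective
    refine hy.symm.trans ?_
    refine (cls_eq_of_hom (U := (PT T₀ (Y.{u} 2)).left)
      (x := ⟨(bP f P').obj (PT T₀ (Y.{u} 2)), (bP f P').w_obj _⟩) (y := y) ψ hψ).symm.trans ?_
    exact (h ((Over.map f).obj (PT T₀ (Y.{u} 2)))).symm
  obtain ⟨e, he⟩ := fib_iso_of_cls_eq e1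
  obtain ⟨c, d, hcd⟩ := (iso_tw_iff hx' (triv (bP f P))).1 ⟨e.hom, he⟩
  have e2 : bRs f (bTop f) (a 0) = bRs f (bTop f) (a 1) :=
    mul_right_cancel (b := d) ((hcd 0).symm.trans (hcd 1))
  have e3 : a 0 = a 1 := mul_inv_eq_one.1 (hker _ (by rw [map_mul, _root_.map_inv, e2, mul_inv_cancel]))
  have e4 : twCls P a = twCls P (fun _ => 1) := twCls_eq_iff.2 ⟨a 0, 1, fun i => by
    fin_cases i
    · rfl
    · simp [e3]⟩
  have e5 : ∀ {𝒵 : AlgSt.Cat S} [SepStack 𝒵] {U : Over S} (Q : FibCat.overCat U ⥤ᵇ 𝒵),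
      IsoNat.cls ⟨Q.obj (PT U (Y.{u} 2)), Q.w_obj _⟩ = twCls Q (fun _ : Fin 2 => 1) :=
    fun Q => eq_twCls ⟨_, Q.w_obj _⟩ (triv Q)
  rw [e4, ← e5 P, h, e5 P'] at ha
  obtain ⟨c, d, hcd⟩ := twCls_eq_iff.1 ha.symm
  have h0 : c * 1 = δ * d := hcd 0
  have h1 : c * 1 = 1 * d := hcd 1
  exact mul_right_cancel (b := d) ((h0.symm.trans h1))

end Groth.Agent.H14IsoNat
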