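import Groth.Agent.H14IsoNat.ChartPts
import Groth.Agent.H14IsoNat.FamRing
import Groth.Agent.H14IsoNat.TwistBase

/-!
# Unramified charts correspond
-/

set_option autoImplicit false
set_option backward.isDefEq.respectTransparency false
set_option backward.isDefEq.respectTransparency.types false

universe u

open CategoryTheory CategoryTheory.Functor CategoryTheory.Limits AlgebraicGeometry

noncomputable section

namespace Groth.Agent.H14IsoNat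

open H14Fib H14Stk H14AlgSt SHCrit

variable {S : Scheme.{u}} {𝒳 𝒴 : AlgSt.Cat S} [hX : SepStack 𝒳] [hY : SepStack 𝒴]
  {φ : IsoNat.FIso 𝒳 𝒴} {Z U W : Over S}
  {z' : FibCat.overCat Z ⥤ᵇ 𝒳} {x : FibCat.overCat U ⥤ᵇ 𝒳}
  {z : FibCat.overCat Z ⥤ᵇ 𝒴} {y : FibCat.overCat U ⥤ᵇ 𝒴}
  {c : FibCat.overCat W ⥤ᵇ FibCat.fp z y} {g : W ⟶ Z}

omit hX hY in
lemma hom_ext_of_lift {A T T' : Over S} {e : T' ⟶ T} {s t : (FibCat.overCat A).obj}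
    {p q : s ⟶ t} (hp : (FibCat.overCat A).p.IsHomLift e p)
    (hq : (FibCat.overCat A).p.IsHomLift e q) : p = q :=
  Over.OverMorphism.ext ((IsHomLift.fac' (FibCat.overCat A).p e p).trans
    (IsHomLift.fac' (FibCat.overCat A).p e q).symm)

omit hX hY in
lemma fp_hom_ext_of_lift {𝒵 : AlgSt.Cat S} {A B : Over S} {F : FibCat.overCat A ⥤ᵇ 𝒵}
    {G : FibCat.overCat B ⥤ᵇ 𝒵} {T T' : Over S} {e : T' ⟶ T} {s t : (FibCat.fp F G).obj}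
    {p q : s ⟶ t} (hp : (FibCat.fp F G).p.IsHomLift e p) (hq : (FibCat.fp F G).p.IsHomLift e q) :
    p = q :=
  fp_hom_ext (hom_ext_of_lift ((fp_isHomLift_iff _ _).1 hp) ((fp_isHomLift_iff _ _).1 hq))
    (hom_ext_of_lift (@BasedFunctor.preserves_isHomLift _ _ _ _ (FibCat.fpSnd F G) _ _ _ _ e p hp)
      (@BasedFunctor.preserves_isHomLift _ _ _ _ (FibCat.fpSnd F G) _ _ _ _ e q hq))

theorem formallyUnramified_chart (hz : Corresp φ z' z) (hxy : Corresp φ x y)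
    (hx : AlgSt.RepByAlgSpWith (AlgSp.LocP (@LocallyOfFiniteType ⊓ @FormallyUnramified)) x)
    (hc : AlgSt.RepByAlgSpWith (AlgSp.LocP @Etale) c)
    (j : BasedFunctor.comp c (FibCat.fpFst z y) ≅ AlgSt.overMap g) :
    FormallyUnramified g.left := by
  refine formallyUnramified_of_unique' g.left fun R _ _ _ I hI w₁' w₂' h0 hg => ?_
  let b := w₁' ≫ W.hom
  let T := Over.mk b
  let T₀ := Over.mk (thick I ≫ b)
  let ι := ιT b I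
  let w₁ : T ⟶ W := Over.homMk w₁'
  let w₂ : T ⟶ W := Over.homMk w₂' (by
    change w₂' ≫ W.hom = w₁' ≫ W.hom
    rw [← Over.w g, ← Category.assoc, ← Category.assoc, hg])
  let ζ := w₁ ≫ g
  have hζ₂ : w₂ ≫ g = ζ := Over.OverMorphism.ext hg.symm
  let a₀ := ι ≫ w₁
  have ha₂ : ι ≫ w₂ = a₀ := Over.OverMorphism.ext h0.symm
  obtain ⟨u₁, β₁, κ₁, hκ₁⟩ := exists_pt j w₁ (rfl : w₁ ≫ g = ζ)
  obtain ⟨u₂, β₂, κ₂, hκ₂⟩ := exists_pt j w₂ hζ₂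
  obtain ⟨u₀, β₀, κ₀, hκ₀⟩ := exists_pt j a₀ (Category.assoc ι w₁ g)
  have r₁ : IsRes ι β₁ β₀ := pt_nat ι rfl κ₁ hκ₁ κ₀ hκ₀
  have r₂ : IsRes ι β₂ β₀ := pt_nat ι ha₂ κ₂ hκ₂ κ₀ hκ₀
  have hXg := hX.isStack.1
  have hYg := hY.isStack.1
  -- the two points glue
  let G : Type u := ULift.{u} Bool
  let hs : G → (Spec (CommRingCat.of R) ⟶ W.left) := fun k => cond k.down w₂' w₁'
  obtain ⟨h', hh'⟩ := exists_glue_fam hI (⟨false⟩ : G) hs (fun k => by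
    obtain ⟨_ | _⟩ := k
    · rfl
    · exact h0.symm)
  let T₂ := Over.mk (h' ≫ W.hom)
  let W'' : T₂ ⟶ W := Over.homMk h'
  have hp : ∀ k, Spec.map (CommRingCat.ofHom (famEv (I := I) k)) ≫ h' ≫ W.hom = b := fun k => by
    rw [← Category.assoc, hh' k]
    obtain ⟨_ | _⟩ := k
    · rfl
    · change w₂' ≫ W.hom = b
      exact Over.w w₂
  let p : G → (T ⟶ T₂) := fun k => Over.homMk (Spec.map (CommRingCat.ofHom (famEv (I := I) k))) (hp k)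
  let p₁ := p ⟨false⟩
  let p₂ := p ⟨true⟩
  have hp₁ : p₁ ≫ W'' = w₁ := Over.OverMorphism.ext (hh' ⟨false⟩)
  have hp₂ : p₂ ≫ W'' = w₂ := Over.OverMorphism.ext (hh' ⟨true⟩)
  have hpι : ι ≫ p₁ = ι ≫ p₂ := by
    refine Over.OverMorphism.ext ?_
    change thick I ≫ Spec.map _ = thick I ≫ Spec.map _
    rw [thick, ← Spec.map_comp, ← Spec.map_comp]
    congr 1
    exact CommRingCat.hom_ext (RingHom.ext fun f => Ideal.Quotient.eq.2 (f.2 ⟨false⟩ ⟨true⟩))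
  obtain ⟨u'', β'', κ'', hκ''⟩ := exists_pt j W'' (rfl : W'' ≫ g = W'' ≫ g)
  obtain ⟨q₁, q₁', -⟩ := pt_nat p₁ hp₁ κ'' hκ'' κ₁ hκ₁
  obtain ⟨q₂, q₂', -⟩ := pt_nat p₂ hp₂ κ'' hκ'' κ₂ hκ₂
  obtain ⟨γ''⟩ := exists_viso_bwd hz hxy β''
  obtain ⟨γ₁, hγ₁⟩ := exists_res hXg p₁ γ'' q₁ q₁'
  obtain ⟨γ₂, hγ₂⟩ := exists_res hXg p₂ γ'' q₂ q₂'
  obtain ⟨γ₀, hγ₀⟩ := exists_res hXg ι γ₁ r₁.1 r₁.2.1
  obtain ⟨γ₀', hγ₀'⟩ := exists_res hXg ι γ₂ r₂.1 r₂.2.1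
  have eγ : γ₀' = γ₀ := isRes_unique hXg (hγ₂.trans hγ₀') (hpι ▸ hγ₁.trans hγ₀)
  subst eγ
  obtain ⟨a₁, b₁, e₁⟩ := hγ₀
  obtain ⟨a₂, b₂, e₂⟩ := hγ₀'
  have hinv : ∀ {v : T ⟶ U} (γ : VIso z' x ζ v) (γ₀ : VIso z' x (ι ≫ w₁ ≫ g) u₀)
      (h₁ : ι ≫ ζ = ι ≫ w₁ ≫ g) (h₂ : ι ≫ v = u₀),
      z'.map (mkHom ι h₁) ≫ γ.1.hom = γ₀.1.hom ≫ x.map (mkHom ι h₂) →
      x.map (mkHom ι h₂) ≫ γ.1.inv = γ₀.1.inv ≫ z'.map (mkHom ι h₁) := fun γ γ₀ h₁ h₂ e => by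
    rw [Iso.comp_inv_eq, Category.assoc, e, Iso.inv_hom_id_assoc]
  obtain ⟨rfl, -⟩ := lift_unique hXg b hI hx (o := z'.obj (Over.mk ζ)) (z'.w_obj _) b₁ b₂
    γ₁.1.symm γ₂.1.symm (@IsHomLift.lift_id_inv _ _ _ _ 𝒳.p _ _ _ _ γ₁.2)
    (@IsHomLift.lift_id_inv _ _ _ _ 𝒳.p _ _ _ _ γ₂.2)
    ((hinv γ₁ _ a₁ b₁ e₁).trans (hinv γ₂ _ a₂ b₂ e₂).symm)
  -- no infinitesimal automorphisms
  let ut : T ⟶ U := 𝟙 T ≫ u₁
  obtain ⟨βt₁, ht₁⟩ := exists_res hYg (𝟙 T) β₁ (Category.id_comp ζ) (rfl : 𝟙 T ≫ u₁ = ut)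
  obtain ⟨βt₂, ht₂⟩ := exists_res hYg (𝟙 T) β₂ (Category.id_comp ζ) (rfl : 𝟙 T ≫ u₁ = ut)
  let p₀ : T₀ ⟶ T := 𝟙 T₀ ≫ ι
  obtain ⟨βt₀, ht₀⟩ := exists_res hYg p₀ βt₁ (rfl : p₀ ≫ ζ = p₀ ≫ ζ) (rfl : p₀ ≫ ut = p₀ ≫ ut)
  obtain ⟨βt₀', ht₀'⟩ := exists_res hYg p₀ βt₂ (rfl : p₀ ≫ ζ = p₀ ≫ ζ) (rfl : p₀ ≫ ut = p₀ ≫ ut)
  have ep : p₀ ≫ 𝟙 T = 𝟙 T₀ ≫ ι := Category.comp_id _
  obtain ⟨βt₀'', ht₀''⟩ := exists_res hYg (𝟙 T₀) β₀
    (show 𝟙 T₀ ≫ ι ≫ w₁ ≫ g = p₀ ≫ ζ from (Category.assoc _ _ _).symm)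
    (show 𝟙 T₀ ≫ u₀ = p₀ ≫ ut by simp [p₀, ut, r₁.2.1])
  have et₀ : βt₀' = βt₀ := (isRes_unique hYg (ep ▸ ht₂.trans ht₀') (r₂.trans ht₀'')).trans
    (isRes_unique hYg (ep ▸ ht₁.trans ht₀) (r₁.trans ht₀'')).symm
  subst et₀
  let P' := BasedFunctor.comp (AlgSt.overMap u₁) y
  let δ : Vert P' P' (Over.mk (𝟙 T)) :=
    ⟨βt₁.1.inv ≫ βt₂.1.hom,
      homLift_id_comp (@IsHomLift.lift_id_inv _ _ _ _ 𝒴.p _ _ _ _ βt₁.2) βt₂.2⟩
  have hδ : bRs ι (bTop ι) δ = 1 := by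
    refine Subtype.ext (congrArg Subtype.val (rs_eq (P := P') (bTop ι) δ (ψ := 1) ?_))
    obtain ⟨c₁, d₁, f₁⟩ := ht₀
    obtain ⟨c₂, d₂, f₂⟩ := ht₀'
    rw [vert_one, Category.id_comp]
    have hμ : P'.map (bTop ι) = y.map (mkHom p₀ d₁) :=
      congrArg y.toFunctor.map (Over.OverMorphism.ext ((Category.comp_id _).symm.trans (Over.w (bTop ι))))
    rw [hμ]
    change _ = y.map (mkHom p₀ d₁) ≫ βt₁.1.inv ≫ βt₂.1.hom
    have f₁' : y.map (mkHom p₀ d₁) ≫ βt₁.1.inv = βt₀'.1.inv ≫ z.map (mkHom p₀ c₁) :=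
      (Iso.comp_inv_eq _).2 (((Category.assoc _ _ _).trans
        ((congrArg (βt₀'.1.inv ≫ ·) f₁).trans (Iso.inv_hom_id_assoc _ _))).symm)
    refine Eq.symm ?_
    refine ((Category.assoc _ _ _).symm.trans ((congrArg (· ≫ βt₂.1.hom) f₁').trans
      ((Category.assoc _ _ _).trans ((congrArg (βt₀'.1.inv ≫ ·) f₂).trans ?_))))
    exact Iso.inv_hom_id_assoc _ _
  have hδ1 : δ = 1 := kernel_transfer ι
    (P := BasedFunctor.comp (AlgSt.overMap u₁) x) (P' := P') (φ := φ)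
    (fun e => hxy ((Over.map u₁).obj e)) (fun a ha => by
      let P := BasedFunctor.comp (AlgSt.overMap u₁) x
      have : 𝒳.p.IsHomLift (𝟙 T) a.1 := a.2
      have := isIso_of_fibGrpd hXg (𝟙 T) a.1
      have ha' : P.map (bTop ι) ≫ a.1 = P.map (bTop ι) := by
        have h1 := rs_spec (P := P) (bTop ι) a
        have h2 : (rs (P := P) (bTop ι) a).1 = 𝟙 _ :=
          (congrArg Subtype.val ha : (bRs ι (bTop ι) a).1 = _)
        rw [h2, Category.id_comp] at h1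
        exact h1.symm
      obtain ⟨hw', hh⟩ := lift_unique hXg b hI hx (o := x.obj (Over.mk ut)) (x.w_obj _)
        (w₁ := ut) (w₂ := ut) (a₀ := ι ≫ ut) rfl rfl (Iso.refl _) (asIso a.1)
        (IsHomLift.id (x.w_obj _)) a.2 (by
          have hμ : P.map (bTop ι) = x.map (mkHom p₀ rfl) :=
            congrArg x.toFunctor.map (Over.OverMorphism.ext ((Category.comp_id _).symm.trans (Over.w (bTop ι))))
          rw [hμ] at ha'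
          have hd : x.map (ιM (rfl : ι ≫ ut = ι ≫ ut)) =
              x.map (mkHom (T' := T₀) (𝟙 T₀) ((Category.id_comp (p₀ ≫ ut)).trans (congrArg (· ≫ ut) (Category.id_comp ι)))) ≫
                x.map (mkHom p₀ (rfl : p₀ ≫ ut = p₀ ≫ ut)) := by
            rw [map_mkHom_comp]
            exact map_mkHom_congr x ((Category.id_comp _).trans (Category.id_comp ι)).symm _ _
          refine (Category.comp_id _).trans (hd.trans ?_)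
          refine Eq.symm ?_
          refine (congrArg (· ≫ a.1) hd).trans ((Category.assoc _ _ _).trans ?_)
          exact congrArg (_ ≫ ·) ha')
      refine Subtype.ext ?_
      rw [Iso.refl_hom, show (Over.homMk (𝟙 T) (Category.id_comp ut) :
        (Over.mk ut : (FibCat.overCat U).obj) ⟶ Over.mk ut) = 𝟙 _ from Over.OverMorphism.ext rfl,
        x.toFunctor.map_id, Category.id_comp] at hh
      exact hh.symm) δ hδ
  have et : βt₁ = βt₂ := Subtype.ext (Iso.ext (by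
    have h1 : βt₁.1.inv ≫ βt₂.1.hom = 𝟙 _ := congrArg Subtype.val hδ1
    exact ((((Iso.inv_comp_eq _).1 h1)).trans (Category.comp_id _)).symm))
  have eβ : β₁ = β₂ := by
    obtain ⟨m₁, n₁, g₁⟩ := ht₁
    obtain ⟨m₂, n₂, g₂⟩ := ht₂
    subst et
    have : IsIso (z.map (mkHom (𝟙 T) m₁)) := by
      have := map_mkHom_lift z (𝟙 T) m₁
      exact isIso_of_fibGrpd hYg (𝟙 T) _
    exact Subtype.ext (Iso.ext ((cancel_epi (z.map (mkHom (𝟙 T) m₁))).1 (g₁.trans g₂.symm)))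
  subst eβ
  obtain ⟨hw, -⟩ := lift_unique (fp_fibGrpd (fibGrpd_overCat Z) (fibGrpd_overCat U) hYg) b hI
    (repWith_locP_mono (fun _ _ k (hk : Etale k) => ⟨(inferInstance : LocallyOfFiniteType k),
      (inferInstance : FormallyUnramified k)⟩) hc) (o := β₁.obj) rfl (rfl : ι ≫ w₁ = a₀) ha₂
    κ₁ κ₂ hκ₁ hκ₂ (fp_hom_ext_of_lift
      (lift_then_vert (map_mkHom_lift c ι rfl) hκ₁) (lift_then_vert (map_mkHom_lift c ι ha₂) hκ₂))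
  exact congrArg CommaMorphism.left hw

end Groth.Agent.H14IsoNat
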