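import Groth.Agent.H14IsoNat.TrivLocus
import Groth.Agent.H14IsoNat.ChartLfp
import Groth.Agent.H14AlgSt.SetoidSpace
import Groth.Agent.H14AlgSt.Substack

/-!
# The clean locus of a stack with proper inertia
-/

set_option autoImplicit false
set_option backward.isDefEq.respectTransparency false
set_option backward.isDefEq.respectTransparency.types false

universe u

open CategoryTheory CategoryTheory.Functor Opposite AlgebraicGeometry CategoryTheory.Limits Topology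

noncomputable section

namespace Groth.Agent.H14IsoNat

open H14Fib H14Stk H14AlgSt

variable {S : Scheme.{u}} {𝒳 : AlgSt.Cat S}

local notation "K₀" => Scheme.fppfPrecoverage

lemma isClean_of_hom {a b : 𝒳.obj} (φ : b ⟶ a) (h : IsoNat.IsClean a) : IsoNat.IsClean b :=
  fun x ψ s hs => h x (ψ ≫ φ) s hs

lemma isClean_closedUnderIso :
    ObjectProperty.IsClosedUnderIsomorphisms (fun η : 𝒳.obj => IsoNat.IsClean η) :=
  ⟨fun e h => isClean_of_hom e.inv h⟩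

lemma lift_id_congr {𝒲 : AlgSt.Cat S} {U V : Over S} (h : U = V) {a b : 𝒲.obj} (φ : a ⟶ b)
    (hl : 𝒲.p.IsHomLift (𝟙 U) φ) : 𝒲.p.IsHomLift (𝟙 V) φ := by
  subst h
  exact hl

lemma map_of_vert {T : Over S} {a b : 𝒳.obj} (φ : a ⟶ b) (hφ : 𝒳.p.IsHomLift (𝟙 T) φ) (ha : 𝒳.p.obj a = T)
    (hb : 𝒳.p.obj b = T) : 𝒳.p.map φ = eqToHom (ha.trans hb.symm) := by
  rw [@IsHomLift.fac' _ _ _ _ 𝒳.p _ _ _ _ (𝟙 T) φ hφ]
  simp

section Slice

variable {T T' : Over S} (P : FibCat.overCat T ⥤ᵇ 𝒳) (g : T' ⟶ T)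


/-- A value of a slice is clean iff the values above it have no automorphisms. -/
lemma isClean_slice_iff (hX : FibCat.IsFibGrpd 𝒳.p) :
    IsoNat.IsClean (P.obj (Over.mk g)) ↔
      ∀ ⦃T'' : Over S⦄ (h : T'' ⟶ T') (δ : VAut P (h ≫ g)), δ.1.hom = 𝟙 _ := by
  constructor
  · intro hc T'' h δ
    refine hc _ (P.map (mkHom h rfl)) δ.1.hom ?_
    rw [map_of_vert δ.1.hom δ.2 (P.w_obj _) (P.w_obj _)]
    rfl
  · intro H x φ s hs
    let f : 𝒳.p.obj x ⟶ T' := 𝒳.p.map φ ≫ eqToHom (P.w_obj (Over.mk g))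
    have hφ : 𝒳.p.IsHomLift f φ :=
      IsHomLift.of_fac' 𝒳.p f φ rfl (P.w_obj (Over.mk g)) (by simp [f])
    have hψ : 𝒳.p.IsHomLift f (P.map (mkHom f (rfl : f ≫ g = f ≫ g))) := map_mkHom_lift P f _
    obtain ⟨i, hi, -⟩ := exists_vertIso hX f φ (P.map (mkHom f (rfl : f ≫ g = f ≫ g)))
    have hl : 𝒳.p.IsHomLift (𝟙 (𝒳.p.obj x)) s :=
      IsHomLift.of_fac' 𝒳.p _ s rfl rfl (by simp [hs])
    have := isIso_of_fibGrpd hX (𝟙 (𝒳.p.obj x)) s
    have h1 := H f ⟨i.symm ≪≫ asIso s ≪≫ i, homLift_id_comp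
      (@IsHomLift.lift_id_inv _ _ _ _ 𝒳.p _ _ _ i hi) (homLift_id_comp hl hi)⟩
    change i.inv ≫ s ≫ i.hom = 𝟙 _ at h1
    rw [Iso.inv_comp_eq, Category.comp_id] at h1
    rw [← cancel_mono i.hom, h1, Category.id_comp]

variable {F : AlgSp.Space S} (e : AlgSt.ofSp F.obj ⥤ᵇ FibCat.fp P (FibCat.inertiaToBase (FibCat.toSelf 𝒳)))

/-- The point of the slice under a section. -/
lemma secHom_of_comp {T'' : Over S} {k : T'' ⟶ T} (a : (AlgSp.yon S).obj T'' ⟶ F.obj)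
    (h : a ≫ AlgSt.spMapOfOver (BasedFunctor.comp e (FibCat.fpFst P (FibCat.inertiaToBase (FibCat.toSelf 𝒳)))) = (AlgSp.yon S).map k) :
    AlgSt.secHom (BasedFunctor.comp e (FibCat.fpFst P (FibCat.inertiaToBase (FibCat.toSelf 𝒳))))
      ⟨T'', (AlgSp.J S).uliftYonedaEquiv a⟩ = k := by
  have h' := congrArg (AlgSp.J S).uliftYonedaEquiv h
  rw [GrothendieckTopology.uliftYonedaEquiv_comp] at h'
  exact (congrArg ULift.down h').trans (Category.id_comp k)

lemma comp_of_secHom {T'' : Over S} {k : T'' ⟶ T} (x : F.obj.obj.obj (op T''))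
    (h : AlgSt.secHom (BasedFunctor.comp e (FibCat.fpFst P (FibCat.inertiaToBase (FibCat.toSelf 𝒳)))) ⟨T'', x⟩ = k) :
    (AlgSp.J S).uliftYonedaEquiv.symm x ≫
      AlgSt.spMapOfOver (BasedFunctor.comp e (FibCat.fpFst P (FibCat.inertiaToBase (FibCat.toSelf 𝒳)))) = (AlgSp.yon S).map k := by
  apply (AlgSp.J S).uliftYonedaEquiv.injective
  rw [GrothendieckTopology.uliftYonedaEquiv_comp, Equiv.apply_symm_apply, AlgSt.spMapOfOver_app, h]
  exact congrArg ULift.up (Category.id_comp k).symm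

/-- Every object of the pulled back inertia over a point is vertically isomorphic to the value of a section. -/
lemma exists_sec (he : FibCat.IsEquivOver e) {T'' : Over S} (o : (FibCat.fp P (FibCat.inertiaToBase (FibCat.toSelf 𝒳))).obj)
    (k : T'' ⟶ T) (ho : o.obj.fst = Over.mk k) :
    ∃ (x : F.obj.obj.obj (op T'')) (i : e.obj ⟨T'', x⟩ ≅ o),
      (FibCat.fp P (FibCat.inertiaToBase (FibCat.toSelf 𝒳))).p.IsHomLift (𝟙 T'') i.hom ∧
      AlgSt.secHom (BasedFunctor.comp e (FibCat.fpFst P (FibCat.inertiaToBase (FibCat.toSelf 𝒳)))) ⟨T'', x⟩ = k := by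
  obtain ⟨ξ, d, hd⟩ := essSurjOver_of_isEquivOver he o
  have hb : (FibCat.fp P (FibCat.inertiaToBase (FibCat.toSelf 𝒳))).p.obj o = T'' := congrArg Comma.left ho
  have hξ : ξ.base = T'' := (EssSurjOver.obj_eq d.hom).trans hb
  obtain ⟨B, x⟩ := ξ
  cases hξ
  have hd' : (FibCat.fp P (FibCat.inertiaToBase (FibCat.toSelf 𝒳))).p.IsHomLift (𝟙 B) d.hom := lift_id_congr (𝒲 := FibCat.fp P (FibCat.inertiaToBase (FibCat.toSelf 𝒳))) hb d.hom hd
  refine ⟨x, d, hd', ?_⟩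
  have h1 : (d.hom.hom.fst ≫ eqToHom ho).left ≫ k = (e.obj ⟨B, x⟩).obj.fst.hom :=
    Over.w (d.hom.hom.fst ≫ eqToHom ho)
  have h2 : (d.hom.hom.fst ≫ eqToHom ho).left =
      eqToHom ((BasedFunctor.comp e (FibCat.fpFst P (FibCat.inertiaToBase (FibCat.toSelf 𝒳)))).w_obj _) := by
    have h3 : (FibCat.overCat T).p.IsHomLift (𝟙 B) d.hom.hom.fst :=
      (fp_isHomLift_iff _ _).1 hd'
    have h4 : d.hom.hom.fst.left = _ :=
      @IsHomLift.fac' _ _ _ _ (FibCat.overCat T).p _ _ _ _ (𝟙 B) d.hom.hom.fst h3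
    have h5 : ∀ {a b : Over T} (h : a = b), (eqToHom h).left = eqToHom (congrArg Comma.left h) := by
      intro a b h
      subst h
      rfl
    rw [Over.comp_left, h4, h5 ho]
    simp
  rw [h2] at h1
  change eqToHom _ ≫ (e.obj ⟨B, x⟩).obj.fst.hom = k
  rw [← h1]
  simp

theorem trivOver_iff_clean (hX : FibCat.IsFibGrpd 𝒳.p) (he : FibCat.IsEquivOver e) :
    TrivOver (AlgSt.spMapOfOver (BasedFunctor.comp e (FibCat.fpFst P (FibCat.inertiaToBase (FibCat.toSelf 𝒳))))) g ↔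
      IsoNat.IsClean (P.obj (Over.mk g)) := by
  rw [isClean_slice_iff P g hX]
  have hfull := (isEquivalence_of_isEquivOver he)
  constructor
  · intro H T'' h δ
    let k := h ≫ g
    let mkO : ∀ δ : VAut P k, (FibCat.fp P (FibCat.inertiaToBase (FibCat.toSelf 𝒳))).obj := fun δ =>
      fpObj (Over.mk k) ⟨P.obj (Over.mk k), δ.1, by
        change 𝒳.p.map δ.1.hom = 𝟙 _
        rw [map_of_vert δ.1.hom δ.2 (P.w_obj _) (P.w_obj _)]
        rfl⟩ (Iso.refl _) rfl (IsHomLift.id (P.w_obj _))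
    obtain ⟨x, i, hi, hx⟩ := exists_sec P e he (mkO δ) k rfl
    obtain ⟨y, j, hj, hy⟩ := exists_sec P e he (mkO ⟨Iso.refl _, IsHomLift.id (P.w_obj _)⟩) k rfl
    have hxy := H h _ _ (comp_of_secHom P e x hx) (comp_of_secHom P e y hy)
    obtain rfl : x = y := (AlgSp.J S).uliftYonedaEquiv.symm.injective hxy
    let ψ := i.symm ≪≫ j
    have hψ : (FibCat.fp P (FibCat.inertiaToBase (FibCat.toSelf 𝒳))).p.IsHomLift (𝟙 T'') ψ.hom :=
      homLift_id_comp (@IsHomLift.lift_id_inv _ _ _ _ (FibCat.fp P (FibCat.inertiaToBase (FibCat.toSelf 𝒳))).p _ _ _ i hi) hj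
    have hf : ψ.hom.hom.fst = 𝟙 _ := by
      apply Over.OverMorphism.ext
      have h3 : (FibCat.overCat T).p.IsHomLift (𝟙 T'') ψ.hom.hom.fst :=
        (fp_isHomLift_iff _ _).1 hψ
      have h4 : ψ.hom.hom.fst.left = _ :=
        @IsHomLift.fac' _ _ _ _ (FibCat.overCat T).p _ _ _ _ (𝟙 T'') ψ.hom.hom.fst h3
      rw [h4]
      simp [mkO, fpObj]
      rfl
    have hw : P.map ψ.hom.hom.fst ≫ 𝟙 _ = 𝟙 _ ≫ ψ.hom.hom.snd.hom := ψ.hom.hom.w
    rw [hf, Category.comp_id, Category.id_comp] at hw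
    have hw' : ψ.hom.hom.snd.hom = 𝟙 _ := hw.symm.trans (P.toFunctor.map_id _)
    have hcm : δ.1.hom ≫ ψ.hom.hom.snd.hom = ψ.hom.hom.snd.hom ≫ 𝟙 _ := ψ.hom.hom.snd.comm
    rw [hw'] at hcm
    exact (Category.comp_id _).symm.trans (hcm.trans (Category.comp_id _))
  · intro H T'' h a b ha hb
    let k := h ≫ g
    have key : ∀ (x : F.obj.obj.obj (op T'')),
        AlgSt.secHom (BasedFunctor.comp e (FibCat.fpFst P (FibCat.inertiaToBase (FibCat.toSelf 𝒳)))) ⟨T'', x⟩ = k →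
        ∃ (v : (e.obj ⟨T'', x⟩).obj.fst ≅ (Over.mk k : (FibCat.overCat T).obj)),
          (FibCat.overCat T).p.IsHomLift (𝟙 T'') v.hom ∧ (e.obj ⟨T'', x⟩).obj.snd.aut.hom = 𝟙 _ := by
      intro x hx
      let o := e.obj ⟨T'', x⟩
      have ho : o.obj.fst.left = T'' := (BasedFunctor.comp e (FibCat.fpFst P (FibCat.inertiaToBase (FibCat.toSelf 𝒳)))).w_obj _
      let v : o.obj.fst ≅ (Over.mk k : (FibCat.overCat T).obj) :=
        Over.isoMk (eqToIso ho) (by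
          change eqToHom ho ≫ k = o.obj.fst.hom
          rw [← hx]
          simp [AlgSt.secHom, o]
          rfl)
      have hv : (FibCat.overCat T).p.IsHomLift (𝟙 T'') v.hom :=
        IsHomLift.of_fac' _ _ _ ho rfl (by simp [v]; rfl)
      refine ⟨v, hv, ?_⟩
      have ho' : (FibCat.fp P (FibCat.inertiaToBase (FibCat.toSelf 𝒳))).p.obj o = T'' := ho
      have h1 : 𝒳.p.IsHomLift (𝟙 T'') (P.map v.inv) :=
        @BasedFunctor.preserves_isHomLift _ _ _ _ P _ _ _ _ (𝟙 T'') v.inv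
          (@IsHomLift.lift_id_inv _ _ _ _ (FibCat.overCat T).p _ _ _ v hv)
      have h2 : 𝒳.p.IsHomLift (𝟙 T'') (P.map v.hom) :=
        @BasedFunctor.preserves_isHomLift _ _ _ _ P _ _ _ _ (𝟙 T'') v.hom hv
      have h3 := fp_iso_isHomLift o ho'
      have h4 : 𝒳.p.obj o.obj.snd.pt = T'' := (fp_snd_obj o).trans ho'
      have h5 : 𝒳.p.IsHomLift (𝟙 T'') o.obj.snd.aut.hom :=
        IsHomLift.of_fac' 𝒳.p _ _ h4 h4 (by
          rw [show 𝒳.p.map o.obj.snd.aut.hom = 𝟙 _ from o.obj.snd.map_aut]; simp)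
      let c : P.obj (Over.mk k) ≅ o.obj.snd.pt := P.toFunctor.mapIso v.symm ≪≫ o.obj.iso
      have hcl : 𝒳.p.IsHomLift (𝟙 T'') c.hom := homLift_id_comp h1 h3
      have h6 := H h ⟨c ≪≫ o.obj.snd.aut ≪≫ c.symm,
        homLift_id_comp hcl (homLift_id_comp h5 (@IsHomLift.lift_id_inv _ _ _ _ 𝒳.p _ _ _ c hcl))⟩
      change c.hom ≫ o.obj.snd.aut.hom ≫ c.inv = 𝟙 _ at h6
      rw [← Category.assoc, Iso.comp_inv_eq, Category.id_comp] at h6
      change o.obj.snd.aut.hom = 𝟙 _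
      rw [← cancel_epi c.hom, h6, Category.comp_id]
    let x := (AlgSp.J S).uliftYonedaEquiv a
    let y := (AlgSp.J S).uliftYonedaEquiv b
    obtain ⟨v, hv, hxa⟩ := key x (secHom_of_comp P e a ha)
    obtain ⟨w, hw, hya⟩ := key y (secHom_of_comp P e b hb)
    let o := e.obj ⟨T'', x⟩
    let o' := e.obj ⟨T'', y⟩
    let f₁ : o.obj.fst ⟶ o'.obj.fst := v.hom ≫ w.inv
    have hf₁ : (FibCat.overCat T).p.IsHomLift (𝟙 T'') f₁ :=
      homLift_id_comp hv (@IsHomLift.lift_id_inv _ _ _ _ (FibCat.overCat T).p _ _ _ w hw)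
    let f₂ : o.obj.snd.pt ⟶ o'.obj.snd.pt := o.obj.iso.inv ≫ P.map f₁ ≫ o'.obj.iso.hom
    let m : o ⟶ o' := fpHom f₁ ⟨f₂, by rw [hxa, hya, Category.id_comp, Category.comp_id]⟩ (by
      change P.map f₁ ≫ o'.obj.iso.hom = o.obj.iso.hom ≫ o.obj.iso.inv ≫ P.map f₁ ≫ o'.obj.iso.hom
      exact (Iso.hom_inv_id_assoc _ _).symm)
    have hm : (FibCat.fp P (FibCat.inertiaToBase (FibCat.toSelf 𝒳))).p.IsHomLift (𝟙 T'') m := (fp_isHomLift_iff _ _).2 hf₁
    let m' := e.toFunctor.preimage m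
    have hm' : (AlgSt.ofSp F.obj).p.IsHomLift (𝟙 T'') m' := by
      refine (BasedFunctor.isHomLift_iff e _ _).1 ?_
      rwa [e.toFunctor.map_preimage]
    have hh : m'.hom = 𝟙 T'' := by
      have : (AlgSt.ofSp F.obj).p.map m' = _ :=
        @IsHomLift.fac' _ _ _ _ (AlgSt.ofSp F.obj).p _ _ _ _ (𝟙 T'') m' hm'
      simpa using this
    have := m'.map_sec
    rw [hh] at this
    apply (AlgSp.J S).uliftYonedaEquiv.injective
    change x = y
    simpa using this.symm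

end Slice

variable (hX : AlgSt.IsAlgStack K₀ 𝒳)
  (hi : AlgSt.RepByAlgSpWith (AlgSp.LocP @LocallyOfFinitePresentation)
    (FibCat.inertiaToBase (FibCat.toSelf 𝒳)))
  (hpr : AlgSt.RepByAlgSpWith AlgSp.IsProperMor (FibCat.inertiaToBase (FibCat.toSelf 𝒳)))

include hX hi hpr

/-- The clean values of a slice form an open subscheme. -/
theorem exists_clean_opens {T : Over S} (P : FibCat.overCat T ⥤ᵇ 𝒳) :
    ∃ V : T.left.Opens,
      (∀ {T' : Over S} (g : T' ⟶ T),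
        IsoNat.IsClean (P.obj (Over.mk g)) ↔ Set.range g.left ⊆ (V : Set T.left)) ∧
      (IsAffine T.left → IsCompact (V : Set T.left)) := by
  have := respectsIso_locP (S := S) @LocallyOfFinitePresentation
  obtain ⟨F, e, he, hp, hl⟩ := repWith_inf (sourceIsoInv_of_respectsIso _) hpr hi T P
  let q := BasedFunctor.comp e (FibCat.fpFst P (FibCat.inertiaToBase (FibCat.toSelf 𝒳)))
  let o : (FibCat.fp P (FibCat.inertiaToBase (FibCat.toSelf 𝒳))).obj :=
    fpObj (topObj T) ⟨P.obj (topObj T), Iso.refl _, 𝒳.p.map_id _⟩ (Iso.refl _) rfl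
      (IsHomLift.id (P.w_obj _))
  obtain ⟨x, -, -, hx⟩ := exists_sec P e he o (𝟙 T) rfl
  have hs : (AlgSp.J S).uliftYonedaEquiv.symm x ≫ AlgSt.spMapOfOver q = 𝟙 _ :=
    (comp_of_secHom P e x hx).trans ((AlgSp.yon S).map_id T)
  obtain ⟨V, hV, hc⟩ := exists_triv_opens _ F.property hl hp _ hs
  exact ⟨V, fun g => (trivOver_iff_clean P g e hX.isStack.1 he).symm.trans (hV g), hc⟩

end Groth.Agent.H14IsoNat
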