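import Groth.Agent.H14IsoNat.Clean
import Groth.Agent.S15492

/-!
# The clean locus is open and its inclusion is quasi-compact
-/

set_option autoImplicit false
set_option backward.isDefEq.respectTransparency false
set_option backward.isDefEq.respectTransparency.types false

universe u

open CategoryTheory CategoryTheory.Functor Opposite AlgebraicGeometry CategoryTheory.Limits Topology

noncomputable section

namespace Groth.Agent.H14IsoNat

open H14Fib H14Stk H14AlgSt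

variable {S : Scheme.{u}} {𝒳 : AlgSt.Cat S}

local notation "K₀" => Scheme.fppfPrecoverage

variable (hX : AlgSt.IsAlgStack K₀ 𝒳)
  (hi : AlgSt.RepByAlgSpWith (AlgSp.LocP @LocallyOfFinitePresentation)
    (FibCat.inertiaToBase (FibCat.toSelf 𝒳)))
  (hpr : AlgSt.RepByAlgSpWith AlgSp.IsProperMor (FibCat.inertiaToBase (FibCat.toSelf 𝒳)))

/-- The classes of clean objects. -/
def cleanCls (T : Over S) : Set (IsoNat.IsoCl 𝒳 T) :=
  {c | ∀ x : 𝒳.p.Fiber T, IsoNat.cls x = c → IsoNat.IsClean x.1}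

lemma mem_cleanCls_iff {T : Over S} (x : 𝒳.p.Fiber T) :
    IsoNat.cls x ∈ cleanCls T ↔ IsoNat.IsClean x.1 := by
  refine ⟨fun h => h x rfl, fun h y hy => ?_⟩
  obtain ⟨e⟩ := Quotient.exact hy
  exact isClean_of_hom e.hom.1 h

lemma cleanCls_pull (T' T : Over S) (g : T' ⟶ T) (x' : 𝒳.p.Fiber T') (x : 𝒳.p.Fiber T)
    (a : x'.1 ⟶ x.1) (_ : 𝒳.p.IsHomLift g a) (h : IsoNat.cls x ∈ cleanCls T) :
    IsoNat.cls x' ∈ cleanCls T' :=
  (mem_cleanCls_iff x').2 (isClean_of_hom a ((mem_cleanCls_iff x).1 h))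

include hX hi hpr

lemma cleanCls_open (T : Over S) (x : 𝒳.p.Fiber T) : ∃ V : T.left.Opens,
    ∀ (T' : Over S) (g : T' ⟶ T) (x' : 𝒳.p.Fiber T') (a : x'.1 ⟶ x.1), 𝒳.p.IsHomLift g a →
      (IsoNat.cls x' ∈ cleanCls T' ↔ ∃ g' : T'.left ⟶ ↑V, g' ≫ V.ι = g.left) := by
  have := isFibered_of_fibGrpd hX.isStack.1
  obtain ⟨P, i, -, hi'⟩ := exists_fromOver (𝒳 := 𝒳) x.2
  obtain ⟨V, hV, -⟩ := exists_clean_opens hX hi hpr P
  refine ⟨V, fun T' g x' a ha => ?_⟩
  let n : (Over.mk g : (FibCat.overCat T).obj) ⟶ topObj T :=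
    toTop (Over.mk g : (FibCat.overCat T).obj)
  have hφ : 𝒳.p.IsHomLift g (P.map n ≫ i.hom) :=
    lift_then_vert (@BasedFunctor.preserves_isHomLift _ _ _ _ P _ _ _ _ g n (overCat_isHomLift n)) hi'
  obtain ⟨j, -, -⟩ := exists_vertIso hX.isStack.1 g a (P.map n ≫ i.hom)
  rw [mem_cleanCls_iff, show IsoNat.IsClean x'.1 ↔ IsoNat.IsClean (P.obj (Over.mk g)) from
    ⟨isClean_of_hom j.inv, isClean_of_hom j.hom⟩, hV g]
  refine ⟨fun h => ⟨IsOpenImmersion.lift V.ι g.left (by rwa [Scheme.Opens.range_ι]),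
    IsOpenImmersion.lift_fac _ _ _⟩, ?_⟩
  rintro ⟨g', hg'⟩ _ ⟨t, rfl⟩
  rw [← hg', Scheme.Hom.comp_apply]
  exact (g' t).2

/-- The points with clean representatives. -/
abbrev cleanPts : Set (AlgSt.Points 𝒳) :=
  S15492.ptSet cleanCls cleanCls_pull (cleanCls_open hX hi hpr)

lemma isClean_eq_ptPred :
    (fun η : 𝒳.obj => IsoNat.IsClean η) = ptPred (cleanPts hX hi hpr) := by
  refine Eq.trans ?_
    (S15492.inW_eq_ptPred cleanCls cleanCls_pull (cleanCls_open hX hi hpr) hX.isStack.1)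
  funext η
  exact propext (mem_cleanCls_iff (⟨η, rfl⟩ : 𝒳.p.Fiber (𝒳.p.obj η))).symm

theorem repWith_qc_subIncl_clean :
    AlgSt.RepByAlgSpWith AlgSp.IsQuasiCompactMor
      (AlgSt.subIncl 𝒳 (ptPred (cleanPts hX hi hpr))) := by
  intro U x
  have hO : IsOpen (cleanPts hX hi hpr) := S15492.isOpen_ptSet _ _ _
  let W := chartOpen hX hO x
  refine ⟨⟨(AlgSp.yon S).obj (subU W), AlgSp.IsAlgSpace.yon_obj _⟩,
    BasedFunctor.comp (AlgSt.toOverCat _) (toSubFp hX hO x),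
    isEquivOver_comp (toOverCat_isEquivOver _) (toSubFp_isEquivOver hX hO x), ?_⟩
  have h : AlgSt.spMapOfOver (BasedFunctor.comp (BasedFunctor.comp (AlgSt.toOverCat (subU W))
      (toSubFp hX hO x)) (FibCat.fpFst x (AlgSt.subIncl 𝒳 (ptPred (cleanPts hX hi hpr))))) =
      (AlgSp.yon S).map (subUIncl W) := by
    change AlgSt.spMapOfOver (BasedFunctor.comp (AlgSt.toOverCat (subU W))
      (AlgSt.overMap (subUIncl W))) = _
    rw [spMapOfOver_overMap, spMapOfOver_toOverCat, Category.id_comp]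
  rw [h]
  refine H12AlgSp.isQuasiCompactMor_of_repWith (AlgSp.IsAlgSpace.yon_obj _) (AlgSp.IsAlgSpace.yon_obj _)
    ((AlgSp.repWith_yon_map_iff _ _).2 ?_)
  change QuasiCompact W.ι
  rw [quasiCompact_iff_forall_isAffineOpen]
  intro A hA
  have : IsAffine A.toScheme := hA
  let ι : Over.mk (A.ι ≫ U.hom) ⟶ U := Over.homMk A.ι rfl
  obtain ⟨V, hV, hc⟩ := exists_clean_opens hX hi hpr (BasedFunctor.comp (AlgSt.overMap ι) x)
  rw [(W.ι.isOpenEmbedding.isInducing).isCompact_iff]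
  let VA : Set A.toScheme := (V : Set (Over.mk (A.ι ≫ U.hom)).left)
  have key : W.ι '' (W.ι ⁻¹ᵁ A : Set W) = A.ι '' VA := by
    have hpt : ∀ a : A.toScheme, a ∈ VA ↔ AlgSt.Points.ofChart x (A.ι a) ∈ cleanPts hX hi hpr := by
      intro a
      let g : Over.mk (A.toScheme.fromSpecResidueField a ≫ A.ι ≫ U.hom) ⟶ Over.mk (A.ι ≫ U.hom) :=
        Over.homMk (A.toScheme.fromSpecResidueField a) rfl
      have h1 := hV g
      rw [show Set.range g.left = {a} from A.toScheme.range_fromSpecResidueField a,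
        Set.singleton_subset_iff] at h1
      refine h1.symm.trans ?_
      change IsoNat.IsClean (x.obj (Over.mk (g ≫ ι))) ↔ _
      rw [iff_of_eq (congrFun (isClean_eq_ptPred hX hi hpr) _), ptPred_chart_iff hX.isStack.1]
      have e : ∀ z, (g ≫ ι).left z = A.ι a := fun z =>
        congrArg A.ι (A.toScheme.fromSpecResidueField_apply a z)
      refine ⟨fun h => ?_, fun h z => ?_⟩
      · have := h (IsLocalRing.closedPoint (A.toScheme.residueField a))
        exact (congrArg (AlgSt.Points.ofChart x · ∈ _) (e _)).mp this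
      · exact (congrArg (AlgSt.Points.ofChart x · ∈ _) (e z)).mpr h
    ext u
    constructor
    · rintro ⟨w, hw, rfl⟩
      exact ⟨(⟨W.ι w, hw⟩ : A.toScheme), (hpt _).2 w.2, rfl⟩
    · rintro ⟨a, ha, rfl⟩
      exact ⟨(⟨A.ι a, (hpt a).1 ha⟩ : W.toScheme), a.2, rfl⟩
  rw [key]
  exact (hc ‹_› : IsCompact VA).image A.ι.continuous

theorem isOpenSubstack_clean :
    AlgSt.IsOpenSubstack 𝒳 (fun η => IsoNat.IsClean η) K₀ ∧
      AlgSt.RepByAlgSpWith AlgSp.IsQuasiCompactMor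
        (AlgSt.subIncl 𝒳 (fun η => IsoNat.IsClean η)) := by
  rw [isClean_eq_ptPred hX hi hpr]
  exact ⟨isOpenSubstack_ptPred hX (S15492.isOpen_ptSet _ _ _), repWith_qc_subIncl_clean hX hi hpr⟩

end Groth.Agent.H14IsoNat
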