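import Groth.Agent.H14IsoNat.ChartTransfer

/-!
# Schemes doubled along an open subscheme, and extension of automorphisms
-/

set_option autoImplicit false
set_option backward.isDefEq.respectTransparency false
set_option backward.isDefEq.respectTransparency.types false

universe u

open CategoryTheory CategoryTheory.Functor CategoryTheory.Limits AlgebraicGeometry

noncomputable section

namespace Groth.Agent.H14IsoNat

open H14Fib H14Stk

variable {S : Scheme.{u}} {T W : Over S} (j : W ⟶ T) [IsOpenImmersion j.left]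

local notation "K₀" => Scheme.fppfPrecoverage

namespace Dbl

instance (priority := 100) span_openImmersion : ∀ {a b : WalkingSpan} (f : a ⟶ b),
    IsOpenImmersion ((span j.left j.left).map f) := fun {a b} f => by
  rcases f with _ | c
  · simp; infer_instance
  · cases c <;> exact inferInstanceAs (IsOpenImmersion j.left)

/-- Two copies of `T` glued along `W`. -/
def D : Over S := Over.mk (pushout.desc T.hom T.hom rfl : pushout j.left j.left ⟶ S)

/-- The two copies. -/
def lg : Bool → (T ⟶ D j)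
  | false => Over.homMk (pushout.inl j.left j.left) (pushout.inl_desc _ _ _)
  | true => Over.homMk (pushout.inr j.left j.left) (pushout.inr_desc _ _ _)

/-- The folding map. -/
def fold : D j ⟶ T := Over.homMk (pushout.desc (𝟙 T.left) (𝟙 T.left) rfl) (by
  change pushout.desc (𝟙 T.left) (𝟙 T.left) rfl ≫ T.hom = pushout.desc T.hom T.hom rfl
  apply pushout.hom_ext <;> simp)

lemma lg_fold (a : Bool) : lg j a ≫ fold j = 𝟙 T := by
  cases a <;> exact Over.OverMorphism.ext (by simp [lg, fold])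

lemma j_lg (a b : Bool) : j ≫ lg j a = j ≫ lg j b := by
  cases a <;> cases b <;>
    first
      | rfl
      | exact Over.OverMorphism.ext pushout.condition
      | exact Over.OverMorphism.ext pushout.condition.symm

instance lg_openImmersion (a : Bool) : IsOpenImmersion (lg j a).left := by
  cases a
  · exact inferInstanceAs (IsOpenImmersion (colimit.ι (span j.left j.left) WalkingSpan.left))
  · exact inferInstanceAs (IsOpenImmersion (colimit.ι (span j.left j.left) WalkingSpan.right))

lemma lg_surj (y : (D j).left) : ∃ a x, (lg j a).left x = y := by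
  obtain ⟨i, x, rfl⟩ := Scheme.IsLocallyDirected.ι_jointly_surjective (span j.left j.left) y
  rcases i with _ | (_ | _)
  · refine ⟨false, j.left x, ?_⟩
    change (j.left ≫ colimit.ι (span j.left j.left) WalkingSpan.left) x = _
    have h := colimit.w (span j.left j.left) WalkingSpan.Hom.fst
    exact Eq.mp (by rfl) (congrArg (fun g : (span j.left j.left).obj none ⟶
      colimit (span j.left j.left) => g x) h)
  · exact ⟨false, x, rfl⟩
  · exact ⟨true, x, rfl⟩

lemma lg_eq {a b : Bool} (h : a ≠ b) {x y : T.left} (e : (lg j a).left x = (lg j b).left y) :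
    x ∈ Set.range j.left := by
  have key : ∀ {x y : T.left}, (lg j false).left x = (lg j true).left y →
      x = y ∧ x ∈ Set.range j.left := by
    intro x y e
    obtain ⟨i, fi, fj, z, h1, h2⟩ := (Scheme.IsLocallyDirected.ι_eq_ι_iff
      (span j.left j.left) (i := WalkingSpan.left) (j := WalkingSpan.right)).1 e
    rcases i with _ | (_ | _)
    · rcases fi with _ | _; rcases fj with _ | _
      change j.left z = x at h1
      change j.left z = y at h2
      exact ⟨h1.symm.trans h2, z, h1⟩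
    · rcases fj
    · rcases fi
  cases a <;> cases b
  · exact absurd rfl h
  · exact (key e).2
  · exact (key e.symm).1 ▸ (key e.symm).2
  · exact absurd rfl h

/-- The copies as objects over the doubled scheme. -/
def dd (a : Bool) : Over (D j) := Over.mk (lg j a)

/-- The common part. -/
def ww : Over (D j) := Over.mk (j ≫ lg j false)

/-- The copies cover. -/
def ff (a : Bool) : dd j a ⟶ Over.mk (𝟙 (D j)) := Over.homMk (lg j a) (Category.comp_id _)

/-- The common part lies in both copies. -/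
def nn (a : Bool) : ww j ⟶ dd j a := Over.homMk j (j_lg j a false)

lemma isCov_ff : IsCov (ff j) where
  flat a := (inferInstance : Flat (lg j a).left)
  lfp a := (inferInstance : LocallyOfFinitePresentation (lg j a).left)
  surj z := by
    obtain ⟨a, x, hx⟩ := lg_surj j z
    exact ⟨a, x, hx⟩

instance mono_lg (a : Bool) : Mono (lg j a) := SplitMono.mono ⟨fold j, lg_fold j a⟩

lemma nn_ff (a b : Bool) : nn j a ≫ ff j a = nn j b ≫ ff j b :=
  Over.OverMorphism.ext (j_lg j a b)

lemma cp_cancel (a : Bool) {e : Over (D j)} {n n' : e ⟶ dd j a}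
    (w : n ≫ ff j a = n' ≫ ff j a) : n = n' := by
  refine Over.OverMorphism.ext ((cancel_mono (lg j a)).1 ?_)
  exact congrArg CommaMorphism.left w

lemma overlap {a b : Bool} (h : a ≠ b) {e : Over (D j)} (n : e ⟶ dd j a) (n' : e ⟶ dd j b)
    (w : n ≫ ff j a = n' ≫ ff j b) : ∃ l : e ⟶ ww j, l ≫ nn j a = n ∧ l ≫ nn j b = n' := by
  have w' : n.left ≫ lg j a = n'.left ≫ lg j b := congrArg CommaMorphism.left w
  have hr : Set.range n.left.left ⊆ Set.range j.left := by
    rintro _ ⟨t, rfl⟩
    exact lg_eq j h (congrArg (fun g : e.left ⟶ D j => g.left t) w')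
  have hm : IsOpenImmersion.lift j.left n.left.left hr ≫ W.hom = e.left.hom := by
    rw [← Over.w j, IsOpenImmersion.lift_fac_assoc]
    exact Over.w n.left
  let l₀ : e.left ⟶ W := Over.homMk (IsOpenImmersion.lift j.left n.left.left hr) hm
  have hl : l₀ ≫ j = n.left := Over.OverMorphism.ext (IsOpenImmersion.lift_fac _ _ _)
  have hl' : l₀ ≫ j = n'.left := by
    rw [← cancel_mono (lg j b), Category.assoc, ← j_lg j a b, ← Category.assoc, hl]
    exact w'
  have hw : l₀ ≫ j ≫ lg j false = e.hom := by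
    rw [j_lg j false a, ← Category.assoc, hl]
    exact Over.w n
  exact ⟨Over.homMk l₀ hw, Over.OverMorphism.ext hl, Over.OverMorphism.ext hl'⟩

lemma ww_cancel {e : Over (D j)} {l l' : e ⟶ ww j} (w : l ≫ nn j false = l' ≫ nn j false) :
    l = l' := by
  refine Over.OverMorphism.ext (Over.OverMorphism.ext ?_)
  rw [← cancel_mono j.left]
  exact congrArg (fun q : e ⟶ dd j false => q.left.left) w

end Dbl

open Dbl

variable {𝒳 𝒴 : AlgSt.Cat S} [hX : SepStack 𝒳]

/-- Automorphisms over `w` extend to the top. -/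
def Ext (P : FibCat.overCat T ⥤ᵇ 𝒳) (w : Over T) : Prop :=
  ∀ δ : Vert P P w, ∃ v : Vert P P (Over.mk (𝟙 T)), rs (toTop w) v = δ

lemma hom_top_ext {c : Over T} (m m' : c ⟶ Over.mk (𝟙 T)) : m = m' :=
  Over.OverMorphism.ext (by
    have h1 := Over.w m
    have h2 := Over.w m'
    simp at h1 h2
    rw [h1, h2])

lemma ext_of_iso {P : FibCat.overCat T ⥤ᵇ 𝒳} {w w' : Over T} (i : w' ≅ w) (h : Ext P w) :
    Ext P w' := fun δ => by
  obtain ⟨v, hv⟩ := h (rs i.inv δ)
  refine ⟨v, ?_⟩
  rw [hom_top_ext (toTop w') (i.hom ≫ toTop w), rs_comp, hv, ← rs_comp, i.hom_inv_id, rs_id]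

/-- The slice over the doubled scheme. -/
abbrev PD (P : FibCat.overCat T ⥤ᵇ 𝒳) : FibCat.overCat (D j) ⥤ᵇ 𝒳 :=
  BasedFunctor.comp (AlgSt.overMap (fold j)) P

/-- Objects over the doubled scheme which are constant on the copies are constant. -/
def Const (P : FibCat.overCat T ⥤ᵇ 𝒳) : Prop :=
  ∀ Q : FibCat.overCat (D j) ⥤ᵇ 𝒳,
    (∀ a, IsoNat.cls (⟨Q.obj (dd j a), Q.w_obj _⟩ : 𝒳.p.Fiber T) =
      IsoNat.cls ⟨(PD j P).obj (dd j a), (PD j P).w_obj _⟩) →
    IsoNat.cls (⟨Q.obj (Over.mk (𝟙 (D j))), Q.w_obj _⟩ : 𝒳.p.Fiber (D j)) =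
      IsoNat.cls ⟨(PD j P).obj (Over.mk (𝟙 (D j))), (PD j P).w_obj _⟩

variable {P : FibCat.overCat T ⥤ᵇ 𝒳}

/-- The image in the category over `T`. -/
abbrev down (e : Over (D j)) : Over T := Over.mk (e.hom ≫ fold j)

omit hX in
lemma vert_of_iso {V : Over S} {A B : FibCat.overCat V ⥤ᵇ 𝒳} {c : Over V}
    (e : A.obj c ≅ B.obj c) (he : 𝒳.p.IsHomLift (𝟙 c.left) e.hom) : Nonempty (Vert A B c) :=
  ⟨⟨e.hom, he⟩⟩

theorem const_of_ext (h : Ext P (down j (ww j))) : Const j P := by
  intro Q hQ
  have hg := hX.isStack.1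
  have he : ∀ a, Nonempty (Vert (PD j P) Q (dd j a)) := fun a => by
    obtain ⟨e, he⟩ := fib_iso_of_cls_eq (hQ a)
    exact vert_of_iso e.symm (@IsHomLift.lift_id_inv _ _ _ _ 𝒳.p _ _ _ e he)
  obtain ⟨e₀⟩ := he false
  obtain ⟨e₁⟩ := he true
  let r₀ := res hg (nn j false) e₀
  let r₁ := res hg (nn j true) e₁
  have := r₀.2
  have := isIso_of_fibGrpd hg (𝟙 (ww j).left) r₀.1
  let δ : Vert P P (down j (ww j)) := ⟨r₁.1 ≫ (asIso r₀.1).inv,
    homLift_id_comp r₁.2 (@IsHomLift.lift_id_inv _ _ _ _ 𝒳.p _ _ _ (asIso r₀.1) r₀.2)⟩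
  obtain ⟨v, hv⟩ := h δ
  let v' : Vert (PD j P) (PD j P) (dd j false) := rs (P := P) (toTop (down j (dd j false))) v
  have hv' : res hg (nn j false) v' = (δ : Vert (PD j P) (PD j P) (ww j)) := by
    refine res_eq hg _ _ ?_
    let m : down j (ww j) ⟶ down j (dd j false) := (AlgSt.overMap (fold j)).map (nn j false)
    have h1 := rs_spec (P := P) m (rs (toTop (down j (dd j false))) v)
    have h2 : rs m (rs (toTop (down j (dd j false))) v) = δ := by
      rw [← rs_comp, hom_top_ext (m ≫ toTop (down j (dd j false))) (toTop (down j (ww j))), hv]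
    rw [h2] at h1
    exact h1
  let φ : ∀ a, Vert (PD j P) Q (dd j a) := fun a => match a with
    | false => v'.comp e₀
    | true => e₁
  have hφ : res hg (nn j false) (φ false) = res hg (nn j true) (φ true) := by
    change res hg (nn j false) (v'.comp e₀) = r₁
    rw [res_vertComp, hv']
    refine Subtype.ext ?_
    change (r₁.1 ≫ (asIso r₀.1).inv) ≫ r₀.1 = r₁.1
    rw [Category.assoc, show (asIso r₀.1).inv ≫ r₀.1 = 𝟙 _ from (asIso r₀.1).inv_hom_id,
      Category.comp_id]
  obtain ⟨ψ, -⟩ := exists_glue hX.isStack (isCov_ff j) φ fun a b e n n' w => by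
    by_cases hab : a = b
    · subst hab
      rw [cp_cancel j a w]
    · obtain ⟨l, rfl, rfl⟩ := overlap j hab n n' w
      rw [res_comp, res_comp]
      congr 1
      cases a <;> cases b
      · exact absurd rfl hab
      · exact hφ
      · exact hφ.symm
      · exact absurd rfl hab
  have : 𝒳.p.IsHomLift (𝟙 (D j)) ψ.1 := ψ.2
  have := isIso_of_fibGrpd hg (𝟙 (D j)) ψ.1
  exact (cls_eq_of_iso (a := ⟨(PD j P).obj (Over.mk (𝟙 (D j))), (PD j P).w_obj _⟩)
    (b := ⟨Q.obj (Over.mk (𝟙 (D j))), Q.w_obj _⟩) (asIso ψ.1) ψ.2).symm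

open scoped Classical in
/-- The value of the cocycle. -/
def dtau (δ : Vert (PD j P) (PD j P) (ww j)) {a b : Bool} {e : Over (D j)} (n : e ⟶ dd j a)
    (n' : e ⟶ dd j b) (w : n ≫ ff j a = n' ≫ ff j b) : Vert (PD j P) (PD j P) e :=
  if h : a = b then 1 else
    if a = false then rs (overlap j h n n' w).choose δ
    else (rs (overlap j h n n' w).choose δ)⁻¹

lemma dtau_eq (δ : Vert (PD j P) (PD j P) (ww j)) {a b : Bool} {e : Over (D j)} (n : e ⟶ dd j a)
    (n' : e ⟶ dd j b) (w : n ≫ ff j a = n' ≫ ff j b) (h : a ≠ b) (l : e ⟶ ww j)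
    (hl : l ≫ nn j a = n) :
    dtau j δ n n' w = if a = false then rs l δ else (rs l δ)⁻¹ := by
  have : (overlap j h n n' w).choose = l := by
    refine ww_cancel j ?_
    have h1 : nn j a ≫ ff j a = nn j false ≫ ff j false := nn_ff j a false
    refine cp_cancel j false ?_
    rw [Category.assoc, Category.assoc, ← h1, ← Category.assoc, ← Category.assoc,
      (overlap j h n n' w).choose_spec.1, hl]
  rw [dtau, dif_neg h, this]

/-- The cocycle. -/
def dcocycle (δ : Vert (PD j P) (PD j P) (ww j)) : Cocycle (ff j) (grpd 𝒳) (PD j P) where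
  τ n n' w := dtau j δ n n' w
  nat {a b e' e} m n n' w := by
    change rs m (dtau j δ n n' w) = _
    by_cases h : a = b
    · simp [dtau, h]
    · obtain ⟨l, hl, -⟩ := overlap j h n n' w
      rw [dtau_eq j δ n n' w h l hl, dtau_eq j δ _ _ _ h (m ≫ l) (by rw [Category.assoc, hl])]
      cases a <;> simp [rs_comp]
  self n := by simp [dtau]
  trans {a b c e} n n' n'' w w' := by
    change ((dtau j δ n n' w) * (dtau j δ n' n'' w')).1 = _
    congr 1
    by_cases h : a = b
    · subst h
      obtain rfl : n = n' := cp_cancel j a w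
      simp [dtau]
    · by_cases h' : b = c
      · subst h'
        obtain rfl : n' = n'' := cp_cancel j b w'
        simp [dtau]
      · have hc : a = c := by cases a <;> cases b <;> cases c <;> simp_all
        subst hc
        obtain ⟨l, hl, hl'⟩ := overlap j h n n' w
        rw [dtau_eq j δ n n' w h l hl, dtau_eq j δ n' n'' w' h' l hl']
        cases a <;> cases b <;> simp_all [dtau]

theorem ext_of_const (h : Const j P) : Ext P (down j (ww j)) := by
  intro δ₀
  have hg := hX.isStack.1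
  let δ : Vert (PD j P) (PD j P) (ww j) := δ₀
  obtain ⟨ξ, hξ, e, he, hte⟩ := exists_twist hX.isStack (isCov_ff j) (dcocycle j δ)
  obtain ⟨Q, i, hi⟩ := exists_slice (⟨ξ, hξ⟩ : 𝒳.p.Fiber (D j))
  have hQ : ∀ a, IsoNat.cls (⟨Q.obj (dd j a), Q.w_obj _⟩ : 𝒳.p.Fiber T) =
      IsoNat.cls ⟨(PD j P).obj (dd j a), (PD j P).w_obj _⟩ := fun a => by
    have : 𝒳.p.IsHomLift (lg j a) (e a) := he a
    have hQi : 𝒳.p.IsHomLift (lg j a) (Q.map (ff j a) ≫ i.hom) :=
      lift_then_vert (map_lift' Q (ff j a)) hi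
    obtain ⟨ε, hε, -⟩ := exists_vertIso hg (lg j a) (Q.map (ff j a) ≫ i.hom) (e a)
    exact cls_eq_of_iso ε hε
  obtain ⟨ε, hε⟩ := fib_iso_of_cls_eq (h Q hQ)
  let ψ : ξ ⟶ (PD j P).obj (Over.mk (𝟙 (D j))) := i.inv ≫ ε.hom
  have hψ : 𝒳.p.IsHomLift (𝟙 (D j)) ψ :=
    homLift_id_comp (@IsHomLift.lift_id_inv _ _ _ _ 𝒳.p _ _ _ i hi) hε
  have key : ∀ a, ∃ v : Vert (PD j P) (PD j P) (dd j a), e a ≫ ψ = v.1 ≫ (PD j P).map (ff j a) := by
    intro a
    have : 𝒳.p.IsHomLift (lg j a) (e a ≫ ψ) := lift_then_vert (he a) hψ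
    have : 𝒳.p.IsHomLift (lg j a) ((PD j P).map (ff j a)) := map_lift' (PD j P) (ff j a)
    obtain ⟨k, hk, hk'⟩ := exists_vertIso hg (lg j a) (e a ≫ ψ) ((PD j P).map (ff j a))
    exact ⟨⟨k.hom, hk⟩, hk'.symm⟩
  obtain ⟨v₀, h₀⟩ := key false
  obtain ⟨v₁, h₁⟩ := key true
  have e₀ := hte false true (ww j) (nn j false) (nn j true) (nn_ff j false true)
  have hd : ((dcocycle j δ).τ (nn j false) (nn j true) (nn_ff j false true)).1 = δ.1 := by
    change (dtau j δ _ _ _).1 = _
    rw [dtau_eq j δ _ _ _ (by decide) (𝟙 _) (Category.id_comp _), if_pos rfl, rs_id]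
  rw [hd] at e₀
  have hrel : δ * rs (nn j true) v₁ = rs (nn j false) v₀ := by
    refine vert_cancel (nn j true) ((PD j P).map (ff j true))
      (g := lg j true ≫ eqToHom ((PD j P).w_obj (Over.mk (𝟙 (D j)))).symm) ?_ ?_
    · have := map_lift' (PD j P) (ff j true)
      change 𝒳.p.IsHomLift (lg j true) ((PD j P).map (ff j true)) at this
      infer_instance
    have s₁ : (rs (nn j true) v₁).1 ≫ (PD j P).map (nn j true) = (PD j P).map (nn j true) ≫ v₁.1 :=
      rs_spec _ _
    have s₀ : (rs (nn j false) v₀).1 ≫ (PD j P).map (nn j false) =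
        (PD j P).map (nn j false) ≫ v₀.1 := rs_spec _ _
    calc (δ * rs (nn j true) v₁).1 ≫ (PD j P).map (nn j true) ≫ (PD j P).map (ff j true)
        = δ.1 ≫ (PD j P).map (nn j true) ≫ e true ≫ ψ := by
          rw [vert_mul, Category.assoc, reassoc_of% s₁, ← h₁]
      _ = (PD j P).map (nn j false) ≫ e false ≫ ψ := by
          rw [reassoc_of% e₀]
      _ = (rs (nn j false) v₀).1 ≫ (PD j P).map (nn j false ≫ ff j false) := by
          rw [(PD j P).toFunctor.map_comp, reassoc_of% s₀, h₀]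
      _ = _ := by
          rw [nn_ff j false true]
          exact congrArg ((rs (nn j false) v₀).1 ≫ ·) ((PD j P).toFunctor.map_comp _ _)
  obtain rfl : δ₀ = rs ((AlgSt.overMap (fold j)).map (nn j false)) (v₀ : Vert P P (down j (dd j false))) *
      (rs ((AlgSt.overMap (fold j)).map (nn j true)) (v₁ : Vert P P (down j (dd j true))))⁻¹ :=
    eq_mul_inv_of_mul_eq hrel
  have hiso : ∀ a, ∃ k : Over.mk (𝟙 T) ⟶ down j (dd j a), True := fun a =>
    ⟨Over.homMk (𝟙 T) (by
      change 𝟙 T ≫ lg j a ≫ fold j = 𝟙 T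
      rw [lg_fold, Category.id_comp]), trivial⟩
  obtain ⟨k₀, -⟩ := hiso false
  obtain ⟨k₁, -⟩ := hiso true
  refine ⟨rs k₀ (v₀ : Vert P P (down j (dd j false))) * (rs k₁ (v₁ : Vert P P (down j (dd j true))))⁻¹, ?_⟩
  have hk : ∀ a (k : Over.mk (𝟙 T) ⟶ down j (dd j a)),
      toTop (down j (ww j)) ≫ k = (AlgSt.overMap (fold j)).map (nn j a) := by
    intro a k
    refine Over.OverMorphism.ext ?_
    have h1 : k.left ≫ lg j a ≫ fold j = 𝟙 T := Over.w k
    rw [lg_fold, Category.comp_id] at h1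
    rw [Over.comp_left, h1]
    refine (Category.comp_id _).trans ?_
    change (j ≫ lg j false) ≫ fold j = j
    rw [Category.assoc, lg_fold, Category.comp_id]
  rw [map_mul, _root_.map_inv, ← rs_comp, ← rs_comp, hk, hk]
  rfl

variable [hY : SepStack 𝒴] {φ : IsoNat.FIso 𝒳 𝒴} {P' : FibCat.overCat T ⥤ᵇ 𝒴}

theorem const_transfer (h : Corresp φ P P') (hc : Const j P) : Const j P' := by
  intro Q' hQ'
  obtain ⟨Q, hQ⟩ := exists_corresp φ Q'
  rw [← hQ (Over.mk (𝟙 (D j)))]
  refine Eq.trans ?_ (h (down j (Over.mk (𝟙 (D j)))))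
  refine congrArg _ (hc Q fun a => (φ.toEquiv T).injective ?_)
  exact ((hQ (dd j a)).trans (hQ' a)).trans (h (down j (dd j a))).symm

/-- The extension property passes along an isomorphism of the presheaves. -/
theorem ext_transfer (h : Corresp φ P P') (he : Ext P (down j (ww j))) :
    Ext P' (down j (ww j)) :=
  ext_of_const j (const_transfer j h (const_of_ext j he))

end Groth.Agent.H14IsoNat
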