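import Groth.Agent.H14IsoNat.Twist

/-!
# Objects glued from the values of several slice functors along a cocycle
-/

set_option autoImplicit false
set_option backward.isDefEq.respectTransparency false
set_option backward.isDefEq.respectTransparency.types false

universe u

open CategoryTheory CategoryTheory.Functor AlgebraicGeometry

noncomputable section

namespace Groth.Agent.H14IsoNat

open H14Fib H14Stk

variable {S : Scheme.{u}} {𝒳 : AlgSt.Cat S} {T : Over S} 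
  {ι : Type*} {P : ι → (FibCat.overCat T ⥤ᵇ 𝒳)} {c : Over T} {d : ι → Over T} (f : ∀ i, d i ⟶ c)

/-- A cocycle of vertical automorphisms on the overlaps of a family. -/
structure Cocycle₂ (h : FibCat.IsFibGrpd 𝒳.p) (P : ι → (FibCat.overCat T ⥤ᵇ 𝒳)) where
  /-- the transition automorphisms -/
  τ : ∀ {i j : ι} {e : Over T} (n : e ⟶ d i) (n' : e ⟶ d j), n ≫ f i = n' ≫ f j → Vert (P i) (P j) e
  nat : ∀ {i j : ι} {e' e : Over T} (k : e' ⟶ e) (n : e ⟶ d i) (n' : e ⟶ d j)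
    (w : n ≫ f i = n' ≫ f j),
    res h k (τ n n' w) = τ (k ≫ n) (k ≫ n') (by rw [Category.assoc, w, Category.assoc])
  self : ∀ {i : ι} {e : Over T} (n : e ⟶ d i), (τ n n rfl).1 = 𝟙 _
  trans : ∀ {i j l : ι} {e : Over T} (n : e ⟶ d i) (n' : e ⟶ d j) (n'' : e ⟶ d l)
    (w : n ≫ f i = n' ≫ f j) (w' : n' ≫ f j = n'' ≫ f l),
    (τ n n' w).1 ≫ (τ n' n'' w').1 = (τ n n'' (w.trans w')).1

variable {f}

lemma Cocycle₂.move {h : FibCat.IsFibGrpd 𝒳.p} (z : Cocycle₂ f h P) {i j : ι} {e' e : Over T}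
    (k : e' ⟶ e) (n : e ⟶ d i) (n' : e ⟶ d j) (w : n ≫ f i = n' ≫ f j) :
    (P i).map k ≫ (z.τ n n' w).1 =
      (z.τ (k ≫ n) (k ≫ n') (by rw [Category.assoc, w, Category.assoc])).1 ≫ (P j).map k := by
  rw [← z.nat k n n' w, res_spec]

lemma Cocycle₂.congr {h : FibCat.IsFibGrpd 𝒳.p} (z : Cocycle₂ f h P) {i j : ι} {e : Over T}
    {n n₁ : e ⟶ d i} {n' n₁' : e ⟶ d j} (e₁ : n = n₁) (e₂ : n' = n₁') (w : n ≫ f i = n' ≫ f j) :
    (z.τ n n' w).1 = (z.τ n₁ n₁' (e₁ ▸ e₂ ▸ w)).1 := by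
  subst e₁ e₂
  rfl

/-- The descent datum₂ of a cocycle. -/
def datum₂ {h : FibCat.IsFibGrpd 𝒳.p} (z : Cocycle₂ f h P) :
    Stk.sieveCat (covSieve f) ⥤ᵇ 𝒳 where
  toFunctor :=
    { obj := fun a => (P (memIdx a)).obj (memObj a)
      map := fun {a b} m => (z.τ (memTo a) (memMap m ≫ memTo b) (memMap_memTo m)).1 ≫
        (P (memIdx b)).map (memMap m)
      map_id := fun a => by
        have e : memMap (𝟙 a) = 𝟙 _ := Over.OverMorphism.ext rfl
        have h1 : ∀ (n : memObj a ⟶ d (memIdx a)) (w : memTo a ≫ f (memIdx a) = n ≫ f (memIdx a)),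
            n = memTo a → (z.τ (memTo a) n w).1 = 𝟙 _ := by
          rintro n w rfl
          exact z.self _
        rw [h1 _ _ (by rw [e, Category.id_comp]), Category.id_comp, e]
        exact (P (memIdx a)).toFunctor.map_id _
      map_comp := fun {a b b'} m n => by
        have e : memMap (m ≫ n) = memMap m ≫ memMap n := Over.OverMorphism.ext rfl
        rw [Category.assoc, ← Category.assoc ((P (memIdx b)).map (memMap m)), z.move, Category.assoc,
          ← Category.assoc (z.τ _ _ _).1, z.trans,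
          ← show (P (memIdx b')).map (memMap m ≫ memMap n) = (P (memIdx b')).map (memMap m) ≫ (P (memIdx b')).map (memMap n) from
            (P (memIdx b')).toFunctor.map_comp _ _, ← e]
        congr 3
        }
  w := CategoryTheory.Functor.ext (fun a => (P (memIdx a)).w_obj (memObj a)) (fun a b m => by
    have h1 := @IsHomLift.fac' _ _ _ _ 𝒳.p _ _ _ _ m.hom.left _
      (show 𝒳.p.IsHomLift m.hom.left ((z.τ (memTo a) (memMap m ≫ memTo b) (memMap_memTo m)).1 ≫
        (P (memIdx b)).map (memMap m)) by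
        simpa using homLift_comp' (z.τ (memTo a) (memMap m ≫ memTo b) (memMap_memTo m)).2
          (map_lift' (P (memIdx b)) (memMap m)))
    exact h1)

/-- A cocycle glues to an object. -/
theorem exists_twist₂ (hX : Stk.IsStack (QuotSh.J Scheme.fppfPrecoverage S) 𝒳) (hf : IsCov f)
    (z : Cocycle₂ f hX.1 P) :
    ∃ (ξ : 𝒳.obj) (_ : 𝒳.p.obj ξ = c.left) (e : ∀ i, (P i).obj (d i) ⟶ ξ),
      (∀ i, 𝒳.p.IsHomLift (f i).left (e i)) ∧
        ∀ (i j : ι) (b : Over T) (n : b ⟶ d i) (n' : b ⟶ d j) (w : n ≫ f i = n' ≫ f j),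
          (P i).map n ≫ e i = (z.τ n n' w).1 ≫ (P j).map n' ≫ e j := by
  have : (Stk.resSieve (covSieve f) 𝒳).IsEquivalence := hX.2 _ (covSieve_mem hf)
  let G := (Stk.resSieve (covSieve f) 𝒳).objPreimage (datum₂ z)
  let ε : (Stk.resSieve (covSieve f) 𝒳).obj G ≅ datum₂ z :=
    (Stk.resSieve (covSieve f) 𝒳).objObjPreimageIso (datum₂ z)
  let θ : ∀ a : (Stk.sieveCat (covSieve f)).obj, (datum₂ z).obj a ⟶ G.obj (topObj c.left) :=
    fun a => (isoApp ε a).inv ≫ G.map (toTop a.obj)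
  have hθ : ∀ a, 𝒳.p.IsHomLift a.obj.hom (θ a) := fun a => by
    have h1 : 𝒳.p.IsHomLift (𝟙 a.obj.left) (isoApp ε a).inv := BasedNatTrans.isHomLift ε.inv rfl
    change 𝒳.p.IsHomLift _ (app ε.inv a ≫ G.map (toTop a.obj))
    simpa using homLift_comp' h1 (over_map_toTop_lift G a.obj)
  have hnat : ∀ {a b : (Stk.sieveCat (covSieve f)).obj} (m : a ⟶ b),
      (datum₂ z).map m ≫ θ b = θ a := by
    intro a b m
    change (datum₂ z).map m ≫ app ε.inv b ≫ _ = app ε.inv a ≫ _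
    rw [← Category.assoc, show (datum₂ z).map m ≫ app ε.inv b =
      app ε.inv a ≫ ((Stk.resSieve (covSieve f) 𝒳).obj G).map m from
      ε.inv.toNatTrans.naturality m, Category.assoc]
    congr 1
    exact (topCocone (R := covSieve f) G).nat m
  let mem : ∀ i, (Stk.sieveCat (covSieve f)).obj := fun i =>
    ⟨Over.mk (f i).left, i, 𝟙 _, Category.id_comp _⟩
  let w₀ : ∀ i, d i ⟶ memObj (mem i) := fun i => Over.homMk (𝟙 _) (by
    change 𝟙 _ ≫ (f i).left ≫ c.hom = (d i).hom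
    rw [Category.id_comp, Over.w])
  have hw₀ : ∀ i, 𝟙 (d i) ≫ f i = (w₀ i ≫ memTo (mem i)) ≫ f (memIdx (mem i)) := fun i => by
    refine Over.OverMorphism.ext ?_
    rw [Category.assoc, Category.id_comp]
    change (f i).left = 𝟙 _ ≫ (memTo (mem i) ≫ f (memIdx (mem i))).left
    rw [memTo_comp, Category.id_comp]
    rfl
  let ε' : ∀ i, (P i).obj (d i) ⟶ G.obj (topObj c.left) := fun i =>
    (z.τ (𝟙 (d i)) (w₀ i ≫ memTo (mem i)) (hw₀ i)).1 ≫ (P (memIdx (mem i))).map (w₀ i) ≫ θ (mem i)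
  refine ⟨G.obj (topObj c.left), G.w_obj _, ε', fun i => ?_, fun i j b n n' w => ?_⟩
  · have h1 : 𝒳.p.IsHomLift (𝟙 (d i).left) ((P (memIdx (mem i))).map (w₀ i)) := map_lift' (P (memIdx (mem i))) (w₀ i)
    change 𝒳.p.IsHomLift (mem i).obj.hom ((z.τ (𝟙 (d i)) (w₀ i ≫ memTo (mem i)) (hw₀ i)).1 ≫
      (P (memIdx (mem i))).map (w₀ i) ≫ θ (mem i))
    simpa using homLift_comp' (z.τ (𝟙 (d i)) (w₀ i ≫ memTo (mem i)) (hw₀ i)).2
      (homLift_comp' h1 (hθ (mem i)))
  let a : (Stk.sieveCat (covSieve f)).obj :=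
    ⟨Over.mk (n ≫ f i).left, i, n.left, rfl⟩
  let v : b ⟶ memObj a := Over.homMk (𝟙 _) (by
    change 𝟙 _ ≫ (n ≫ f i).left ≫ c.hom = b.hom
    rw [Category.id_comp, Over.w])
  have key : ∀ (k : ι) (n₀ : b ⟶ d k) (w₁ : n₀ ≫ f k = n ≫ f i)
      (w₂ : n₀ ≫ f k = (v ≫ memTo a) ≫ f (memIdx a)),
      (P k).map n₀ ≫ ε' k = (z.τ n₀ (v ≫ memTo a) w₂).1 ≫ (P (memIdx a)).map v ≫ θ a := by
    intro k n₀ w₁ w₂
    let m : a ⟶ mem k := ObjectProperty.homMk (Over.homMk n₀.left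
      (congrArg CommaMorphism.left w₁))
    have hv : n₀ ≫ w₀ k = v ≫ memMap m := Over.OverMorphism.ext (by simp [w₀, v, memMap, m])
    rw [← hnat m]
    change _ = _ ≫ (P (memIdx a)).map v ≫ ((z.τ (memTo a) (memMap m ≫ memTo (mem k)) _).1 ≫
      (P (memIdx (mem k))).map (memMap m)) ≫ θ (mem k)
    rw [Category.assoc, ← Category.assoc ((P (memIdx a)).map v), z.move, ← Category.assoc,
      ← Category.assoc, z.move]
    simp only [Category.assoc]
    rw [← Category.assoc (z.τ n₀ (v ≫ memTo a) w₂).1, z.trans]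
    rw [← Category.assoc ((P (memIdx (mem k))).map n₀),
      ← show (P (memIdx (mem k))).map (n₀ ≫ w₀ k) = (P (memIdx (mem k))).map n₀ ≫ (P (memIdx (mem k))).map (w₀ k) from (P (memIdx (mem k))).toFunctor.map_comp _ _, hv,
      show (P (memIdx (mem k))).map (v ≫ memMap m) = (P (memIdx (mem k))).map v ≫ (P (memIdx (mem k))).map (memMap m) from (P (memIdx (mem k))).toFunctor.map_comp _ _,
      z.congr (Category.comp_id n₀) (show n₀ ≫ w₀ k ≫ memTo (mem k) = v ≫ memMap m ≫ memTo (mem k)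
        by rw [← Category.assoc, ← Category.assoc, hv])]
    exact congrArg (_ ≫ ·) (Category.assoc _ _ _)
  have hwa : n ≫ f i = (v ≫ memTo a) ≫ f (memIdx a) := by
    refine Over.OverMorphism.ext ?_
    rw [Category.assoc]
    change (n ≫ f i).left = 𝟙 _ ≫ (memTo a ≫ f (memIdx a)).left
    rw [memTo_comp, Category.id_comp]
    rfl
  rw [key i n rfl hwa, key j n' w.symm (w.symm.trans hwa), ← Category.assoc (z.τ n n' w).1,
    z.trans]

end Groth.Agent.H14IsoNat
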