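import Groth.Agent.H14IsoNat.Dbl
import Groth.Agent.H14IsoNat.Twist2

/-!
# Extension of relative isomorphisms and doubled schemes
-/

set_option autoImplicit false
set_option backward.isDefEq.respectTransparency false
set_option backward.isDefEq.respectTransparency.types false

universe u

open CategoryTheory CategoryTheory.Functor CategoryTheory.Limits AlgebraicGeometry

noncomputable section

namespace Groth.Agent.H14IsoNat

open H14Fib H14Stk Dbl

variable {S : Scheme.{u}} {T W : Over S} (j : W ⟶ T)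
  {𝒳 𝒴 : AlgSt.Cat S} (f : 𝒳 ⥤ᵇ 𝒴)

/-- Isomorphisms over `W` whose image extends to `T` extend to `T`. -/
def ExtD : Prop :=
  ∀ (a₁ a₂ b₁ b₂ : 𝒳.obj) (m₁ : b₁ ⟶ a₁) (m₂ : b₂ ⟶ a₂) (δ : b₁ ⟶ b₂) (β : f.obj a₁ ⟶ f.obj a₂),
    𝒳.p.IsHomLift j m₁ → 𝒳.p.IsHomLift j m₂ → 𝒳.p.IsHomLift (𝟙 W) δ → 𝒴.p.IsHomLift (𝟙 T) β →
    f.map δ ≫ f.map m₂ = f.map m₁ ≫ β →
    ∃ v : a₁ ⟶ a₂, 𝒳.p.IsHomLift (𝟙 T) v ∧ δ ≫ m₂ = m₁ ≫ v

variable [IsOpenImmersion j.left]

/-- Classes over the doubled scheme with constant image are constant. -/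
def ConstD : Prop :=
  ∀ (Q : FibCat.overCat (D j) ⥤ᵇ 𝒳) (R : FibCat.overCat T ⥤ᵇ 𝒴),
    IsoNat.cls (⟨f.obj (Q.obj (Over.mk (𝟙 (D j)))), (BasedFunctor.comp Q f).w_obj _⟩ :
      𝒴.p.Fiber (D j)) = IsoNat.cls ⟨R.obj (Over.mk (fold j)), R.w_obj _⟩ →
    ∃ P : FibCat.overCat T ⥤ᵇ 𝒳,
      IsoNat.cls (⟨Q.obj (Over.mk (𝟙 (D j))), Q.w_obj _⟩ : 𝒳.p.Fiber (D j)) =
        IsoNat.cls ⟨P.obj (Over.mk (fold j)), P.w_obj _⟩

variable [hX : SepStack 𝒳] [hY : SepStack 𝒴]

omit hX hY in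
lemma map_lift_of_eq {U V V' : Over S} {ℬ : AlgSt.Cat S} (P : FibCat.overCat U ⥤ᵇ ℬ) {c c' : Over U}
    (m : c' ⟶ c) {g : V' ⟶ V} (hc' : c'.left = V') (hc : c.left = V)
    (h : m.left = eqToHom hc' ≫ g ≫ eqToHom hc.symm) : ℬ.p.IsHomLift g (P.map m) := by
  subst hc' hc
  obtain rfl : g = m.left := by simpa using h.symm
  exact map_lift' P m

theorem constD_of_extD (h : ExtD j f) : ConstD j f := by
  intro Q R hQR
  have hg := hX.isStack.1
  obtain ⟨ψ, hψ⟩ := fib_iso_of_cls_eq hQR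
  let G : ∀ i, f.obj (Q.obj (dd j i)) ⟶ R.obj (Over.mk (𝟙 T)) := fun i =>
    f.map (Q.map (ff j i)) ≫ ψ.hom ≫ R.map (toTop (Over.mk (fold j)))
  have hG : ∀ i, 𝒴.p.IsHomLift (𝟙 T) (G i) := fun i => by
    have h1 : 𝒴.p.IsHomLift (lg j i) (f.map (Q.map (ff j i))) :=
      map_lift' (BasedFunctor.comp Q f) (ff j i)
    have h2 : 𝒴.p.IsHomLift (fold j) (ψ.hom ≫ R.map (toTop (Over.mk (fold j)))) :=
      vert_then_lift hψ (map_lift_of_eq R (toTop (Over.mk (fold j))) rfl rfl (by simp [toTop]))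
    have := homLift_comp' h1 h2
    rwa [lg_fold] at this
  have := hG true
  have := isIso_of_fibGrpd hY.isStack.1 (𝟙 T) (G true)
  let β := G false ≫ (asIso (G true)).inv
  have hβ : 𝒴.p.IsHomLift (𝟙 T) β := homLift_id_comp (hG false)
    (@IsHomLift.lift_id_inv _ _ _ _ 𝒴.p _ _ _ (asIso (G true)) (hG true))
  have hn : ∀ i, 𝒳.p.IsHomLift j (Q.map (nn j i)) := fun i =>
    map_lift_of_eq Q (nn j i) rfl rfl (by simp [nn])
  have hcompat : f.map (𝟙 (Q.obj (ww j))) ≫ f.map (Q.map (nn j true)) =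
      f.map (Q.map (nn j false)) ≫ β := by
    rw [f.toFunctor.map_id, Category.id_comp, ← Category.assoc]
    refine (Iso.eq_comp_inv (asIso (G true))).2 ?_
    change f.map (Q.map (nn j true)) ≫ f.map (Q.map (ff j true)) ≫ _ =
      f.map (Q.map (nn j false)) ≫ f.map (Q.map (ff j false)) ≫ _
    have e : ∀ i, f.map (Q.map (nn j i)) ≫ f.map (Q.map (ff j i)) =
        f.map (Q.map (nn j i ≫ ff j i)) := fun i =>
      (f.toFunctor.map_comp _ _).symm.trans (congrArg f.toFunctor.map (Q.toFunctor.map_comp _ _).symm)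
    rw [reassoc_of% (e true), reassoc_of% (e false), nn_ff j true false]
  obtain ⟨v, hv, hv'⟩ := h _ _ _ _ _ _ (𝟙 (Q.obj (ww j))) β (hn false) (hn true)
    (IsHomLift.id (Q.w_obj _)) hβ hcompat
  rw [Category.id_comp] at hv'
  have := isFibered_of_fibGrpd hg
  obtain ⟨P, iP, -, hiP⟩ := exists_fromOver (𝒳 := 𝒳) (x := Q.obj (dd j false)) (U := T) (Q.w_obj _)
  have hdd : ∀ i, (down j (dd j i)).hom = 𝟙 T := lg_fold j
  have hP : ∀ i, 𝒳.p.IsHomLift (𝟙 T) (P.map (toTop (down j (dd j i)))) := fun i =>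
    map_lift_of_eq P (toTop (down j (dd j i))) rfl rfl (by simp [toTop]; exact hdd i)
  let φ : ∀ i, Vert (PD j P) Q (dd j i) := fun i => match i with
    | false => ⟨P.map (toTop (down j (dd j false))) ≫ iP.hom, homLift_id_comp (hP false) hiP⟩
    | true => ⟨P.map (toTop (down j (dd j true))) ≫ iP.hom ≫ v,
        homLift_id_comp (hP true) (homLift_id_comp hiP hv)⟩
  have hφ : res hg (nn j false) (φ false) = res hg (nn j true) (φ true) := by
    refine (res_eq hg _ _ ?_).symm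
    have e1 := res_spec hg (nn j false) (φ false)
    have e2 : ∀ i, (PD j P).map (nn j i) ≫ P.map (toTop (down j (dd j i))) =
        P.map (toTop (down j (ww j))) := fun i => by
      rw [← hom_top_ext ((AlgSt.overMap (fold j)).map (nn j i) ≫ toTop (down j (dd j i)))
        (toTop (down j (ww j)))]
      exact (P.toFunctor.map_comp _ _).symm
    rw [hv', ← Category.assoc, e1]
    change ((PD j P).map (nn j false) ≫ P.map (toTop (down j (dd j false))) ≫ iP.hom) ≫ v =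
      (PD j P).map (nn j true) ≫ P.map (toTop (down j (dd j true))) ≫ iP.hom ≫ v
    simp only [Category.assoc]
    rw [← Category.assoc ((PD j P).map (nn j false)), e2, ← Category.assoc ((PD j P).map (nn j true)), e2]
  obtain ⟨Φ, -⟩ := exists_glue hX.isStack (isCov_ff j) φ fun a b e n n' w => by
    by_cases hab : a = b
    · subst hab
      rw [cp_cancel j a w]
    · obtain ⟨l, rfl, rfl⟩ := overlap j hab n n' w
      rw [res_comp, res_comp]
      congr 1
      cases a <;> cases b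
      · exact absurd rfl hab
      · exact hφ
      · exact hφ.symm
      · exact absurd rfl hab
  have hΦ : 𝒳.p.IsHomLift (𝟙 (D j)) Φ.1 := Φ.2
  have := isIso_of_fibGrpd hg (𝟙 (D j)) Φ.1
  refine ⟨P, (cls_eq_of_iso (a := ⟨P.obj (Over.mk (fold j)), P.w_obj _⟩)
    (b := ⟨Q.obj (Over.mk (𝟙 (D j))), Q.w_obj _⟩) (P.toFunctor.mapIso (Over.isoMk (Iso.refl _)
      (by simp)) ≪≫ asIso Φ.1) ?_).symm⟩
  refine homLift_id_comp ?_ hΦ
  exact map_lift_of_eq P _ rfl rfl (by simp)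

variable {j}

/-- The inverse of a vertical morphism. -/
def vinv {U : Over S} {A B : FibCat.overCat U ⥤ᵇ 𝒳} {c : Over U} (φ : Vert A B c) : Vert B A c :=
  haveI := φ.2
  haveI := isIso_of_fibGrpd hX.isStack.1 (𝟙 c.left) φ.1
  ⟨(asIso φ.1).inv, @IsHomLift.lift_id_inv _ _ _ _ 𝒳.p c.left _ _ (asIso φ.1) φ.2⟩

omit hY in
lemma vert_vinv {U : Over S} {A B : FibCat.overCat U ⥤ᵇ 𝒳} {c : Over U} (φ : Vert A B c) :
    φ.1 ≫ (vinv φ).1 = 𝟙 _ := by
  have := φ.2
  have := isIso_of_fibGrpd hX.isStack.1 (𝟙 c.left) φ.1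
  exact (asIso φ.1).hom_inv_id

omit hY in
lemma vinv_vert {U : Over S} {A B : FibCat.overCat U ⥤ᵇ 𝒳} {c : Over U} (φ : Vert A B c) :
    (vinv φ).1 ≫ φ.1 = 𝟙 _ := by
  have := φ.2
  have := isIso_of_fibGrpd hX.isStack.1 (𝟙 c.left) φ.1
  exact (asIso φ.1).inv_hom_id

omit hY in
lemma res_vinv {U : Over S} {A B : FibCat.overCat U ⥤ᵇ 𝒳} {c' c : Over U} (m : c' ⟶ c)
    (φ : Vert A B c) : res hX.isStack.1 m (vinv φ) = vinv (res hX.isStack.1 m φ) := by
  refine res_eq _ _ _ ?_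
  calc (vinv (res hX.isStack.1 m φ)).1 ≫ A.map m
      = (vinv (res hX.isStack.1 m φ)).1 ≫ (A.map m ≫ φ.1) ≫ (vinv φ).1 := by
        rw [Category.assoc, vert_vinv, Category.comp_id]
    _ = B.map m ≫ (vinv φ).1 := by
        rw [← res_spec hX.isStack.1 m φ, Category.assoc, ← Category.assoc, vinv_vert, Category.id_comp]

variable (j)

/-- The two slices. -/
abbrev PD2 (P : Bool → (FibCat.overCat T ⥤ᵇ 𝒳)) (a : Bool) : FibCat.overCat (D j) ⥤ᵇ 𝒳 := PD j (P a)

variable (P : Bool → (FibCat.overCat T ⥤ᵇ 𝒳))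

/-- The value of the cocycle of two slices. -/
def tau2 (δ : Vert (PD2 j P false) (PD2 j P true) (ww j)) : ∀ {a b : Bool} {e : Over (D j)}
    (n : e ⟶ dd j a) (n' : e ⟶ dd j b), n ≫ ff j a = n' ≫ ff j b →
      Vert (PD2 j P a) (PD2 j P b) e
  | false, false, e, _, _, _ => ⟨𝟙 _, IsHomLift.id ((PD2 j P false).w_obj e)⟩
  | false, true, _, n, n', w => res hX.isStack.1 (overlap j Bool.false_ne_true n n' w).choose δ
  | true, false, _, n, n', w =>
      vinv (res hX.isStack.1 (overlap j (by decide) n n' w).choose δ)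
  | true, true, e, _, _, _ => ⟨𝟙 _, IsHomLift.id ((PD2 j P true).w_obj e)⟩

omit hY in
lemma overlap_choice {a b : Bool} (h : a ≠ b) {e : Over (D j)} (n : e ⟶ dd j a) (n' : e ⟶ dd j b)
    (w : n ≫ ff j a = n' ≫ ff j b) (l : e ⟶ ww j) (hl : l ≫ nn j a = n) :
    (overlap j h n n' w).choose = l := by
  refine ww_cancel j ?_
  refine cp_cancel j false ?_
  rw [Category.assoc, Category.assoc, ← nn_ff j a false, ← Category.assoc, ← Category.assoc,
    (overlap j h n n' w).choose_spec.1, hl]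

omit hY in
lemma tau2_ft (δ : Vert (PD2 j P false) (PD2 j P true) (ww j)) {e : Over (D j)}
    (n : e ⟶ dd j false) (n' : e ⟶ dd j true) (w : n ≫ ff j false = n' ≫ ff j true) (l : e ⟶ ww j)
    (hl : l ≫ nn j false = n) : tau2 j P δ n n' w = res hX.isStack.1 l δ :=
  congrArg (fun k => res hX.isStack.1 k δ) (overlap_choice j Bool.false_ne_true n n' w l hl)

omit hY in
lemma tau2_tf (δ : Vert (PD2 j P false) (PD2 j P true) (ww j)) {e : Over (D j)}
    (n : e ⟶ dd j true) (n' : e ⟶ dd j false) (w : n ≫ ff j true = n' ≫ ff j false) (l : e ⟶ ww j)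
    (hl : l ≫ nn j true = n) : tau2 j P δ n n' w = vinv (res hX.isStack.1 l δ) :=
  congrArg (fun k => vinv (res hX.isStack.1 k δ)) (overlap_choice j (by decide : true ≠ false) n n' w l hl)

omit hY in
lemma res_one {U : Over S} (A : FibCat.overCat U ⥤ᵇ 𝒳) {e' e : Over U} (k : e' ⟶ e) :
    res hX.isStack.1 k (⟨𝟙 _, IsHomLift.id (A.w_obj e)⟩ : Vert A A e) =
      ⟨𝟙 _, IsHomLift.id (A.w_obj e')⟩ :=
  res_eq _ _ _ (by simp)

/-- The cocycle of two slices. -/
def cocycle2 (δ : Vert (PD2 j P false) (PD2 j P true) (ww j)) :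
    Cocycle₂ (ff j) hX.isStack.1 (PD2 j P) where
  τ n n' w := tau2 j P δ n n' w
  nat {a b e' e} m n n' w := by
    match a, b, n, n', w with
    | false, false, n, n', w => exact res_one _ m
    | true, true, n, n', w => exact res_one _ m
    | false, true, n, n', w =>
      obtain ⟨l, hl, -⟩ := overlap j Bool.false_ne_true n n' w
      rw [tau2_ft j P δ n n' w l hl, tau2_ft j P δ _ _ _ (m ≫ l) (by rw [Category.assoc, hl]),
        res_comp]
    | true, false, n, n', w =>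
      obtain ⟨l, hl, -⟩ := overlap j (by decide : true ≠ false) n n' w
      rw [tau2_tf j P δ n n' w l hl, tau2_tf j P δ _ _ _ (m ≫ l) (by rw [Category.assoc, hl]),
        res_vinv, res_comp]
  self {a e} n := by cases a <;> rfl
  trans {a b c e} n n' n'' w w' := by
    match a, b, c, n, n', n'', w, w' with
    | false, false, false, n, n', n'', w, w' => exact Category.id_comp _
    | true, true, true, n, n', n'', w, w' => exact Category.id_comp _
    | false, false, true, n, n', n'', w, w' =>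
      obtain rfl : n = n' := cp_cancel j _ w
      exact Category.id_comp _
    | true, true, false, n, n', n'', w, w' =>
      obtain rfl : n = n' := cp_cancel j _ w
      exact Category.id_comp _
    | false, true, true, n, n', n'', w, w' =>
      obtain rfl : n' = n'' := cp_cancel j _ w'
      exact Category.comp_id _
    | true, false, false, n, n', n'', w, w' =>
      obtain rfl : n' = n'' := cp_cancel j _ w'
      exact Category.comp_id _
    | false, true, false, n, n', n'', w, w' =>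
      obtain ⟨l, hl, hl'⟩ := overlap j Bool.false_ne_true n n' w
      rw [tau2_ft j P δ n n' w l hl, tau2_tf j P δ n' n'' w' l hl', vert_vinv]
      rfl
    | true, false, true, n, n', n'', w, w' =>
      obtain ⟨l, hl, hl'⟩ := overlap j (by decide : true ≠ false) n n' w
      rw [tau2_tf j P δ n n' w l hl, tau2_ft j P δ n' n'' w' l hl', vinv_vert]
      rfl

theorem extD_of_constD (h : ConstD j f) : ExtD j f := by
  intro a₁ a₂ b₁ b₂ m₁ m₂ δ₀ β hm₁ hm₂ hδ₀ hβ hcompat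
  have hg := hX.isStack.1
  have := isFibered_of_fibGrpd hg
  have := isFibered_of_fibGrpd hY.isStack.1
  let a : Bool → 𝒳.obj := fun i => cond i a₂ a₁
  have ha : ∀ i, 𝒳.p.obj (a i) = T := fun i => by
    cases i
    · exact IsHomLift.codomain_eq 𝒳.p j m₁
    · exact IsHomLift.codomain_eq 𝒳.p j m₂
  choose P ι _ hι using fun i => exists_fromOver (𝒳 := 𝒳) (U := T) (ha i)
  have hw : (down j (ww j)).hom = j := by
    change (j ≫ lg j false) ≫ fold j = j
    rw [Category.assoc, lg_fold, Category.comp_id]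
  have hT : ∀ i, 𝒳.p.IsHomLift j ((P i).map (toTop (down j (ww j)))) := fun i =>
    map_lift_of_eq (P i) (toTop (down j (ww j))) rfl rfl (by simpa [toTop] using hw)
  have hdd : ∀ i, (down j (dd j i)).hom = 𝟙 T := lg_fold j
  have hP : ∀ {ℬ : AlgSt.Cat S} (R : FibCat.overCat T ⥤ᵇ ℬ) i,
      ℬ.p.IsHomLift (𝟙 T) (R.map (toTop (down j (dd j i)))) := fun R i =>
    map_lift_of_eq R (toTop (down j (dd j i))) rfl rfl (by simp [toTop]; exact hdd i)
  obtain ⟨κ₁, hκ₁, hκ₁'⟩ : ∃ κ : (P false).obj (down j (ww j)) ≅ b₁, 𝒳.p.IsHomLift (𝟙 W) κ.hom ∧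
      κ.hom ≫ m₁ = (P false).map (toTop (down j (ww j))) ≫ (ι false).hom := by
    have := lift_then_vert (hT false) (hι false)
    exact exists_vertIso hg j ((P false).map (toTop (down j (ww j))) ≫ (ι false).hom) m₁
  obtain ⟨κ₂, hκ₂, hκ₂'⟩ : ∃ κ : (P true).obj (down j (ww j)) ≅ b₂, 𝒳.p.IsHomLift (𝟙 W) κ.hom ∧
      κ.hom ≫ m₂ = (P true).map (toTop (down j (ww j))) ≫ (ι true).hom := by
    have := lift_then_vert (hT true) (hι true)
    exact exists_vertIso hg j ((P true).map (toTop (down j (ww j))) ≫ (ι true).hom) m₂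
  let δ : Vert (PD2 j P false) (PD2 j P true) (ww j) := ⟨κ₁.hom ≫ δ₀ ≫ κ₂.inv,
    homLift_id_comp hκ₁ (homLift_id_comp hδ₀
      (@IsHomLift.lift_id_inv _ _ _ _ 𝒳.p _ _ _ κ₂ hκ₂))⟩
  obtain ⟨ξ, hξ, e, he, hte⟩ := exists_twist₂ hX.isStack (isCov_ff j) (cocycle2 j P δ)
  obtain ⟨Q, i, hi⟩ := exists_slice (⟨ξ, hξ⟩ : 𝒳.p.Fiber (D j))
  have hε : ∀ a, ∃ ε : Vert Q (PD2 j P a) (dd j a), ε.1 ≫ e a = Q.map (ff j a) ≫ i.hom := fun a => by
    have : 𝒳.p.IsHomLift (lg j a) (e a) := he a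
    have : 𝒳.p.IsHomLift (lg j a) (Q.map (ff j a) ≫ i.hom) := lift_then_vert (map_lift' Q (ff j a)) hi
    obtain ⟨k, hk, hk'⟩ := exists_vertIso hg (lg j a) (Q.map (ff j a) ≫ i.hom) (e a)
    exact ⟨⟨k.hom, hk⟩, hk'⟩
  choose ε hε' using hε
  let ρ := res hg (nn j false) (ε false)
  let ρ₁ := res hg (nn j true) (ε true)
  have hρ : ρ₁ = ρ.comp δ := by
    have hl : 𝒳.p.IsHomLift (j ≫ lg j true) ((PD2 j P true).map (nn j true) ≫ e true) :=
      homLift_comp' (map_lift' (PD2 j P true) (nn j true)) (he true)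
    have := sc_of_fibGrpd hg (j ≫ lg j true) ((PD2 j P true).map (nn j true) ≫ e true)
    have : 𝒳.p.IsHomLift (𝟙 W) ρ₁.1 := ρ₁.2
    have : 𝒳.p.IsHomLift (𝟙 W) (ρ.comp δ).1 := (ρ.comp δ).2
    refine Subtype.ext (IsStronglyCartesian.ext 𝒳.p (j ≫ lg j true)
      ((PD2 j P true).map (nn j true) ≫ e true) (𝟙 W) ?_)
    have e₀ := hte false true (ww j) (nn j false) (nn j true) (nn_ff j false true)
    have hd : ((cocycle2 j P δ).τ (nn j false) (nn j true) (nn_ff j false true)).1 = δ.1 := by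
      change (tau2 j P δ _ _ _).1 = _
      rw [tau2_ft j P δ _ _ _ (𝟙 _) (Category.id_comp _), res_id]
    rw [hd] at e₀
    have s : ∀ b, (res hg (nn j b) (ε b)).1 ≫ (PD2 j P b).map (nn j b) ≫ e b =
        Q.map (nn j b ≫ ff j b) ≫ i.hom := fun b => by
      rw [reassoc_of% res_spec hg (nn j b) (ε b), hε',
        Q.toFunctor.map_comp, Category.assoc]
    change ρ₁.1 ≫ _ = (ρ.1 ≫ δ.1) ≫ _
    rw [Category.assoc ρ.1, ← e₀, s, s, nn_ff j true false]
  let g : ∀ i, Q.obj (dd j i) ⟶ a i := fun i =>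
    (ε i).1 ≫ (P i).map (toTop (down j (dd j i))) ≫ (ι i).hom
  have hgl : ∀ i, 𝒳.p.IsHomLift (𝟙 T) (g i) := fun i =>
    homLift_id_comp (ε i).2 (homLift_id_comp (hP (P i) i) (hι i))
  have e2 : ∀ {ℬ : AlgSt.Cat S} (R : FibCat.overCat T ⥤ᵇ ℬ) i,
      R.map ((AlgSt.overMap (fold j)).map (nn j i)) ≫ R.map (toTop (down j (dd j i))) =
        R.map (toTop (down j (ww j))) := fun R i => by
    rw [← hom_top_ext ((AlgSt.overMap (fold j)).map (nn j i) ≫ toTop (down j (dd j i)))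
      (toTop (down j (ww j)))]
    exact (R.toFunctor.map_comp _ _).symm
  have G₀ : Q.map (nn j false) ≫ g false = ρ.1 ≫ κ₁.hom ≫ m₁ := by
    change Q.map (nn j false) ≫ (ε false).1 ≫ _ = _
    rw [hκ₁', ← Category.assoc, ← res_spec hg (nn j false) (ε false), Category.assoc,
      ← e2 (P false) false]
    simp only [Category.assoc]
    rfl
  have G₁ : Q.map (nn j true) ≫ g true = ρ.1 ≫ κ₁.hom ≫ δ₀ ≫ m₂ := by
    change Q.map (nn j true) ≫ (ε true).1 ≫ _ = _
    rw [← Category.assoc, ← res_spec hg (nn j true) (ε true), Category.assoc]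
    change ρ₁.1 ≫ _ = _
    rw [hρ]
    change (ρ.1 ≫ κ₁.hom ≫ δ₀ ≫ κ₂.inv) ≫ _ = _
    simp only [Category.assoc]
    rw [← Category.assoc ((PD2 j P true).map (nn j true)), show (PD2 j P true).map (nn j true) ≫
      (P true).map (toTop (down j (dd j true))) = _ from e2 (P true) true, ← hκ₂', Iso.inv_hom_id_assoc]
  obtain ⟨R, iR, hiR⟩ := exists_slice (⟨f.obj a₂, (congrArg (fun g => g.obj a₂) f.w).trans (ha true)⟩ :
    𝒴.p.Fiber T)
  let A := BasedFunctor.comp Q f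
  let H : ∀ i, f.obj (Q.obj (dd j i)) ⟶ R.obj (topObj T) := fun i => match i with
    | false => f.map (g false) ≫ β ≫ iR.inv
    | true => f.map (g true) ≫ iR.inv
  have hiR' : 𝒴.p.IsHomLift (𝟙 T) iR.inv := @IsHomLift.lift_id_inv _ _ _ _ 𝒴.p _ _ _ iR hiR
  have hfg : ∀ i, 𝒴.p.IsHomLift (𝟙 T) (f.map (g i)) := fun i =>
    @BasedFunctor.preserves_isHomLift _ _ _ _ f _ _ _ _ (𝟙 T) (g i) (hgl i)
  have hH : ∀ i, 𝒴.p.IsHomLift (𝟙 T) (H i) := fun i => by
    cases i
    · exact homLift_id_comp (hfg false) (homLift_id_comp hβ hiR')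
    · exact homLift_id_comp (hfg true) hiR'
  have hHe : f.map (Q.map (nn j false)) ≫ H false = f.map (Q.map (nn j true)) ≫ H true := by
    change f.map (Q.map (nn j false)) ≫ f.map (g false) ≫ β ≫ iR.inv =
      f.map (Q.map (nn j true)) ≫ f.map (g true) ≫ iR.inv
    simp only [← Category.assoc, ← f.toFunctor.map_comp]
    rw [G₀, G₁]
    simp only [f.toFunctor.map_comp, Category.assoc]
    rw [reassoc_of% hcompat]
  have hφ : ∀ i, ∃ φ : Vert A (PD j R) (dd j i), φ.1 ≫ R.map (toTop (down j (dd j i))) = H i :=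
    fun i => by
      have := hH i
      have := hP R i
      obtain ⟨k, hk, hk'⟩ := exists_vertIso hY.isStack.1 (𝟙 T) (H i)
        (R.map (toTop (down j (dd j i))))
      exact ⟨⟨k.hom, hk⟩, hk'⟩
  choose φ hφ' using hφ
  have hφc : res hY.isStack.1 (nn j false) (φ false) = res hY.isStack.1 (nn j true) (φ true) := by
    refine (res_eq _ _ _ ?_).symm
    have := hP R true
    have := isIso_of_fibGrpd hY.isStack.1 (𝟙 T) (R.map (toTop (down j (dd j true))))
    rw [← cancel_mono (R.map (toTop (down j (dd j true))))]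
    have s := res_spec hY.isStack.1 (nn j false) (φ false)
    calc ((res hY.isStack.1 (nn j false) (φ false)).1 ≫ (PD j R).map (nn j true)) ≫
          R.map (toTop (down j (dd j true)))
        = (res hY.isStack.1 (nn j false) (φ false)).1 ≫ (PD j R).map (nn j false) ≫
            R.map (toTop (down j (dd j false))) := by
          rw [Category.assoc]
          exact congrArg (_ ≫ ·) ((e2 R true).trans (e2 R false).symm)
      _ = A.map (nn j false) ≫ H false := by rw [reassoc_of% s, hφ']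
      _ = _ := by rw [Category.assoc, hφ']; exact hHe
  obtain ⟨Φ, -⟩ := exists_glue hY.isStack (isCov_ff j) φ fun a b e n n' w => by
    by_cases hab : a = b
    · subst hab
      rw [cp_cancel j a w]
    · obtain ⟨l, rfl, rfl⟩ := overlap j hab n n' w
      rw [res_comp, res_comp]
      congr 1
      cases a <;> cases b
      · exact absurd rfl hab
      · exact hφc
      · exact hφc.symm
      · exact absurd rfl hab
  have hΦ : 𝒴.p.IsHomLift (𝟙 (D j)) Φ.1 := Φ.2
  have := isIso_of_fibGrpd hY.isStack.1 (𝟙 (D j)) Φ.1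
  let k₀ : (Over.mk (𝟙 (D j) ≫ fold j) : Over T) ≅ Over.mk (fold j) :=
    Over.isoMk (Iso.refl _) (by simp)
  obtain ⟨P', hP'⟩ := h Q R (cls_eq_of_iso (a := ⟨f.obj (Q.obj (Over.mk (𝟙 (D j)))), A.w_obj _⟩)
    (b := ⟨R.obj (Over.mk (fold j)), R.w_obj _⟩) (asIso Φ.1 ≪≫ R.toFunctor.mapIso k₀)
    (homLift_id_comp hΦ (map_lift_of_eq R k₀.hom rfl rfl (by simp [k₀]))))
  obtain ⟨ψ, hψ⟩ := fib_iso_of_cls_eq hP'
  let G : ∀ i, Q.obj (dd j i) ⟶ P'.obj (topObj T) := fun i =>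
    Q.map (ff j i) ≫ ψ.hom ≫ P'.map (toTop (Over.mk (fold j)))
  have hG : ∀ i, 𝒳.p.IsHomLift (𝟙 T) (G i) := fun i => by
    have h2 : 𝒳.p.IsHomLift (fold j) (ψ.hom ≫ P'.map (toTop (Over.mk (fold j)))) :=
      vert_then_lift hψ (map_lift_of_eq P' (toTop (Over.mk (fold j))) rfl rfl (by simp [toTop]))
    have := homLift_comp' (map_lift' Q (ff j i)) h2
    change 𝒳.p.IsHomLift (lg j i ≫ fold j) (G i) at this
    rwa [lg_fold] at this
  have hGe : Q.map (nn j false) ≫ G false = Q.map (nn j true) ≫ G true := by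
    change Q.map (nn j false) ≫ Q.map (ff j false) ≫ _ = Q.map (nn j true) ≫ Q.map (ff j true) ≫ _
    have e : ∀ i, Q.map (nn j i) ≫ Q.map (ff j i) = Q.map (nn j i ≫ ff j i) := fun i =>
      (Q.toFunctor.map_comp _ _).symm
    rw [reassoc_of% (e false), reassoc_of% (e true), nn_ff j false true]
  have := hgl false
  have := isIso_of_fibGrpd hg (𝟙 T) (g false)
  have := hG true
  have := isIso_of_fibGrpd hg (𝟙 T) (G true)
  refine ⟨(asIso (g false)).inv ≫ G false ≫ (asIso (G true)).inv ≫ g true, homLift_id_comp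
    (@IsHomLift.lift_id_inv _ _ _ _ 𝒳.p _ _ _ (asIso (g false)) (hgl false))
    (homLift_id_comp (hG false) (homLift_id_comp
      (@IsHomLift.lift_id_inv _ _ _ _ 𝒳.p _ _ _ (asIso (G true)) (hG true)) (hgl true))), ?_⟩
  have : 𝒳.p.IsHomLift (𝟙 W) ρ.1 := ρ.2
  have := isIso_of_fibGrpd hg (𝟙 W) ρ.1
  rw [← cancel_epi κ₁.hom, ← cancel_epi ρ.1, ← G₁, ← reassoc_of% G₀]
  simp only [asIso_inv, IsIso.hom_inv_id_assoc]
  rw [reassoc_of% hGe]
  simp

omit hX hY in
/-- Classes over the doubled scheme see corresponding squares alike. -/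
theorem constD_transfer [SepStack 𝒳] [SepStack 𝒴] {𝒳' 𝒴' : AlgSt.Cat S} [hX' : SepStack 𝒳']
    [hY' : SepStack 𝒴'] {f' : 𝒳' ⥤ᵇ 𝒴'} (φ : IsoNat.FIsoSq f f') (h : ConstD j f) :
    ConstD j f' := by
  intro Q' R' hQR
  obtain ⟨Q, hQ⟩ := exists_corresp φ.src Q'
  obtain ⟨R, hR⟩ := exists_corresp φ.tgt R'
  obtain ⟨P, hP⟩ := h Q R ((φ.tgt.toEquiv (D j)).injective (by
    have h3 := φ.comm (D j) (IsoNat.cls ⟨Q.obj (Over.mk (𝟙 (D j))), Q.w_obj _⟩)
    rw [hQ.at_fiber (Over.mk (𝟙 (D j))) (T := D j) (Q.w_obj _) (Q'.w_obj _)] at h3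
    exact h3.trans (hQR.trans (hR.at_fiber (Over.mk (fold j)) (T := D j) (R.w_obj _) (R'.w_obj _)).symm)))
  obtain ⟨P', hP'⟩ := exists_corresp (symm φ.src (SepStack.isStack (𝒳 := 𝒳)).1 hX'.isStack.1) P
  refine ⟨P', ?_⟩
  rw [← hQ.at_fiber (Over.mk (𝟙 (D j))) (T := D j) (Q.w_obj _) (Q'.w_obj _), hP]
  exact ((Equiv.symm_apply_eq _).1 (hP' (Over.mk (fold j)))).symm

/-- The extension property passes along an isomorphism of maps of presheaves. -/
theorem extD_transfer {𝒳' 𝒴' : AlgSt.Cat S} [SepStack 𝒳'] [SepStack 𝒴'] {f' : 𝒳' ⥤ᵇ 𝒴'}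
    (φ : IsoNat.FIsoSq f f') (h : ExtD j f) : ExtD j f' :=
  extD_of_constD j f' (constD_transfer j f φ (constD_of_extD j f h))

end Groth.Agent.H14IsoNat
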