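import Groth.Agent.H14IsoNat.DoubleTwist

/-!
# Classification of twisted forms over the doubled axes by tuples of automorphisms
-/

set_option autoImplicit false
set_option backward.isDefEq.respectTransparency false
set_option backward.isDefEq.respectTransparency.types false

universe u

open CategoryTheory CategoryTheory.Functor CategoryTheory.Limits AlgebraicGeometry

noncomputable section

namespace Groth.Agent.H14IsoNat

open H14Fib H14Stk Axes

variable {S : Scheme.{u}} {𝒳 : AlgSt.Cat S} {T : Over S} {P : FibCat.overCat T ⥤ᵇ 𝒳}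
  [hX : SepStack 𝒳] {k l : ℕ}

omit hX in
/-- The projection of a product to `T`. -/
def toT (Z : Scheme.{u}) : PT T Z ⟶ Over.mk (𝟙 T) := (Over.mkIdTerminal (X := T)).from _

/-- The origin of the line over `T`. -/
def z₀ : Over.mk (𝟙 T) ⟶ PT T A.{u} :=
  Over.homMk (Over.homMk (prod.lift (𝟙 T.left) (specULiftZIsTerminal.from T.left ≫ zero)) (by
    change prod.lift (𝟙 T.left) _ ≫ prod.fst ≫ T.hom = T.hom
    rw [prod.lift_fst_assoc, Category.id_comp])) (Over.OverMorphism.ext (prod.lift_fst _ _))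

omit hX in
lemma toAbs_z₀ : toAbs (z₀ (T := T)) = specULiftZIsTerminal.from T.left ≫ zero :=
  prod.lift_snd _ _

omit hX in
lemma toT_z₀ : toT (T := T) A.{u} ≫ z₀ = PTmap (toPt ≫ zero) := by
  refine hom_PT_ext ?_
  have h1 : toAbs (toT (T := T) A.{u} ≫ z₀) =
      (toT (T := T) A.{u}).left.left ≫ toAbs (z₀ (T := T)) := Category.assoc _ _ _
  have h2 : toAbs (PTmap (T := T) (toPt.{u} ≫ zero)) =
      (prod.snd : T.left ⨯ A.{u} ⟶ A) ≫ toPt ≫ zero := prod.map_snd _ _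
  rw [h1, h2, toAbs_z₀, ← Category.assoc, ← Category.assoc]
  congr 1
  exact specULiftZIsTerminal.hom_ext _ _

/-- A constant automorphism. -/
def cs (Z : Scheme.{u}) : Vert P P (Over.mk (𝟙 T)) →* Vert P P (PT T Z) := rs (toT Z)

lemma rs_cs {Z Z' : Scheme.{u}} (g : Z ⟶ Z') (a : Vert P P (Over.mk (𝟙 T))) :
    rs (PTmap g) (cs Z' a) = cs Z a := by
  rw [cs, cs, ← rs_comp]
  congr 1
  exact congrArg rs (Over.mkIdTerminal.hom_ext _ _)

lemma rs_z₀_cs (a : Vert P P (Over.mk (𝟙 T))) : rs (z₀ (T := T)) (cs A.{u} a) = a := by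
  rw [cs, ← rs_comp, show z₀ ≫ toT A.{u} = 𝟙 (Over.mk (𝟙 T)) from Over.mkIdTerminal.hom_ext _ _,
    rs_id]

/-- Automorphisms of the line agreeing on the punctured line agree. -/
lemma line_ext {φ ψ : Vert P P (PT T A.{u})} (h : rs (PTmap jX) φ = rs (PTmap jX) ψ) : φ = ψ := by
  choose e e' n m n' hn hr hm hw using fun W : T.left.affineOpens =>
    exists_dense_chart (T := T) W.1 W.2
  refine vert_ext (f := n) hX.isStack ⟨fun W => ?_, fun W => ?_, fun z => ?_⟩ fun W => ?_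
  · have := hn W
    infer_instance
  · have := hn W
    infer_instance
  · obtain ⟨W, hW⟩ := TopologicalSpace.Opens.mem_iSup.1
      ((iSup_affineOpens_eq_top T.left).ge (Set.mem_univ ((prod.fst : T.left ⨯ A.{u} ⟶ T.left) z)))
    exact ⟨W, (hr W).ge hW⟩
  · have h1 : ∀ χ : Vert P P (PT T A.{u}), P.map (m W) ≫ (res hX.isStack.1 (n W) χ).1 =
        (rs (m W ≫ n W) χ).1 ≫ P.map (m W) := fun χ => by
      rw [rs_comp, rs_spec]
      rfl
    refine Subtype.ext (eq_of_agree hX.isStack.1 hX.diag (m W).left (hm W) (P.w_obj (e W))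
      (P.map (m W)) (map_lift' P (m W)) (res hX.isStack.1 (n W) φ).2
      (res hX.isStack.1 (n W) ψ).2 ?_)
    rw [h1, h1, hw, rs_comp, rs_comp, h]

/-- The punctured axis in the punctured axes. -/
def gmO₀ (i : Fin k) : Gm.{u} ⟶ (Axes.O.{u} k).toScheme :=
  IsOpenImmersion.lift (Axes.O k).ι (gm i) (by
    rintro _ ⟨t, rfl⟩
    rw [Scheme.Opens.range_ι]
    exact gm_mem_O i t)

omit hX in
lemma gmO₀_ι (i : Fin k) : gmO₀.{u} i ≫ (Axes.O k).ι = gm i := IsOpenImmersion.lift_fac _ _ _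

instance gmO₀_isOpenImmersion (i : Fin k) : IsOpenImmersion (gmO₀.{u} i) := by
  have : IsOpenImmersion (gmO₀.{u} i ≫ (Axes.O k).ι) := by rw [gmO₀_ι]; infer_instance
  exact IsOpenImmersion.of_comp _ (Axes.O k).ι

omit hX in
lemma isCov_gmO : IsCov (fun i : Fin k => PTmap (T := T) (gmO₀.{u} i)) where
  flat i := (inferInstance : Flat (prod.map (𝟙 T.left) (gmO₀.{u} i)))
  lfp i := (inferInstance : LocallyOfFinitePresentation (prod.map (𝟙 T.left) (gmO₀.{u} i)))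
  surj z := by
    let x := (prod.snd : T.left ⨯ (Axes.O.{u} k).toScheme ⟶ (Axes.O k).toScheme) z
    obtain ⟨i, s, hs⟩ := mem_O.1 x.2
    refine ⟨i, (range_prodMap (T := T) (gmO₀ i)).ge ⟨s, Subtype.ext ?_⟩⟩
    rw [← hs, ← gmO₀_ι i]
    rfl

lemma punctured_ext {t t' : Vert P P (PT T (Axes.O.{u} k).toScheme)}
    (h : ∀ i, rs (PTmap (gmO₀ i)) t = rs (PTmap (gmO₀ i)) t') : t = t' :=
  vert_ext hX.isStack isCov_gmO h

lemma exists_punctured (g : Fin k → Vert P P (PT T Gm.{u})) :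
    ∃ t, ∀ i : Fin k, rs (PTmap (gmO₀ i)) t = g i := by
  refine exists_glue hX.isStack isCov_gmO g fun i j e n n' w => ?_
  have w' : toAbs n ≫ gm i = toAbs n' ≫ gm j := by
    rw [← gmO₀_ι i, ← gmO₀_ι j, ← Category.assoc, ← Category.assoc, ← toAbs_comp, ← toAbs_comp, w, toAbs_comp, toAbs_comp]
  by_cases hij : i = j
  · subst hij
    obtain rfl : n = n' := hom_PT_ext ((cancel_mono (gm.{u} i)).1 w')
    rfl
  · have : IsEmpty e.left.left := ⟨fun s => disjoint_gm hij (x := toAbs n s) (y := toAbs n' s) (by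
      rw [← Scheme.Hom.comp_apply, w', Scheme.Hom.comp_apply])⟩
    exact vert_subsingleton _ _

/-- The automorphism of the punctured axes which is constant on each. -/
def tw (a : Fin k → Vert P P (Over.mk (𝟙 T))) : Vert P P (PT T (Axes.O.{u} k).toScheme) :=
  (exists_punctured fun i => cs Gm (a i)).choose

lemma rs_tw (a : Fin k → Vert P P (Over.mk (𝟙 T))) (i : Fin k) :
    rs (PTmap (gmO₀ i)) (tw a) = cs Gm (a i) :=
  (exists_punctured fun i => cs Gm (a i)).choose_spec i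

omit hX in
lemma gmO_jO (i : Fin k) :
    PTmap (T := T) (gmO₀.{u} i) ≫ jO = PTmap jX ≫ PTmap (br i) := by
  rw [← PTmap_comp, ← PTmap_comp, gmO₀_ι, gm_eq]

lemma rs_gmO_jO (i : Fin k) (h : Vert P P (PT T (U.{u} k))) :
    rs (PTmap (gmO₀ i)) (rs jO h) = rs (PTmap jX) (rs (PTmap (br i)) h) := by
  rw [← rs_comp, gmO_jO, rs_comp]

/-- Two constant twists are isomorphic exactly when the tuples are related. -/
theorem iso_tw_iff {a b : Fin k → Vert P P (Over.mk (𝟙 T))} {ξ ξ' : 𝒳.obj}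
    (h : IsTw (tw a) ξ) (h' : IsTw (tw b) ξ') :
    (∃ ψ : ξ ⟶ ξ', 𝒳.p.IsHomLift (𝟙 (PT T (Y.{u} k)).left) ψ) ↔
      ∃ c d : Vert P P (Over.mk (𝟙 T)), ∀ i, c * b i = a i * d := by
  constructor
  · rintro ⟨ψ, hψ⟩
    obtain ⟨h₀, h₁, r⟩ := exists_rel_of_iso h h' ψ hψ
    rcases k with _ | k
    · exact ⟨1, 1, fun i => i.elim0⟩
    have zb : ∀ i j : Fin (k + 1), z₀ (T := T) ≫ PTmap (br i) = z₀ ≫ PTmap (br j) := fun i j =>
      hom_PT_ext (by rw [toAbs_comp, toAbs_comp, toAbs_z₀, Category.assoc, Category.assoc, zero_br])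
    refine ⟨rs (z₀ ≫ PTmap (br 0)) h₀, rs (z₀ ≫ PTmap (br 0)) h₁, fun i => ?_⟩
    have e1 := congrArg (rs (PTmap (gmO₀ i))) r
    rw [map_mul, map_mul, rs_gmO_jO, rs_gmO_jO, rs_tw, rs_tw, ← rs_cs jX (a i),
      ← rs_cs jX (b i), ← map_mul, ← map_mul] at e1
    have e2 := congrArg (rs (z₀ (T := T))) (line_ext e1)
    rw [map_mul, map_mul, rs_z₀_cs, rs_z₀_cs, ← rs_comp, ← rs_comp, zb i 0] at e2
    exact e2
  · rintro ⟨c, d, hcd⟩
    refine exists_iso_of_rel h h' (h₀ := cs _ c) (h₁ := cs _ d) (punctured_ext fun i => ?_)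
    rw [map_mul, map_mul, rs_gmO_jO, rs_gmO_jO, rs_tw, rs_tw, rs_cs, rs_cs, rs_cs, rs_cs,
      ← map_mul, ← map_mul, hcd]

/-- The punctured part of a map of axes. -/
def mapO₀ (σ : Fin l → Fin k) : (Axes.O.{u} l).toScheme ⟶ (Axes.O k).toScheme :=
  IsOpenImmersion.lift (Axes.O k).ι ((Axes.O l).ι ≫ map σ) (by
    rintro _ ⟨x, rfl⟩
    rw [Scheme.Opens.range_ι]
    exact map_mem_O σ x.2)

omit hX in
lemma mapO₀_ι (σ : Fin l → Fin k) :
    mapO₀.{u} σ ≫ (Axes.O k).ι = (Axes.O l).ι ≫ map σ := IsOpenImmersion.lift_fac _ _ _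

omit hX in
lemma gmO_mapO (σ : Fin l → Fin k) (i : Fin l) : gmO₀.{u} i ≫ mapO₀ σ = gmO₀ (σ i) := by
  rw [← cancel_mono (Axes.O k).ι, Category.assoc, mapO₀_ι, ← Category.assoc, gmO₀_ι, gm_map,
    gmO₀_ι]

lemma rs_mapO_tw (σ : Fin l → Fin k) (a : Fin k → Vert P P (Over.mk (𝟙 T))) :
    rs (PTmap (mapO₀ σ)) (tw a) = tw (a ∘ σ) :=
  punctured_ext fun i => by
    rw [← rs_comp, ← PTmap_comp, gmO_mapO, rs_tw, rs_tw]
    rfl

/-- Pullback of a twist along a map of axes. -/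
lemma isTw_pull (σ : Fin l → Fin k) {t : Vert P P (PT T (Axes.O.{u} k).toScheme)} {ξ ξ' : 𝒳.obj}
    (h : IsTw t ξ) (χ : ξ' ⟶ ξ)
    (hχ : 𝒳.p.IsHomLift (PTmap (T := T) (mapY.{u} σ)).left χ) :
    IsTw (rs (PTmap (mapO₀ σ)) t) ξ' := by
  obtain ⟨-, e, he, hte⟩ := h
  refine ⟨IsHomLift.domain_eq 𝒳.p (PTmap (T := T) (mapY.{u} σ)).left χ, ?_⟩
  let g := (PTmap (T := T) (mapY.{u} σ)).left
  have := sc_of_fibGrpd hX.isStack.1 g χ
  have w : ∀ a, leg (T := T) (k := l) a ≫ PTmap (mapY σ) = PTmap (map σ) ≫ leg a := fun a => by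
    rw [← PTmap_comp, ← PTmap_comp, u₀_mapY]
  have key : ∀ a, ∃ e' : P.obj (PT T (U.{u} l)) ⟶ ξ',
      𝒳.p.IsHomLift (leg (T := T) (k := l) a).left e' ∧ e' ≫ χ = P.map (PTmap (map σ)) ≫ e a := by
    intro a
    have : 𝒳.p.IsHomLift ((leg (T := T) (k := l) a).left ≫ g) (P.map (PTmap (map σ)) ≫ e a) := by
      rw [show (leg (T := T) (k := l) a).left ≫ g = (PTmap (map σ)).left ≫ (leg a).left from
        congrArg CommaMorphism.left (w a)]
      exact homLift_comp' (map_lift' P _) (he a)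
    obtain ⟨e', ⟨h1, h2⟩, -⟩ := IsStronglyCartesian.universal_property 𝒳.p g χ
      (leg (T := T) (k := l) a).left _ rfl (P.map (PTmap (map σ)) ≫ e a)
    exact ⟨e', h1, h2⟩
  choose e' he' he'χ using key
  refine ⟨e', he', ?_⟩
  have h1 : 𝒳.p.IsHomLift ((jO (T := T) (k := l)).left ≫ (leg false).left)
      (P.map jO ≫ e' false) := homLift_comp' (map_lift' P _) (he' false)
  have h2 : 𝒳.p.IsHomLift ((jO (T := T) (k := l)).left ≫ (leg false).left)
      ((rs (PTmap (mapO₀ σ)) t).1 ≫ P.map jO ≫ e' true) := by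
    rw [show (jO (T := T) (k := l)).left ≫ (leg false).left = jO.left ≫ (leg true).left from
      congrArg CommaMorphism.left (jO_leg false true)]
    simpa using homLift_comp' (rs (PTmap (mapO₀ σ)) t).2
      (homLift_comp' (map_lift' P jO) (he' true))
  apply IsStronglyCartesian.ext 𝒳.p g χ ((jO (T := T) (k := l)).left ≫ (leg false).left)
  have sq : P.map (jO (T := T) (k := l)) ≫ P.map (PTmap (map σ)) =
      P.map (PTmap (mapO₀ σ)) ≫ P.map jO := by
    rw [← show P.map (jO ≫ PTmap (map σ)) = P.map jO ≫ P.map (PTmap (map σ)) from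
      P.toFunctor.map_comp _ _, ← show P.map (PTmap (mapO₀ σ) ≫ jO) = P.map (PTmap (mapO₀ σ)) ≫
      P.map jO from P.toFunctor.map_comp _ _, ← PTmap_comp, ← PTmap_comp, mapO₀_ι]
  simp only [Category.assoc, he'χ]
  rw [← Category.assoc (P.map jO), sq, ← Category.assoc (P.map jO) _ (e true), sq, Category.assoc,
    Category.assoc, hte, ← Category.assoc, ← rs_spec, Category.assoc]

/-- An object over the doubled axes trivial on both copies. -/
def IsLT (P : FibCat.overCat T ⥤ᵇ 𝒳) (k : ℕ) (ξ : 𝒳.obj) : Prop :=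
  𝒳.p.obj ξ = (PT T (Y.{u} k)).left ∧ ∀ a, ∃ e : P.obj (PT T (U k)) ⟶ ξ,
    𝒳.p.IsHomLift (leg (T := T) (k := k) a).left e

/-- An object over the doubled axes trivial on each doubled line. -/
def IsBT (P : FibCat.overCat T ⥤ᵇ 𝒳) (k : ℕ) (ξ : 𝒳.obj) : Prop :=
  ∀ i : Fin k, ∃ χ : P.obj (PT T (Y.{u} 1)) ⟶ ξ,
    𝒳.p.IsHomLift (PTmap (T := T) (mapY.{u} (fun _ : Fin 1 => i))).left χ

lemma exists_isTw_of_isLT {ξ : 𝒳.obj} (h : IsLT P k ξ) :
    ∃ t : Vert P P (PT T (Axes.O.{u} k).toScheme), IsTw t ξ := by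
  obtain ⟨hξ, h⟩ := h
  choose e he using h
  let g := (jO (T := T) (k := k)).left ≫ (leg false).left
  have : 𝒳.p.IsHomLift g (P.map jO ≫ e false) := homLift_comp' (map_lift' P _) (he false)
  have : 𝒳.p.IsHomLift g (P.map jO ≫ e true) := by
    rw [show g = (jO (T := T) (k := k)).left ≫ (leg true).left from
      congrArg CommaMorphism.left (jO_leg false true)]
    exact homLift_comp' (map_lift' P jO) (he true)
  obtain ⟨i, hi, hi'⟩ := exists_vertIso hX.isStack.1 g (P.map jO ≫ e false) (P.map jO ≫ e true)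
  exact ⟨⟨i.hom, hi⟩, hξ, e, he, hi'.symm⟩

lemma tw_one : tw (fun _ : Fin k => (1 : Vert P P (Over.mk (𝟙 T)))) = 1 :=
  punctured_ext fun i => by rw [rs_tw, map_one, map_one]

/-- A locally trivial object which is trivial on each doubled line is a constant twist. -/
theorem exists_const_of_bt {ξ : 𝒳.obj} (h : IsLT P k ξ) (hb : IsBT P k ξ) :
    ∃ (a : Fin k → Vert P P (Over.mk (𝟙 T))) (ξ' : 𝒳.obj) (ψ : ξ' ⟶ ξ),
      IsTw (tw a) ξ' ∧ 𝒳.p.IsHomLift (𝟙 (PT T (Y.{u} k)).left) ψ := by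
  obtain ⟨t, ht⟩ := exists_isTw_of_isLT h
  have hg : ∀ i, ∃ b : Vert P P (PT T A.{u}), rs (PTmap (gmO₀ i)) t = rs (PTmap jX) b := by
    intro i
    obtain ⟨χ, hχ⟩ := hb i
    have h1 := isTw_pull (fun _ : Fin 1 => i) ht χ hχ
    obtain ⟨h₀, h₁, r⟩ := exists_rel_of_iso h1 isTw_trivial (𝟙 _) (IsHomLift.id (P.w_obj _))
    refine ⟨rs (PTmap (br 0)) h₀ * (rs (PTmap (br 0)) h₁)⁻¹, ?_⟩
    have e1 := congrArg (rs (PTmap (gmO₀ (0 : Fin 1)))) r
    rw [mul_one, map_mul, ← rs_comp _ _ t, ← PTmap_comp, gmO_mapO, rs_gmO_jO, rs_gmO_jO] at e1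
    rw [map_mul, _root_.map_inv, eq_mul_inv_iff_mul_eq]
    exact e1.symm
  choose b hb' using hg
  let a : Fin k → Vert P P (Over.mk (𝟙 T)) := fun i => rs z₀ (b i)
  let ν : Fin k → Vert P P (PT T A.{u}) := fun i => (cs A (a i))⁻¹ * b i
  let F : Fin k → Vert P P (PT T (U.{u} k)) := fun i => rs (PTmap (ret i)) (ν i)
  let n := ((List.finRange k).map F).prod
  have hn : ∀ j, rs (PTmap (br j)) n = ν j := by
    intro j
    rw [map_list_prod, List.map_map,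
      List.prod_map_eq_pow_single j (f := (rs (PTmap (br j))) ∘ F) (fun i hij _ => ?_),
      List.count_eq_one_of_mem (List.nodup_finRange k) (List.mem_finRange j), pow_one]
    · change rs (PTmap (br j)) (rs (PTmap (ret j)) (ν j)) = ν j
      rw [← rs_comp, ← PTmap_comp, br_ret_self, PTmap_id, rs_id]
    · change rs (PTmap (br j)) (rs (PTmap (ret i)) (ν i)) = 1
      rw [← rs_comp, ← PTmap_comp, br_ret_ne (Ne.symm hij), ← toT_z₀, rs_comp,
        show rs z₀ (ν i) = 1 by rw [map_mul, _root_.map_inv, rs_z₀_cs, inv_mul_cancel], map_one]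
  have ht' : t = tw a * rs jO n := punctured_ext fun i => by
    rw [map_mul, rs_tw, rs_gmO_jO, hn, hb', ← rs_cs jX (a i), ← map_mul, mul_inv_cancel_left]
  obtain ⟨ξ', hξ'⟩ := exists_isTw (tw a)
  obtain ⟨ψ, hψ⟩ := exists_iso_of_rel hξ' ht (h₀ := 1) (h₁ := n)
    (by rw [map_one, one_mul, ht'])
  exact ⟨a, ξ', ψ, hξ', hψ⟩

lemma isLT_of_isTw {t : Vert P P (PT T (Axes.O.{u} k).toScheme)} {ξ : 𝒳.obj} (h : IsTw t ξ) :
    IsLT P k ξ := by
  obtain ⟨hξ, e, he, -⟩ := h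
  exact ⟨hξ, fun a => ⟨e a, he a⟩⟩

lemma isBT_of_isTw {a : Fin k → Vert P P (Over.mk (𝟙 T))} {ξ : 𝒳.obj} (h : IsTw (tw a) ξ) :
    IsBT P k ξ := by
  intro i
  let g := (PTmap (T := T) (mapY.{u} (fun _ : Fin 1 => i))).left
  obtain ⟨w, χ, hχ⟩ : ∃ (w : 𝒳.obj) (χ : w ⟶ ξ), 𝒳.p.IsHomLift g χ := by
    have := isFibered_of_fibGrpd hX.isStack.1
    obtain ⟨w, χ, hχ⟩ := isFibered_exists_sc 𝒳.p h.1 g
    exact ⟨w, χ, inferInstance⟩
  have h1 := isTw_pull (fun _ : Fin 1 => i) h χ hχ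
  rw [rs_mapO_tw] at h1
  have h2 : IsTw (tw fun _ : Fin 1 => (1 : Vert P P (Over.mk (𝟙 T)))) (P.obj (PT T (Y.{u} 1))) :=
    (tw_one (P := P) (k := 1)).symm ▸ isTw_trivial
  obtain ⟨ψ, hψ⟩ := (iso_tw_iff h2 h1).2 ⟨1, a i, fun j => rfl⟩
  exact ⟨ψ ≫ χ, by simpa using homLift_comp' hψ hχ⟩

end Groth.Agent.H14IsoNat
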