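import Groth.Agent.H14IsoNat.Axes
import Mathlib.AlgebraicGeometry.Morphisms.SchemeTheoreticallyDominant
import Mathlib.AlgebraicGeometry.Pullbacks
import Mathlib.RingTheory.PolynomialAlgebra
import Mathlib.Algebra.Category.Ring.Constructions
import Mathlib.RingTheory.Flat.Basic

/-!
# Base change of absolute schemes to a scheme over `S`
-/

set_option autoImplicit false
set_option backward.isDefEq.respectTransparency false
set_option backward.isDefEq.respectTransparency.types false

universe u

open CategoryTheory CategoryTheory.Limits AlgebraicGeometry Polynomial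

noncomputable section

namespace Groth.Agent.H14IsoNat

open Axes

variable {S : Scheme.{u}} (T : Over S) {Z Z' Z'' : Scheme.{u}}

/-- The product with `T`, over `T`. -/
def PT (Z : Scheme.{u}) : Over T :=
  Over.mk (Over.homMk (prod.fst : T.left ⨯ Z ⟶ T.left) :
    Over.mk ((prod.fst : T.left ⨯ Z ⟶ T.left) ≫ T.hom) ⟶ T)

variable {T}

/-- Functoriality. -/
def PTmap (g : Z ⟶ Z') : PT T Z ⟶ PT T Z' :=
  Over.homMk (Over.homMk (prod.map (𝟙 T.left) g) (by
    change prod.map (𝟙 T.left) g ≫ prod.fst ≫ T.hom = prod.fst ≫ T.hom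
    simp)) (Over.OverMorphism.ext (by
    change prod.map (𝟙 T.left) g ≫ prod.fst = prod.fst
    simp))

@[simp] lemma PTmap_left (g : Z ⟶ Z') :
    (PTmap (T := T) g).left.left = prod.map (𝟙 T.left) g := rfl

lemma PTmap_comp (g : Z ⟶ Z') (g' : Z' ⟶ Z'') :
    PTmap (T := T) (g ≫ g') = PTmap g ≫ PTmap g' := by
  refine Over.OverMorphism.ext (Over.OverMorphism.ext ?_)
  change _ = prod.map (𝟙 T.left) g ≫ prod.map (𝟙 T.left) g'
  simp

lemma PTmap_id : PTmap (T := T) (𝟙 Z) = 𝟙 _ :=
  Over.OverMorphism.ext (Over.OverMorphism.ext prod.map_id_id)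

/-- The projection to the absolute scheme. -/
def toAbs {e : Over T} (n : e ⟶ PT T Z) : e.left.left ⟶ Z := n.left.left ≫ prod.snd

lemma toAbs_comp {e : Over T} (n : e ⟶ PT T Z) (g : Z ⟶ Z') :
    toAbs (n ≫ PTmap g) = toAbs n ≫ g := by
  change (n.left.left ≫ prod.map (𝟙 T.left) g) ≫ prod.snd = _
  simp [toAbs]

lemma hom_PT_ext {e : Over T} {n n' : e ⟶ PT T Z} (h : toAbs n = toAbs n') : n = n' := by
  refine Over.OverMorphism.ext (Over.OverMorphism.ext (prod.hom_ext ?_ h))
  have h1 := congrArg CommaMorphism.left (Over.w n)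
  have h2 := congrArg CommaMorphism.left (Over.w n')
  exact h1.trans h2.symm

lemma exists_hom_PT {e : Over T} (x : e.left.left ⟶ Z) : ∃ n : e ⟶ PT T Z, toAbs n = x := by
  refine ⟨Over.homMk (Over.homMk (prod.lift e.hom.left x) ?_) (Over.OverMorphism.ext ?_), ?_⟩
  · change prod.lift e.hom.left x ≫ prod.fst ≫ T.hom = e.left.hom
    rw [prod.lift_fst_assoc, Over.w]
  · change prod.lift e.hom.left x ≫ prod.fst = e.hom.left
    rw [prod.lift_fst]
  · change prod.lift e.hom.left x ≫ prod.snd = x
    rw [prod.lift_snd]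

lemma isPullback_prodMap (g : Z ⟶ Z') :
    IsPullback (prod.map (𝟙 T.left) g) (prod.snd : T.left ⨯ Z ⟶ Z) prod.snd g :=
  IsPullback.of_right (by
    rw [prod.map_fst, Category.comp_id, terminal.comp_from]
    exact IsPullback.of_hasBinaryProduct' T.left Z) (prod.map_snd _ _)
    (IsPullback.of_hasBinaryProduct' T.left Z')

instance isOpenImmersion_prodMap (g : Z ⟶ Z') [IsOpenImmersion g] :
    IsOpenImmersion (prod.map (𝟙 T.left) g) :=
  MorphismProperty.of_isPullback (P := @IsOpenImmersion) (isPullback_prodMap g).flip ‹_›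

lemma range_of_isPullback {P X Y W : Scheme.{u}} {fst : P ⟶ X} {snd : P ⟶ Y} {f : X ⟶ W}
    {g : Y ⟶ W} (sq : IsPullback fst snd f g) : Set.range fst = f ⁻¹' Set.range g := by
  rw [← sq.isoPullback_hom_fst, ← Scheme.Pullback.range_fst]
  ext x
  constructor
  · rintro ⟨y, rfl⟩
    exact ⟨sq.isoPullback.hom y, (Scheme.Hom.comp_apply _ _ _).symm⟩
  · rintro ⟨y, rfl⟩
    refine ⟨sq.isoPullback.inv y, ?_⟩
    rw [← Scheme.Hom.comp_apply, Iso.inv_hom_id_assoc]

lemma range_prodMap (g : Z ⟶ Z') :
    Set.range (prod.map (𝟙 T.left) g) = (prod.snd : T.left ⨯ Z' ⟶ Z') ⁻¹' Set.range g :=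
  range_of_isPullback (isPullback_prodMap g)

section Density

variable {R : Type u} [CommRing R]

attribute [local instance] Polynomial.algebra

lemma isPullback_polynomial_gen (B R : Type u) [CommRing B] [CommRing R] [Algebra B R] :
    IsPullback (Spec.map (CommRingCat.ofHom (mapRingHom (algebraMap B R))))
      (Spec.map (CommRingCat.ofHom (C : R →+* R[X])))
      (Spec.map (CommRingCat.ofHom (C : B →+* B[X])))
      (Spec.map (CommRingCat.ofHom (algebraMap B R))) :=
  haveI : IsScalarTower B B[X] R[X] := IsScalarTower.of_algebraMap_eq fun x =>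
    (map_C (algebraMap B R)).symm
  isPullback_SpecMap_of_isPushout _ _ _ _ (CommRingCat.isPushout_of_isPushout B B[X] R R[X])

lemma isPullback_polynomial {R : Type u} [CommRing R] (φ : Z₀.{u} →+* R) :
    IsPullback (Spec.map (CommRingCat.ofHom (mapRingHom φ)))
      (Spec.map (CommRingCat.ofHom (C : R →+* R[X]))) toPt
      (Spec.map (CommRingCat.ofHom φ)) :=
  @isPullback_polynomial_gen Z₀.{u} R _ _ φ.toAlgebra

lemma ker_specMap_eq_bot {R R' : CommRingCat.{u}} (φ : R ⟶ R')
    (h : Function.Injective φ.hom) : (Spec.map φ).ker = ⊥ := by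
  rw [Scheme.ker_of_isAffine]
  have h1 : Function.Injective (Spec.map φ).appTop.hom := by
    intro a b e
    have h2 := congrArg (fun g => g.hom a) (Scheme.ΓSpecIso_naturality φ)
    have h3 := congrArg (fun g => g.hom b) (Scheme.ΓSpecIso_naturality φ)
    simp only [CommRingCat.hom_comp, RingHom.comp_apply] at h2 h3
    exact (Scheme.ΓSpecIso R).commRingCatIsoToRingEquiv.injective
      (h ((h2.symm.trans (congrArg _ e)).trans h3))
  rw [(RingHom.injective_iff_ker_eq_bot _).1 h1]
  refine Scheme.IdealSheafData.ext_of_isAffine ?_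
  simp

lemma away_X_injective (R : Type u) [CommRing R] :
    Function.Injective (algebraMap R[X] (Localization.Away (X : R[X]))) :=
  IsLocalization.injective _ fun p hp => by
    obtain ⟨n, rfl⟩ := (Submonoid.mem_powers_iff _ _).1 hp
    exact (monic_X_pow n).mem_nonZeroDivisors

/-- Over each affine open of `T` the punctured line is scheme-theoretically dense. -/
lemma exists_dense_chart (W : T.left.Opens) (hW : IsAffineOpen W) :
    ∃ (e e' : Over T) (n : e ⟶ PT T A.{u}) (m : e' ⟶ e) (n' : e' ⟶ PT T Gm.{u}),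
      IsOpenImmersion n.left.left ∧
      Set.range n.left.left = (prod.fst : T.left ⨯ A.{u} ⟶ T.left) ⁻¹' (W : Set T.left) ∧
      m.left.left.ker = ⊥ ∧ m ≫ n = n' ≫ PTmap jX := by
  let R := Γ(T.left, W)
  let φ : Z₀.{u} →+* R := (Int.castRingHom R).comp ULift.ringEquiv.toRingHom
  let ι₀ : Spec R ⟶ T.left := hW.fromSpec
  let ρ := Spec.map (CommRingCat.ofHom (mapRingHom φ))
  let cR := Spec.map (CommRingCat.ofHom (C : (R : Type u) →+* R[X]))
  let n₀ : Spec (CommRingCat.of R[X]) ⟶ T.left ⨯ A.{u} := prod.lift (cR ≫ ι₀) ρ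
  let eT : Spec (CommRingCat.of R[X]) ⟶ T.left := cR ≫ ι₀
  let e : Over T := Over.mk (Over.homMk eT : Over.mk (eT ≫ T.hom) ⟶ T)
  obtain ⟨n, hn⟩ := exists_hom_PT (e := e) ρ
  have hn₀ : n.left.left = n₀ := by
    refine prod.hom_ext ?_ (hn.trans (prod.lift_snd _ _).symm)
    have h1 := congrArg CommaMorphism.left (Over.w n)
    exact h1.trans (prod.lift_fst _ _).symm
  have sq : IsPullback n₀ cR (prod.fst : T.left ⨯ A.{u} ⟶ T.left) ι₀ := by
    refine IsPullback.of_right (h₁₂ := (prod.snd : T.left ⨯ A.{u} ⟶ A.{u})) (v₁₃ := toPt)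
      (h₂₂ := specULiftZIsTerminal.from T.left) ?_ (prod.lift_fst _ _)
      (by
        rw [show (toPt.{u}) = specULiftZIsTerminal.from A from specULiftZIsTerminal.hom_ext _ _]
        exact (IsPullback.of_is_product' (prodIsProd T.left A.{u}) specULiftZIsTerminal).flip)
    rw [prod.lift_snd, specULiftZIsTerminal.hom_ext (ι₀ ≫ specULiftZIsTerminal.from T.left)
      (Spec.map (CommRingCat.ofHom φ))]
    exact isPullback_polynomial φ
  let L := Localization.Away (X : R[X])
  let jR := Spec.map (CommRingCat.ofHom (algebraMap R[X] L))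
  have hu : IsUnit (((algebraMap R[X] L).comp (mapRingHom φ)) X) := by
    rw [RingHom.comp_apply, coe_mapRingHom, map_X]
    exact IsLocalization.Away.algebraMap_isUnit X
  let x' := Spec.map (CommRingCat.ofHom
    (IsLocalization.Away.lift (S := Localization.Away (X : P₀.{u})) X hu))
  let e' : Over T := Over.mk (Over.homMk (jR ≫ eT) : Over.mk ((jR ≫ eT) ≫ T.hom) ⟶ T)
  let m : e' ⟶ e := Over.homMk (Over.homMk jR (Category.assoc _ _ _).symm)
    (Over.OverMorphism.ext rfl)
  obtain ⟨n', hn'⟩ := exists_hom_PT (e := e') x'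
  refine ⟨e, e', n, m, n', hn₀ ▸ MorphismProperty.of_isPullback (P := @IsOpenImmersion) sq.flip
    (inferInstanceAs (IsOpenImmersion ι₀)), ?_,
    ker_specMap_eq_bot _ (away_X_injective R), hom_PT_ext ?_⟩
  · rw [hn₀]
    refine (range_of_isPullback sq).trans ?_
    exact congrArg _ hW.range_fromSpec
  · rw [toAbs_comp, hn']
    change (jR ≫ n.left.left) ≫ prod.snd = x' ≫ jX
    rw [Category.assoc, show n.left.left ≫ prod.snd = ρ from hn]
    simp only [jR, ρ, x', jX, ← Spec.map_comp]
    congr 1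
    ext1
    exact (IsLocalization.Away.lift_comp X hu).symm

end Density

end Groth.Agent.H14IsoNat
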