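import Groth.Agent.H14IsoNat.Sep
import Groth.Agent.H14IsoNat.Twist
import Groth.Agent.H14IsoNat.OverT
import Mathlib.Algebra.BigOperators.Group.List.Basic

/-!
# Twisted forms of an object over the doubled axes
-/

set_option autoImplicit false
set_option backward.isDefEq.respectTransparency false
set_option backward.isDefEq.respectTransparency.types false

universe u

open CategoryTheory CategoryTheory.Functor CategoryTheory.Limits AlgebraicGeometry

noncomputable section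

namespace Groth.Agent.H14IsoNat

open H14Fib H14Stk Axes

local notation "K₀" => Scheme.fppfPrecoverage

variable {S : Scheme.{u}} {𝒳 : AlgSt.Cat S} {T : Over S} {P : FibCat.overCat T ⥤ᵇ 𝒳}

/-- A stack with separated diagonal. -/
class SepStack (𝒳 : AlgSt.Cat S) : Prop where
  isStack : Stk.IsStack (QuotSh.J K₀ S) 𝒳
  diag : AlgSt.RepByAlgSpWith AlgSp.IsSeparatedMor (FibCat.diag (FibCat.toSelf 𝒳))

variable [hX : SepStack 𝒳]

lemma grpd (𝒳 : AlgSt.Cat S) [h : SepStack 𝒳] : FibCat.IsFibGrpd 𝒳.p := h.isStack.1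

omit hX in
lemma lift_comp_id {A B : Over S} {a b c : 𝒳.obj} {g : A ⟶ B} {φ : a ⟶ b} {ψ : b ⟶ c}
    (hφ : 𝒳.p.IsHomLift g φ) (hψ : 𝒳.p.IsHomLift (𝟙 B) ψ) : 𝒳.p.IsHomLift g (φ ≫ ψ) := by
  simpa using homLift_comp' hφ hψ

section Group

variable {c : Over T}

instance : One (Vert P P c) := ⟨⟨𝟙 _, IsHomLift.id (P.w_obj c)⟩⟩
instance : Mul (Vert P P c) := ⟨fun φ ψ => φ.comp ψ⟩
instance : Inv (Vert P P c) := ⟨fun φ =>
  haveI := φ.2
  haveI := isIso_of_fibGrpd (grpd 𝒳) (𝟙 c.left) φ.1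
  ⟨(asIso φ.1).inv, @IsHomLift.lift_id_inv _ _ _ _ 𝒳.p c.left _ _ (asIso φ.1) φ.2⟩⟩

omit hX in
@[simp] lemma vert_one : (1 : Vert P P c).1 = 𝟙 _ := rfl
omit hX in
@[simp] lemma vert_mul (φ ψ : Vert P P c) : (φ * ψ).1 = φ.1 ≫ ψ.1 := rfl

instance : Group (Vert P P c) := Group.ofLeftAxioms
  (fun a b d => Subtype.ext (Category.assoc _ _ _)) (fun a => Subtype.ext (Category.id_comp _))
  (fun a => Subtype.ext (by
    have := a.2
    have := isIso_of_fibGrpd (grpd 𝒳) (𝟙 c.left) a.1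
    exact (asIso a.1).inv_hom_id))

/-- Restriction, as a homomorphism. -/
def rs {c' c : Over T} (m : c' ⟶ c) : Vert P P c →* Vert P P c' where
  toFun := res (grpd 𝒳) m
  map_one' := res_eq (grpd 𝒳) _ _ (by simp)
  map_mul' φ ψ := res_vertComp (grpd 𝒳) _ _ _

lemma rs_spec {c' c : Over T} (m : c' ⟶ c) (φ : Vert P P c) :
    (rs m φ).1 ≫ P.map m = P.map m ≫ φ.1 := res_spec (grpd 𝒳) m φ

lemma rs_eq {c' c : Over T} (m : c' ⟶ c) (φ : Vert P P c) {ψ : Vert P P c'}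
    (h : ψ.1 ≫ P.map m = P.map m ≫ φ.1) : rs m φ = ψ := res_eq (grpd 𝒳) _ _ h

lemma rs_comp {c'' c' c : Over T} (n : c'' ⟶ c') (m : c' ⟶ c) (φ : Vert P P c) :
    rs (n ≫ m) φ = rs n (rs m φ) := res_comp (grpd 𝒳) _ _ _

lemma rs_id (φ : Vert P P c) : rs (𝟙 c) φ = φ := res_id (grpd 𝒳) _

/-- An isomorphism of objects over a piece with no points is unique. -/
lemma vert_subsingleton [IsEmpty c.left.left] (φ ψ : Vert P P c) : φ = ψ :=
  vert_ext (ι := PEmpty.{1}) (d := PEmpty.elim) (f := fun i => i.elim) hX.isStack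
    ⟨fun i => i.elim, fun i => i.elim, fun z => isEmptyElim z⟩ (fun i => i.elim)

/-- Left cancellation of a pushed morphism. -/
lemma vert_cancel {c' : Over T} (m : c' ⟶ c) {ξ : 𝒳.obj} (e : P.obj c ⟶ ξ) {g : c.left ⟶ 𝒳.p.obj ξ}
    (he : 𝒳.p.IsHomLift g e) {φ ψ : Vert P P c'}
    (h : φ.1 ≫ P.map m ≫ e = ψ.1 ≫ P.map m ≫ e) : φ = ψ := by
  have : 𝒳.p.IsHomLift (m.left ≫ g) (P.map m ≫ e) := homLift_comp' (map_lift' P m) he
  have := sc_of_fibGrpd (grpd 𝒳) (m.left ≫ g) (P.map m ≫ e)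
  have := φ.2
  have := ψ.2
  exact Subtype.ext (IsStronglyCartesian.ext 𝒳.p (m.left ≫ g) (P.map m ≫ e) (𝟙 c'.left) h)

end Group

variable {k l : ℕ}

/-- The pieces of the doubled axes. -/
abbrev leg (a : Bool) : PT T (U.{u} k) ⟶ PT T (Y k) := PTmap (u₀ a)

/-- The punctured part. -/
abbrev jO : PT T (Axes.O.{u} k).toScheme ⟶ PT T (U k) := PTmap (Axes.O k).ι

omit hX in
lemma isCov_leg : IsCov (fun a : Bool => leg (T := T) (k := k) a) where
  flat a := (inferInstance : Flat (prod.map (𝟙 T.left) (u₀.{u} (k := k) a)))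
  lfp a := (inferInstance : LocallyOfFinitePresentation (prod.map (𝟙 T.left) (u₀.{u} (k := k) a)))
  surj z := by
    obtain ⟨a, x, hx⟩ := u₀_surj ((prod.snd : T.left ⨯ Y.{u} k ⟶ Y k) z)
    exact ⟨a, (range_prodMap (T := T) (u₀ a)).ge ⟨x, hx⟩⟩

omit hX in
lemma jO_leg (a b : Bool) : jO (T := T) (k := k) ≫ leg a = jO ≫ leg b := by
  rw [← PTmap_comp, ← PTmap_comp, u₀_O a b]

omit hX in
lemma exists_overlap {a b : Bool} (h : a ≠ b) {e : Over T} (n n' : e ⟶ PT T (U.{u} k))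
    (w : n ≫ leg a = n' ≫ leg b) :
    ∃ l : e ⟶ PT T (Axes.O.{u} k).toScheme, l ≫ jO = n ∧ l ≫ jO = n' := by
  have w' : toAbs n ≫ u₀ a = toAbs n' ≫ u₀ b := by rw [← toAbs_comp, ← toAbs_comp, w]
  have hmem : ∀ t, toAbs n t ∈ Axes.O k ∧ toAbs n t = toAbs n' t := fun t => by
    have h1 : u₀ a (toAbs n t) = u₀ b (toAbs n' t) := by
      rw [← Scheme.Hom.comp_apply, w', Scheme.Hom.comp_apply]
    exact ⟨(u₀_eq_iff h h1).2, (u₀_eq_iff h h1).1⟩
  have hr : Set.range (toAbs n) ⊆ Set.range (Axes.O.{u} k).ι := by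
    rintro _ ⟨t, rfl⟩
    rw [Scheme.Opens.range_ι]
    exact (hmem t).1
  have hr' : Set.range (toAbs n') ⊆ Set.range (Axes.O.{u} k).ι := by
    rintro _ ⟨t, rfl⟩
    rw [Scheme.Opens.range_ι, ← (hmem t).2]
    exact (hmem t).1
  have hx := IsOpenImmersion.lift_fac _ _ hr
  have hx' := IsOpenImmersion.lift_fac _ _ hr'
  have e2 : IsOpenImmersion.lift _ _ hr = IsOpenImmersion.lift _ _ hr' := by
    have : Mono ((Axes.O.{u} k).ι ≫ u₀ a) := inferInstance
    rw [← cancel_mono ((Axes.O.{u} k).ι ≫ u₀ a), reassoc_of% hx, u₀_O a b, reassoc_of% hx', w']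
  obtain ⟨l, hl⟩ := exists_hom_PT (T := T) (IsOpenImmersion.lift _ _ hr)
  exact ⟨l, hom_PT_ext (by rw [toAbs_comp, hl, hx]),
    hom_PT_ext (by rw [toAbs_comp, hl, e2, hx'])⟩

omit hX in
lemma leg_cancel (a : Bool) {e : Over T} {n n' : e ⟶ PT T (U.{u} k)}
    (w : n ≫ leg a = n' ≫ leg a) : n = n' := by
  refine hom_PT_ext ?_
  rw [← cancel_mono (u₀.{u} a), ← toAbs_comp, ← toAbs_comp, w]

omit hX in
lemma jO_cancel {e : Over T} {l l' : e ⟶ PT T (Axes.O.{u} k).toScheme}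
    (w : l ≫ jO = l' ≫ jO) : l = l' := by
  refine hom_PT_ext ?_
  rw [← cancel_mono (Axes.O.{u} k).ι, ← toAbs_comp, ← toAbs_comp, w]

/-- The value of the cocycle of an automorphism of the punctured part. -/
def tau (t : Vert P P (PT T (Axes.O.{u} k).toScheme)) {a b : Bool} {e : Over T}
    (n : e ⟶ PT T (U k)) (n' : e ⟶ PT T (U k)) (w : n ≫ leg a = n' ≫ leg b) : Vert P P e :=
  if h : a = b then 1 else
    if a = false then rs (exists_overlap h n n' w).choose t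
    else (rs (exists_overlap h n n' w).choose t)⁻¹

lemma tau_eq (t : Vert P P (PT T (Axes.O.{u} k).toScheme)) {a b : Bool} {e : Over T}
    (n : e ⟶ PT T (U k)) (n' : e ⟶ PT T (U k)) (w : n ≫ leg a = n' ≫ leg b) (h : a ≠ b)
    (l : e ⟶ PT T (Axes.O k).toScheme) (hl : l ≫ jO = n) :
    tau t n n' w = if a = false then rs l t else (rs l t)⁻¹ := by
  have : (exists_overlap h n n' w).choose = l :=
    jO_cancel ((exists_overlap h n n' w).choose_spec.1.trans hl.symm)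
  rw [tau, dif_neg h, this]

/-- The cocycle of an automorphism of the punctured part. -/
def cocycle (t : Vert P P (PT T (Axes.O.{u} k).toScheme)) :
    Cocycle (fun a : Bool => leg (T := T) (k := k) a) (grpd 𝒳) P where
  τ n n' w := tau t n n' w
  nat {a b e' e} m n n' w := by
    change rs m (tau t n n' w) = _
    by_cases h : a = b
    · simp [tau, h]
    · obtain ⟨l, hl, -⟩ := exists_overlap h n n' w
      rw [tau_eq t n n' w h l hl, tau_eq t _ _ _ h (m ≫ l) (by rw [Category.assoc, hl])]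
      cases a <;> simp [rs_comp]
  self n := by simp [tau]
  trans {a b c e} n n' n'' w w' := by
    change ((tau t n n' w) * (tau t n' n'' w')).1 = _
    congr 1
    by_cases h : a = b
    · subst h
      obtain rfl : n = n' := leg_cancel a w
      simp [tau]
    · by_cases h' : b = c
      · subst h'
        obtain rfl : n' = n'' := leg_cancel b w'
        simp [tau]
      · have hc : a = c := by cases a <;> cases b <;> cases c <;> simp_all
        subst hc
        obtain ⟨l, hl, hl'⟩ := exists_overlap h n n' w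
        rw [tau_eq t n n' w h l hl, tau_eq t n' n'' w' h' l hl']
        cases a <;> cases b <;> simp_all [tau]

/-- The object `ξ` over the doubled axes is glued from `P` along `t`. -/
def IsTw (t : Vert P P (PT T (Axes.O.{u} k).toScheme)) (ξ : 𝒳.obj) : Prop :=
  𝒳.p.obj ξ = (PT T (Y.{u} k)).left ∧ ∃ e : Bool → (P.obj (PT T (U k)) ⟶ ξ),
    (∀ a, 𝒳.p.IsHomLift (leg (T := T) (k := k) a).left (e a)) ∧
      P.map jO ≫ e false = t.1 ≫ P.map jO ≫ e true

lemma exists_isTw (t : Vert P P (PT T (Axes.O.{u} k).toScheme)) : ∃ ξ, IsTw t ξ := by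
  obtain ⟨ξ, hξ, e, he, h⟩ := exists_twist hX.isStack isCov_leg (cocycle t)
  refine ⟨ξ, hξ, e, he, ?_⟩
  rw [h false true _ jO jO (jO_leg false true)]
  congr 1
  change (tau t jO jO _).1 = t.1
  rw [tau_eq t jO jO _ (by decide) (𝟙 _) (Category.id_comp _), if_pos rfl, rs_id]

omit hX in
lemma isTw_trivial : IsTw (1 : Vert P P (PT T (Axes.O.{u} k).toScheme)) (P.obj (PT T (Y k))) := by
  refine ⟨P.w_obj _, fun a => P.map (leg a), fun a => map_lift' P _, ?_⟩
  rw [vert_one, Category.id_comp, ← show P.map (jO ≫ leg false) = P.map jO ≫ P.map (leg false) from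
    P.toFunctor.map_comp _ _, jO_leg false true]
  exact P.toFunctor.map_comp _ _

variable {t t' : Vert P P (PT T (Axes.O.{u} k).toScheme)} {ξ ξ' : 𝒳.obj}

lemma exists_rel_of_iso (h : IsTw t ξ) (h' : IsTw t' ξ') (ψ : ξ ⟶ ξ')
    (hψ : 𝒳.p.IsHomLift (𝟙 (PT T (Y.{u} k)).left) ψ) :
    ∃ h₀ h₁ : Vert P P (PT T (U.{u} k)), rs jO h₀ * t' = t * rs jO h₁ := by
  obtain ⟨-, e, he, hte⟩ := h
  obtain ⟨hξ', e', he', hte'⟩ := h'
  have key : ∀ a, ∃ φ : Vert P P (PT T (U.{u} k)), e a ≫ ψ = φ.1 ≫ e' a := fun a => by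
    have : 𝒳.p.IsHomLift (leg (T := T) (k := k) a).left (e a ≫ ψ) := by
      simpa using homLift_comp' (he a) hψ
    have := he' a
    obtain ⟨i, hi, hi'⟩ := exists_vertIso (grpd 𝒳) (leg (T := T) (k := k) a).left (e a ≫ ψ) (e' a)
    exact ⟨⟨i.hom, hi⟩, hi'.symm⟩
  obtain ⟨h₀, hh₀⟩ := key false
  obtain ⟨h₁, hh₁⟩ := key true
  refine ⟨h₀, h₁, ?_⟩
  have hl : 𝒳.p.IsHomLift ((leg (T := T) (k := k) true).left ≫ eqToHom hξ'.symm) (e' true) := by
    have := he' true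
    infer_instance
  refine vert_cancel jO (e' true) hl ?_
  rw [vert_mul, vert_mul, Category.assoc, ← hte', ← Category.assoc, rs_spec, Category.assoc,
    ← hh₀, Category.assoc]
  rw [← Category.assoc (P.map jO), hte]
  simp only [Category.assoc]
  rw [← Category.assoc (rs jO h₁).1, rs_spec, Category.assoc, ← hh₁]

lemma exists_iso_of_rel (h : IsTw t ξ) (h' : IsTw t' ξ') {h₀ h₁ : Vert P P (PT T (U.{u} k))}
    (r : rs jO h₀ * t' = t * rs jO h₁) :
    ∃ ψ : ξ ⟶ ξ', 𝒳.p.IsHomLift (𝟙 (PT T (Y.{u} k)).left) ψ := by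
  obtain ⟨hξ, e, he, hte⟩ := h
  obtain ⟨hξ', e', he', hte'⟩ := h'
  let c := (PT T (Y.{u} k)).left
  have := isFibered_of_fibGrpd (grpd 𝒳)
  obtain ⟨Q, i, -, hi⟩ := exists_fromOver (𝒳 := 𝒳) (x := ξ) hξ
  obtain ⟨Q', i', -, hi'⟩ := exists_fromOver (𝒳 := 𝒳) (x := ξ') hξ'
  let f₀ : Bool → ((PT T (U.{u} k)).left ⟶ c) := fun a => (leg (T := T) (k := k) a).left
  let d : Bool → Over c := fun a => Over.mk (f₀ a)
  let f : ∀ a, d a ⟶ Over.mk (𝟙 c) := fun a => Over.homMk (f₀ a) (Category.comp_id _)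
  have hf : IsCov f := ⟨(isCov_leg (T := T) (k := k)).flat, (isCov_leg (T := T) (k := k)).lfp,
    (isCov_leg (T := T) (k := k)).surj⟩
  have hlift : ∀ (R : FibCat.overCat c ⥤ᵇ 𝒳) {ζ : 𝒳.obj} (j : R.obj (topObj c) ≅ ζ),
      𝒳.p.IsHomLift (𝟙 c) j.hom → ∀ a, 𝒳.p.IsHomLift (f₀ a) (R.map (f a) ≫ j.hom) :=
    fun R _ j hj a => lift_comp_id (g := f₀ a) (map_lift' R (f a)) hj
  have hh : ∀ a : Bool, ∃ φ : Vert Q Q' (d a), ∃ (κ : Q.obj (d a) ≅ P.obj (PT T (U.{u} k))),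
      𝒳.p.IsHomLift (𝟙 (PT T (U.{u} k)).left) κ.hom ∧ κ.hom ≫ e a = Q.map (f a) ≫ i.hom ∧
        φ.1 ≫ Q'.map (f a) ≫ i'.hom = κ.hom ≫ (cond a h₁.1 h₀.1) ≫ e' a := fun a => by
    have := hlift Q i hi a
    have := he a
    obtain ⟨κ, hκ, hκ'⟩ := exists_vertIso (grpd 𝒳) (f₀ a) (Q.map (f a) ≫ i.hom) (e a)
    have hc : 𝒳.p.IsHomLift (𝟙 (PT T (U.{u} k)).left) (cond a h₁.1 h₀.1) := by
      cases a
      · exact h₀.2
      · exact h₁.2
    have : 𝒳.p.IsHomLift (f₀ a) (κ.hom ≫ (cond a h₁.1 h₀.1) ≫ e' a) := by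
      simpa using homLift_comp' hκ (homLift_comp' hc (he' a))
    have := hlift Q' i' hi' a
    obtain ⟨φ, hφ, hφ'⟩ := exists_vertIso (grpd 𝒳) (f₀ a)
      (κ.hom ≫ (cond a h₁.1 h₀.1) ≫ e' a) (Q'.map (f a) ≫ i'.hom)
    exact ⟨⟨φ.hom, hφ⟩, κ, hκ, hκ', hφ'⟩
  choose φ κ hκ hκe hφ using hh
  obtain ⟨Φ, -⟩ := exists_glue hX.isStack hf φ (fun a b e₀ n n' w => by
    by_cases hab : a = b
    · subst hab
      obtain rfl : n = n' := by
        refine Over.OverMorphism.ext ?_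
        have w' : n.left ≫ f₀ a = n'.left ≫ f₀ a := congrArg CommaMorphism.left w
        refine Over.OverMorphism.ext ?_
        have : IsOpenImmersion (f₀ a).left := isOpenImmersion_prodMap (u₀ a)
        rw [← cancel_mono (f₀ a).left]
        exact congrArg CommaMorphism.left w'
      rfl
    · -- both factor through the punctured part
      have w' : n.left ≫ f₀ a = n'.left ≫ f₀ b := congrArg CommaMorphism.left w
      let e₁ : Over T := Over.mk (n.left ≫ (PT T (U.{u} k)).hom)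
      let n₁ : e₁ ⟶ PT T (U k) := Over.homMk n.left
      let n₁' : e₁ ⟶ PT T (U k) := Over.homMk n'.left (by
        change n'.left ≫ _ = n.left ≫ _
        refine (congrArg (n'.left ≫ ·) (Over.w (leg (T := T) (k := k) b)).symm).trans
          (Eq.trans ?_ (congrArg (n.left ≫ ·) (Over.w (leg (T := T) (k := k) a))))
        exact (Category.assoc _ _ _).symm.trans
          ((congrArg (· ≫ (PT T (Y.{u} k)).hom) w'.symm).trans (Category.assoc _ _ _)))
      obtain ⟨l, hl, hl'⟩ := exists_overlap hab n₁ n₁' (Over.OverMorphism.ext w')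
      let e' := e'
      have hQ : 𝒳.p.IsHomLift (n.left ≫ f₀ a) (Q'.map (n ≫ f a) ≫ i'.hom) := by
        exact lift_comp_id (g := n.left ≫ f₀ a) (map_lift' Q' (n ≫ f a)) hi'
      have := sc_of_fibGrpd (grpd 𝒳) (n.left ≫ f₀ a) (Q'.map (n ≫ f a) ≫ i'.hom)
      have := (res hX.isStack.1 n (φ a)).2
      have := (res hX.isStack.1 n' (φ b)).2
      refine Subtype.ext (IsStronglyCartesian.ext 𝒳.p (n.left ≫ f₀ a)
        (Q'.map (n ≫ f a) ≫ i'.hom) (𝟙 e₀.left) ?_)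
      have expand : ∀ (c : Bool) (m : e₀ ⟶ d c), n ≫ f a = m ≫ f c →
          (res hX.isStack.1 m (φ c)).1 ≫ Q'.map (n ≫ f a) ≫ i'.hom =
            Q.map m ≫ (κ c).hom ≫ (cond c h₁.1 h₀.1) ≫ e' c := by
        intro c m hm
        rw [hm, show Q'.map (m ≫ f c) = Q'.map m ≫ Q'.map (f c) from Q'.toFunctor.map_comp _ _,
          Category.assoc, ← Category.assoc (res hX.isStack.1 m (φ c)).1, res_spec, Category.assoc,
          hφ]
      rw [expand a n rfl, expand b n' w]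
      -- reduce to a comparison over the punctured part
      have comp : ∀ (c : Bool) (m : e₀ ⟶ d c) (m₁ : e₁ ⟶ PT T (U k)), m₁.left = m.left →
          l ≫ jO = m₁ → ∃ ρ : Q.obj e₀ ⟶ P.obj e₁, 𝒳.p.IsHomLift (𝟙 e₀.left) ρ ∧
            ρ ≫ P.map l ≫ P.map jO = Q.map m ≫ (κ c).hom := by
        intro c m m₁ hm hlm
        have h1 : 𝒳.p.IsHomLift m.left (Q.map m ≫ (κ c).hom) := by
          exact lift_comp_id (g := m.left) (map_lift' Q m) (hκ c)
        have h2 : 𝒳.p.IsHomLift m.left (P.map (l ≫ jO)) := by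
          rw [hlm, ← hm]
          exact map_lift' P m₁
        obtain ⟨ρ, hρ, hρ'⟩ := exists_vertIso (grpd 𝒳) m.left (Q.map m ≫ (κ c).hom)
          (P.map (l ≫ jO))
        refine ⟨ρ.hom, hρ, ?_⟩
        rw [← hρ', show P.map (l ≫ jO) = P.map l ≫ P.map jO from P.toFunctor.map_comp _ _]
      obtain ⟨ρ, hρ, hρe⟩ := comp a n n₁ rfl hl
      obtain ⟨ρ', hρ', hρe'⟩ := comp b n' n₁' rfl hl'
      -- the comparison between the two
      have base : ρ ≫ P.map l ≫ P.map jO ≫ e a = ρ' ≫ P.map l ≫ P.map jO ≫ e b := by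
        rw [← Category.assoc (P.map l), ← Category.assoc ρ, hρe, Category.assoc, hκe,
          ← Category.assoc (P.map l), ← Category.assoc ρ', hρe', Category.assoc, hκe,
          ← Category.assoc, ← show Q.map (n ≫ f a) = Q.map n ≫ Q.map (f a) from
            Q.toFunctor.map_comp _ _, w,
          show Q.map (n' ≫ f b) = Q.map n' ≫ Q.map (f b) from Q.toFunctor.map_comp _ _,
          Category.assoc]
      rw [← Category.assoc (Q.map n), ← hρe, ← Category.assoc (Q.map n'), ← hρe']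
      simp only [Category.assoc]
      have r' : (rs jO h₀).1 ≫ t'.1 = t.1 ≫ (rs jO h₁).1 := congrArg Subtype.val r
      have main : P.map jO ≫ h₀.1 ≫ e' false = t.1 ≫ P.map jO ≫ h₁.1 ≫ e' true := by
        rw [← Category.assoc (P.map jO), ← rs_spec, Category.assoc, hte', ← Category.assoc,
          r', Category.assoc, ← Category.assoc (rs jO h₁).1, rs_spec, Category.assoc]
      have hcancel : ∀ (r₁ r₂ : Q.obj e₀ ⟶ P.obj e₁), 𝒳.p.IsHomLift (𝟙 e₀.left) r₁ →
          𝒳.p.IsHomLift (𝟙 e₀.left) r₂ →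
          r₁ ≫ P.map l ≫ P.map jO ≫ e true = r₂ ≫ P.map l ≫ P.map jO ≫ e true → r₁ = r₂ := by
        intro r₁ r₂ _ _ hr
        have hL : 𝒳.p.IsHomLift (l.left ≫ (jO (T := T) (k := k)).left ≫ f₀ true)
            (P.map l ≫ P.map jO ≫ e true) :=
          homLift_comp' (map_lift' P l) (homLift_comp' (map_lift' P jO) (he true))
        have : 𝒳.p.IsHomLift (𝟙 e₁.left) r₁ := ‹𝒳.p.IsHomLift (𝟙 e₀.left) r₁›
        have : 𝒳.p.IsHomLift (𝟙 e₁.left) r₂ := ‹𝒳.p.IsHomLift (𝟙 e₀.left) r₂›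
        have := sc_of_fibGrpd (grpd 𝒳) (l.left ≫ (jO (T := T) (k := k)).left ≫ f₀ true)
          (P.map l ≫ P.map jO ≫ e true)
        exact IsStronglyCartesian.ext 𝒳.p (l.left ≫ (jO (T := T) (k := k)).left ≫ f₀ true)
          (P.map l ≫ P.map jO ≫ e true) (𝟙 e₁.left) hr
      have move : ∀ x : P.obj (PT T (U.{u} k)) ⟶ ξ',
          P.map l ≫ t.1 ≫ P.map jO ≫ x = (rs l t).1 ≫ P.map l ≫ P.map jO ≫ x := fun x => by
        rw [← Category.assoc, ← rs_spec, Category.assoc]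
      have moveξ : ∀ x : P.obj (PT T (U.{u} k)) ⟶ ξ,
          P.map l ≫ t.1 ≫ P.map jO ≫ x = (rs l t).1 ≫ P.map l ≫ P.map jO ≫ x := fun x => by
        rw [← Category.assoc, ← rs_spec, Category.assoc]
      cases a <;> cases b
      · exact absurd rfl hab
      · rw [hte, moveξ] at base
        have : ρ' = ρ ≫ (rs l t).1 := hcancel _ _ hρ'
          (homLift_id_comp hρ (rs l t).2) (by rw [Category.assoc]; exact base.symm)
        change ρ ≫ P.map l ≫ P.map jO ≫ h₀.1 ≫ e' false =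
          ρ' ≫ P.map l ≫ P.map jO ≫ h₁.1 ≫ e' true
        rw [main, move, this, Category.assoc]
      · rw [hte, moveξ] at base
        have : ρ = ρ' ≫ (rs l t).1 := hcancel _ _ hρ
          (homLift_id_comp hρ' (rs l t).2) (by rw [Category.assoc]; exact base)
        change ρ ≫ P.map l ≫ P.map jO ≫ h₁.1 ≫ e' true =
          ρ' ≫ P.map l ≫ P.map jO ≫ h₀.1 ≫ e' false
        rw [main, move, this, Category.assoc]
      · exact absurd rfl hab)
  exact ⟨i.inv ≫ Φ.1 ≫ i'.hom, homLift_id_comp (@IsHomLift.lift_id_inv _ _ _ _ 𝒳.p c _ _ i hi)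
    (homLift_id_comp Φ.2 hi')⟩

end Groth.Agent.H14IsoNat
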