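import Groth.Agent.H14Stk.Glue
import Groth.Agent.H14AlgSt.Descent
import Mathlib.AlgebraicGeometry.Sites.Fpqc

/-!
# Vertical morphisms between two slice functors form a sheaf
-/

set_option autoImplicit false
set_option backward.isDefEq.respectTransparency false
set_option backward.isDefEq.respectTransparency.types false

universe u

open CategoryTheory CategoryTheory.Functor AlgebraicGeometry

noncomputable section

namespace Groth.Agent.H14IsoNat

open H14Fib H14Stk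

variable {S : Scheme.{u}} {𝒳 : AlgSt.Cat S} {T : Over S}
  (P Q R : FibCat.overCat T ⥤ᵇ 𝒳)

/-- Vertical morphisms between the values of two slice functors. -/
abbrev Vert (c : Over T) : Type u :=
  {φ : P.obj c ⟶ Q.obj c // 𝒳.p.IsHomLift (𝟙 c.left) φ}

lemma map_lift' {c' c : Over T} (m : c' ⟶ c) : 𝒳.p.IsHomLift m.left (P.map m) :=
  @BasedFunctor.preserves_isHomLift _ _ _ _ P _ _ _ _ m.left m (overCat_isHomLift m)

variable {P Q R}

lemma vert_comp_lift {c' c : Over T} (m : c' ⟶ c) (φ : Vert P Q c) :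
    𝒳.p.IsHomLift m.left (P.map m ≫ φ.1) := by
  simpa using homLift_comp' (map_lift' P m) φ.2

/-- The restriction of a vertical morphism. -/
lemma existsUnique_res (h : FibCat.IsFibGrpd 𝒳.p) {c' c : Over T} (m : c' ⟶ c) (φ : Vert P Q c) :
    ∃! φ' : Vert P Q c', φ'.1 ≫ Q.map m = P.map m ≫ φ.1 := by
  have := map_lift' Q m
  have := vert_comp_lift m φ
  obtain ⟨e, he, he'⟩ := exists_vertIso h m.left (P.map m ≫ φ.1) (Q.map m)
  refine ⟨⟨e.hom, he⟩, he', fun ψ hψ => Subtype.ext ?_⟩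
  have := sc_of_fibGrpd h m.left (Q.map m)
  have := ψ.2
  have := he
  exact IsStronglyCartesian.ext 𝒳.p m.left (Q.map m) (𝟙 c'.left) (hψ.trans he'.symm)

/-- The restriction of a vertical morphism. -/
def res (h : FibCat.IsFibGrpd 𝒳.p) {c' c : Over T} (m : c' ⟶ c) (φ : Vert P Q c) : Vert P Q c' :=
  (existsUnique_res h m φ).choose

lemma res_spec (h : FibCat.IsFibGrpd 𝒳.p) {c' c : Over T} (m : c' ⟶ c) (φ : Vert P Q c) :
    (res h m φ).1 ≫ Q.map m = P.map m ≫ φ.1 :=
  (existsUnique_res h m φ).choose_spec.1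

lemma res_eq (h : FibCat.IsFibGrpd 𝒳.p) {c' c : Over T} (m : c' ⟶ c) (φ : Vert P Q c)
    {ψ : Vert P Q c'} (hψ : ψ.1 ≫ Q.map m = P.map m ≫ φ.1) : res h m φ = ψ :=
  ((existsUnique_res h m φ).choose_spec.2 ψ hψ).symm

lemma res_id (h : FibCat.IsFibGrpd 𝒳.p) {c : Over T} (φ : Vert P Q c) : res h (𝟙 c) φ = φ := by
  refine res_eq h _ _ ?_
  rw [show Q.map (𝟙 c) = 𝟙 _ from Q.toFunctor.map_id c,
    show P.map (𝟙 c) = 𝟙 _ from P.toFunctor.map_id c, Category.comp_id, Category.id_comp]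

lemma res_comp (h : FibCat.IsFibGrpd 𝒳.p) {c'' c' c : Over T} (n : c'' ⟶ c') (m : c' ⟶ c)
    (φ : Vert P Q c) : res h (n ≫ m) φ = res h n (res h m φ) := by
  refine res_eq h _ _ ?_
  rw [show Q.map (n ≫ m) = Q.map n ≫ Q.map m from Q.toFunctor.map_comp n m,
    show P.map (n ≫ m) = P.map n ≫ P.map m from P.toFunctor.map_comp n m,
    ← Category.assoc, res_spec, Category.assoc, res_spec, Category.assoc]

/-- Composition. -/
def Vert.comp {c : Over T} (φ : Vert P Q c) (ψ : Vert Q R c) : Vert P R c :=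
  ⟨φ.1 ≫ ψ.1, homLift_id_comp φ.2 ψ.2⟩

lemma res_vertComp (h : FibCat.IsFibGrpd 𝒳.p) {c' c : Over T} (m : c' ⟶ c) (φ : Vert P Q c)
    (ψ : Vert Q R c) : res h m (φ.comp ψ) = (res h m φ).comp (res h m ψ) := by
  refine res_eq h _ _ ?_
  change ((res h m φ).1 ≫ (res h m ψ).1) ≫ _ = _ ≫ φ.1 ≫ ψ.1
  rw [Category.assoc, res_spec, ← Category.assoc, res_spec, Category.assoc]

variable {ι : Type*} {c : Over T} {d : ι → Over T} (f : ∀ i, d i ⟶ c)

/-- The family of morphisms is an fppf covering. -/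
structure IsCov : Prop where
  flat : ∀ i, Flat (f i).left.left
  lfp : ∀ i, LocallyOfFinitePresentation (f i).left.left
  surj : ∀ z : c.left.left, ∃ i, z ∈ Set.range (f i).left.left

/-- The sieve of a covering family. -/
def covSieve : Sieve c.left where
  arrows V g := ∃ i, ∃ k : V ⟶ (d i).left, k ≫ (f i).left = g
  downward_closed := by
    rintro V W g ⟨i, k, rfl⟩ w
    exact ⟨i, w ≫ k, Category.assoc _ _ _⟩

variable {f}

lemma covSieve_mem (hf : IsCov f) : covSieve f ∈ QuotSh.J Scheme.fppfPrecoverage S c.left := by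
  choose i w hw using hf.surj
  rw [QuotSh.J, GrothendieckTopology.mem_over_iff]
  refine GrothendieckTopology.superset_covering _ ?_
    (Precoverage.generate_mem_toGrothendieck (J := Scheme.fppfPrecoverage)
      (R := Presieve.ofArrows (fun z => (d (i z)).left.left) fun z => (f (i z)).left.left) ?_)
  · rw [Sieve.generate_le_iff]
    rintro W _ ⟨z⟩
    refine (Sieve.overEquiv_iff _ _).2 ⟨i z, Over.homMk (𝟙 _) ?_, Over.OverMorphism.ext ?_⟩
    · simp
    · exact Category.id_comp _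
  · rw [Scheme.fppfPrecoverage, Scheme.ofArrows_mem_precoverage_iff]
    exact ⟨fun z => ⟨z, w z, hw z⟩, fun z => ⟨hf.flat _, hf.lfp _⟩⟩

/-- An object over a member of the sieve. -/
lemma exists_member (hX : FibCat.IsFibGrpd 𝒳.p) {V : Over S} {g : V ⟶ c.left}
    (hg : (covSieve f).arrows g) {s : 𝒳.obj} (ψ : s ⟶ P.obj c) (hψ : 𝒳.p.IsHomLift g ψ) :
    ∃ (i : ι) (e : Over T) (m : e ⟶ c) (n : e ⟶ d i) (j : s ≅ P.obj e), e.left = V ∧
      n ≫ f i = m ∧ j.hom ≫ P.map m = ψ ∧ 𝒳.p.IsHomLift (𝟙 V) j.hom := by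
  obtain ⟨i, k, rfl⟩ := hg
  let e : Over T := Over.mk ((k ≫ (f i).left) ≫ c.hom)
  let m : e ⟶ c := Over.homMk (k ≫ (f i).left)
  let n : e ⟶ d i := Over.homMk k (by simp [e])
  have : 𝒳.p.IsHomLift (k ≫ (f i).left) (P.map m) := map_lift' P m
  obtain ⟨j, hj, hj'⟩ := exists_vertIso hX (k ≫ (f i).left) ψ (P.map m)
  exact ⟨i, e, m, n, j, rfl, Over.OverMorphism.ext rfl, hj', hj⟩

theorem vert_ext (h : Stk.IsStack (QuotSh.J Scheme.fppfPrecoverage S) 𝒳) (hf : IsCov f)
    {φ φ' : Vert P Q c} (he : ∀ i, res h.1 (f i) φ = res h.1 (f i) φ') : φ = φ' := by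
  refine Subtype.ext ?_
  have := φ.2
  have := φ'.2
  refine vert_ext_of_local (isPrestack_of_isStack h) (covSieve_mem hf) φ.1 φ'.1 ?_
  intro V g hg s ψ hψ
  obtain ⟨i, e, m, n, j, rfl, rfl, rfl, -⟩ := exists_member h.1 hg ψ hψ
  rw [Category.assoc, Category.assoc, show P.map (n ≫ f i) = P.map n ≫ P.map (f i) from
    P.toFunctor.map_comp n (f i), Category.assoc, Category.assoc, ← res_spec h.1, ← res_spec h.1,
    he i]

theorem exists_glue (h : Stk.IsStack (QuotSh.J Scheme.fppfPrecoverage S) 𝒳) (hf : IsCov f)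
    (φ : ∀ i, Vert P Q (d i))
    (hc : ∀ (i j : ι) (e : Over T) (n : e ⟶ d i) (n' : e ⟶ d j), n ≫ f i = n' ≫ f j →
      res h.1 n (φ i) = res h.1 n' (φ j)) :
    ∃ ψ : Vert P Q c, ∀ i, res h.1 (f i) ψ = φ i := by
  have key : ∀ {e : Over T} (i : ι) (n : e ⟶ d i),
      P.map n ≫ (φ i).1 ≫ Q.map (f i) = (res h.1 n (φ i)).1 ≫ Q.map (n ≫ f i) := by
    intro e i n
    rw [show Q.map (n ≫ f i) = Q.map n ≫ Q.map (f i) from Q.toFunctor.map_comp n (f i),
      ← Category.assoc, ← res_spec h.1, Category.assoc]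
  obtain ⟨α, hα, hα'⟩ := exists_vert_of_local (isPrestack_of_isStack h) (covSieve_mem hf)
    (a := P.obj c) (b := Q.obj c) (P.w_obj c) (Q.w_obj c)
    (fun s ψ χ => ∀ (i : ι) (e : Over T) (m : e ⟶ c) (n : e ⟶ d i) (κ : P.obj e ⟶ s),
      n ≫ f i = m → κ ≫ ψ = P.map m → κ ≫ χ = P.map n ≫ (φ i).1 ≫ Q.map (f i))
    (fun s t k ψ χ hP i e m n κ h1 h2 => by
      rw [← Category.assoc]
      exact hP i e m n (κ ≫ k) h1 (by rw [Category.assoc, h2]))
    (fun V g hg s ψ hψ => by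
      obtain ⟨i, e, m, n, j, rfl, rfl, rfl, hj⟩ := exists_member h.1 hg ψ hψ
      have hm : (n ≫ f i).left = g := by
        have h1 : 𝒳.p.IsHomLift (n ≫ f i).left (j.hom ≫ P.map (n ≫ f i)) := by
          simpa using homLift_comp' hj (map_lift' P (n ≫ f i))
        have h2 := @IsHomLift.fac _ _ _ _ 𝒳.p _ _ _ _ g _ hψ
        have h3 := @IsHomLift.fac _ _ _ _ 𝒳.p _ _ _ _ (n ≫ f i).left _ h1
        exact h3.trans h2.symm
      refine ⟨j.hom ≫ P.map n ≫ (φ i).1 ≫ Q.map (f i), ?_, fun i' e' m' n' κ h1 h2 => ?_⟩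
      · rw [← hm, key]
        simpa using homLift_comp' hj (homLift_comp' (res h.1 n (φ i)).2 (map_lift' Q (n ≫ f i)))
      · subst h1
        let r : P.obj e' ⟶ P.obj e := κ ≫ j.hom
        let k₀ : e'.left ⟶ e.left :=
          eqToHom (P.w_obj e').symm ≫ 𝒳.p.map r ≫ eqToHom (P.w_obj e)
        have hr : 𝒳.p.IsHomLift k₀ r :=
          IsHomLift.of_fac' 𝒳.p k₀ r (P.w_obj e') (P.w_obj e) (by simp [k₀])
        have h4 : r ≫ P.map (n ≫ f i) = P.map (n' ≫ f i') := by
          rw [Category.assoc]; exact h2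
        have hk : k₀ ≫ (n ≫ f i).left = (n' ≫ f i').left := by
          have h5 : 𝒳.p.IsHomLift (k₀ ≫ (n ≫ f i).left) (r ≫ P.map (n ≫ f i)) :=
            homLift_comp' hr (map_lift' P _)
          rw [h4] at h5
          exact (@IsHomLift.fac _ _ _ _ 𝒳.p _ _ _ _ _ _ h5).trans
            (@IsHomLift.fac _ _ _ _ 𝒳.p _ _ _ _ _ _ (map_lift' P (n' ≫ f i'))).symm
        let k : e' ⟶ e := Over.homMk k₀ (by
          rw [← Over.w (n ≫ f i), ← Category.assoc, hk, Over.w])
        have hk' : k ≫ n ≫ f i = n' ≫ f i' := Over.OverMorphism.ext hk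
        have hrk : r = P.map k := by
          have := map_lift' P k
          have := map_lift' P (n ≫ f i)
          have := sc_of_fibGrpd h.1 (n ≫ f i).left (P.map (n ≫ f i))
          have : 𝒳.p.IsHomLift k₀ (P.map k) := map_lift' P k
          refine IsStronglyCartesian.ext 𝒳.p (n ≫ f i).left (P.map (n ≫ f i)) k₀ (h4.trans ?_)
          rw [← hk']
          exact P.toFunctor.map_comp k (n ≫ f i)
        rw [← Category.assoc, show κ ≫ j.hom = P.map k from hrk, key, key, ← Category.assoc,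
          ← res_spec h.1 k, Category.assoc, ← res_comp,
          ← show Q.map (k ≫ n ≫ f i) = Q.map k ≫ Q.map (n ≫ f i) from
            Q.toFunctor.map_comp k (n ≫ f i), hk']
        rw [hc i i' e' (k ≫ n) n' (by rw [Category.assoc]; exact hk')])
    (fun V g hg s ψ χ χ' hψ _ _ h1 h2 => by
      obtain ⟨i, e, m, n, j, rfl, rfl, rfl, -⟩ := exists_member h.1 hg ψ hψ
      rw [← cancel_epi j.inv, h1 i e _ n j.inv rfl (by simp), h2 i e _ n j.inv rfl (by simp)])
  refine ⟨⟨α, hα⟩, fun i => res_eq h.1 _ _ ?_⟩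
  have h1 := hα' (f i).left ⟨i, 𝟙 _, Category.id_comp _⟩ (P.map (f i)) (map_lift' P (f i)) i (d i)
    (f i) (𝟙 _) (𝟙 _) (Category.id_comp _) (Category.id_comp _)
  rw [Category.id_comp, show P.map (𝟙 (d i)) = 𝟙 _ from P.toFunctor.map_id _,
    Category.id_comp] at h1
  exact h1.symm

end Groth.Agent.H14IsoNat
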