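import Groth.Agent.H14IsoNat.Clean

/-!
# Lifts to a representing space as lifts in the fibre product
-/

set_option autoImplicit false
set_option backward.isDefEq.respectTransparency false
set_option backward.isDefEq.respectTransparency.types false

universe u

open CategoryTheory CategoryTheory.Functor Opposite AlgebraicGeometry CategoryTheory.Limits

noncomputable section

namespace Groth.Agent.H14IsoNat

open H14Fib H14Stk H14AlgSt

variable {S : Scheme.{u}} {𝒜 ℬ : AlgSt.Cat S} {U : Over S} (d : 𝒜 ⥤ᵇ ℬ)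
  (z : FibCat.overCat U ⥤ᵇ ℬ) {F : AlgSp.Space S} (e : AlgSt.ofSp F.obj ⥤ᵇ FibCat.fp z d)

lemma secHom_of_comp' {T'' : Over S} {k : T'' ⟶ U} (a : (AlgSp.yon S).obj T'' ⟶ F.obj)
    (h : a ≫ AlgSt.spMapOfOver (BasedFunctor.comp e (FibCat.fpFst z d)) = (AlgSp.yon S).map k) :
    AlgSt.secHom (BasedFunctor.comp e (FibCat.fpFst z d))
      ⟨T'', (AlgSp.J S).uliftYonedaEquiv a⟩ = k := by
  have h' := congrArg (AlgSp.J S).uliftYonedaEquiv h
  rw [GrothendieckTopology.uliftYonedaEquiv_comp] at h'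
  exact (congrArg ULift.down h').trans (Category.id_comp k)

lemma comp_of_secHom' {T'' : Over S} {k : T'' ⟶ U} (x : F.obj.obj.obj (op T''))
    (h : AlgSt.secHom (BasedFunctor.comp e (FibCat.fpFst z d)) ⟨T'', x⟩ = k) :
    (AlgSp.J S).uliftYonedaEquiv.symm x ≫
      AlgSt.spMapOfOver (BasedFunctor.comp e (FibCat.fpFst z d)) = (AlgSp.yon S).map k := by
  apply (AlgSp.J S).uliftYonedaEquiv.injective
  rw [GrothendieckTopology.uliftYonedaEquiv_comp, Equiv.apply_symm_apply, AlgSt.spMapOfOver_app, h]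
  exact congrArg ULift.up (Category.id_comp k).symm

/-- Objects over a point come from sections. -/
lemma exists_sec' (he : FibCat.IsEquivOver e) {T'' : Over S} (o : (FibCat.fp z d).obj)
    (k : T'' ⟶ U) (ho : o.obj.fst = Over.mk k) :
    ∃ (x : F.obj.obj.obj (op T'')) (i : e.obj ⟨T'', x⟩ ≅ o),
      (FibCat.fp z d).p.IsHomLift (𝟙 T'') i.hom ∧
      AlgSt.secHom (BasedFunctor.comp e (FibCat.fpFst z d)) ⟨T'', x⟩ = k := by
  obtain ⟨ξ, v, hd⟩ := essSurjOver_of_isEquivOver he o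
  have hb : (FibCat.fp z d).p.obj o = T'' := congrArg Comma.left ho
  have hξ : ξ.base = T'' := (EssSurjOver.obj_eq v.hom).trans hb
  obtain ⟨B, x⟩ := ξ
  cases hξ
  have hd' : (FibCat.fp z d).p.IsHomLift (𝟙 B) v.hom :=
    lift_id_congr (𝒲 := FibCat.fp z d) hb v.hom hd
  refine ⟨x, v, hd', ?_⟩
  have h1 : (v.hom.hom.fst ≫ eqToHom ho).left ≫ k = (e.obj ⟨B, x⟩).obj.fst.hom :=
    Over.w (v.hom.hom.fst ≫ eqToHom ho)
  have h2 : (v.hom.hom.fst ≫ eqToHom ho).left =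
      eqToHom ((BasedFunctor.comp e (FibCat.fpFst z d)).w_obj _) := by
    have h3 : (FibCat.overCat U).p.IsHomLift (𝟙 B) v.hom.hom.fst :=
      (fp_isHomLift_iff _ _).1 hd'
    have h4 : v.hom.hom.fst.left = _ :=
      @IsHomLift.fac' _ _ _ _ (FibCat.overCat U).p _ _ _ _ (𝟙 B) v.hom.hom.fst h3
    have h5 : ∀ {a b : Over U} (h : a = b), (eqToHom h).left = eqToHom (congrArg Comma.left h) := by
      intro a b h
      subst h
      rfl
    rw [Over.comp_left, h4, h5 ho]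
    simp
  rw [h2] at h1
  change eqToHom _ ≫ (e.obj ⟨B, x⟩).obj.fst.hom = k
  rw [← h1]
  simp

/-- The object given by a section over a point, normalised. -/
lemma exists_normal {T'' : Over S} (x : F.obj.obj.obj (op T'')) (k : T'' ⟶ U)
    (hk : AlgSt.secHom (BasedFunctor.comp e (FibCat.fpFst z d)) ⟨T'', x⟩ = k) :
    ∃ (v : (e.obj ⟨T'', x⟩).obj.fst ≅ (Over.mk k : (FibCat.overCat U).obj))
      (μ : z.obj (Over.mk k) ≅ d.obj (e.obj ⟨T'', x⟩).obj.snd),
      (FibCat.overCat U).p.IsHomLift (𝟙 T'') v.hom ∧ ℬ.p.IsHomLift (𝟙 T'') μ.hom ∧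
        z.map v.hom ≫ μ.hom = (e.obj ⟨T'', x⟩).obj.iso.hom := by
  let o := e.obj ⟨T'', x⟩
  have ho : o.obj.fst.left = T'' := (BasedFunctor.comp e (FibCat.fpFst z d)).w_obj _
  let v : o.obj.fst ≅ (Over.mk k : (FibCat.overCat U).obj) :=
    Over.isoMk (eqToIso ho) (by
      change eqToHom ho ≫ k = o.obj.fst.hom
      rw [← hk]
      simp [AlgSt.secHom, o]
      rfl)
  have hv : (FibCat.overCat U).p.IsHomLift (𝟙 T'') v.hom :=
    IsHomLift.of_fac' _ _ _ ho rfl (by simp [v]; rfl)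
  have h1 : ℬ.p.IsHomLift (𝟙 T'') (z.map v.inv) :=
    @BasedFunctor.preserves_isHomLift _ _ _ _ z _ _ _ _ (𝟙 T'') v.inv
      (@IsHomLift.lift_id_inv _ _ _ _ (FibCat.overCat U).p _ _ _ v hv)
  refine ⟨v, z.toFunctor.mapIso v.symm ≪≫ o.obj.iso, hv,
    homLift_id_comp h1 (fp_iso_isHomLift o (ho : (FibCat.fp z d).p.obj o = T'')), ?_⟩
  change z.map v.hom ≫ z.map v.inv ≫ o.obj.iso.hom = o.obj.iso.hom
  exact (z.toFunctor.mapIso v).hom_inv_id_assoc _

/-- Lifts of sections are lifts of objects. -/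
theorem lift_iff_fp (he : FibCat.IsEquivOver e) {K A : Over S} (j : K ⟶ A) (a : A ⟶ U) :
    (∀ t : (AlgSp.yon S).obj K ⟶ F.obj,
      t ≫ AlgSt.spMapOfOver (BasedFunctor.comp e (FibCat.fpFst z d)) = (AlgSp.yon S).map (j ≫ a) →
      ∃ l : (AlgSp.yon S).obj A ⟶ F.obj, (AlgSp.yon S).map j ≫ l = t ∧
        l ≫ AlgSt.spMapOfOver (BasedFunctor.comp e (FibCat.fpFst z d)) = (AlgSp.yon S).map a) ↔
      ∀ (b : 𝒜.obj) (μ : z.obj (Over.mk (j ≫ a)) ≅ d.obj b), ℬ.p.IsHomLift (𝟙 K) μ.hom →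
        ∃ (bA : 𝒜.obj) (ν : z.obj (Over.mk (𝟙 A ≫ a)) ≅ d.obj bA) (m : b ⟶ bA),
          ℬ.p.IsHomLift (𝟙 A) ν.hom ∧ 𝒜.p.IsHomLift j m ∧
            z.map ((AlgSt.overMap a).map (toTop (Over.mk j))) ≫ ν.hom = μ.hom ≫ d.map m := by
  let n : (Over.mk (j ≫ a) : (FibCat.overCat U).obj) ⟶ Over.mk (𝟙 A ≫ a) :=
    (AlgSt.overMap a).map (toTop (Over.mk j))
  have hn : n.left = j := by
    change (toTop (Over.mk j)).left = j
    simp [toTop]
  have hn' : (FibCat.overCat U).p.IsHomLift j n :=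
    IsHomLift.of_fac' _ _ _ rfl rfl (by simp; exact hn)
  constructor
  · intro H b μ hμ
    let o : (FibCat.fp z d).obj := fpObj (Over.mk (j ≫ a)) b μ rfl hμ
    obtain ⟨x, i, hi, hx⟩ := exists_sec' d z e he o (j ≫ a) rfl
    obtain ⟨l, hl, hl'⟩ := H _ (comp_of_secHom' d z e x hx)
    let w := (AlgSp.J S).uliftYonedaEquiv l
    have hw : AlgSt.secHom (BasedFunctor.comp e (FibCat.fpFst z d)) ⟨A, w⟩ = 𝟙 A ≫ a :=
      secHom_of_comp' d z e l (hl'.trans (by rw [Category.id_comp]))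
    obtain ⟨v, ν, hv, hν, hvν⟩ := exists_normal d z e w _ hw
    have e2 : x = F.obj.obj.map j.op w := by
      have := congrArg (AlgSp.J S).uliftYonedaEquiv hl
      rw [Equiv.apply_symm_apply] at this
      exact this.symm.trans
        (GrothendieckTopology.uliftYonedaEquiv_naturality.{u + 1} (J := AlgSp.J S) (F := F.obj) l j).symm
    let m₀ : (⟨K, x⟩ : (AlgSt.ofSp F.obj).obj) ⟶ ⟨A, w⟩ := ⟨j, e2.symm⟩
    have hm₀ : (AlgSt.ofSp F.obj).p.IsHomLift j m₀ := IsHomLift.map (AlgSt.ofSp F.obj).p m₀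
    let ψ := i.inv ≫ e.map m₀
    have hψ : (FibCat.fp z d).p.IsHomLift j ψ :=
      vert_then_lift (@IsHomLift.lift_id_inv _ _ _ _ (FibCat.fp z d).p _ _ _ i hi)
        (@BasedFunctor.preserves_isHomLift _ _ _ _ e _ _ _ _ j m₀ hm₀)
    have hμ' : (FibCat.overCat U).p.IsHomLift j (ψ.hom.fst ≫ v.hom) :=
      lift_then_vert ((fp_isHomLift_iff _ _).1 hψ) hv
    have he1 : ψ.hom.fst ≫ v.hom = n :=
      Over.OverMorphism.ext ((left_of_lift (w' := j ≫ a) (w := 𝟙 A ≫ a) _ hμ').1.trans hn.symm)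
    have hsnd : 𝒜.p.IsHomLift j ψ.hom.snd :=
      @BasedFunctor.preserves_isHomLift _ _ _ _ (FibCat.fpSnd z d) _ _ _ _ j ψ hψ
    refine ⟨_, ν, ψ.hom.snd, hν, hsnd, ?_⟩
    change z.map n ≫ ν.hom = _
    have hw2 : z.map ψ.hom.fst ≫ (e.obj ⟨A, w⟩).obj.iso.hom = μ.hom ≫ d.map ψ.hom.snd := ψ.hom.w
    rw [← he1, ← hw2, ← hvν]
    exact (congrArg (· ≫ ν.hom) (z.toFunctor.map_comp _ _)).trans (Category.assoc _ _ _)
  · intro H t ht
    let x := (AlgSp.J S).uliftYonedaEquiv t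
    obtain ⟨v, μ, hv, hμ, hvμ⟩ := exists_normal d z e x _ (secHom_of_comp' d z e t ht)
    obtain ⟨bA, ν, m, hν, hm, hc⟩ := H _ μ hμ
    let oA : (FibCat.fp z d).obj := fpObj (Over.mk (𝟙 A ≫ a)) bA ν rfl hν
    obtain ⟨w, i, hi, hw⟩ := exists_sec' d z e he oA _ rfl
    let l : (AlgSp.yon S).obj A ⟶ F.obj := (AlgSp.J S).uliftYonedaEquiv.symm w
    refine ⟨l, ?_, (comp_of_secHom' d z e w hw).trans
      (congrArg (AlgSp.yon S).map (Category.id_comp a))⟩
    let f₁ : (e.obj ⟨K, x⟩).obj.fst ⟶ oA.obj.fst := v.hom ≫ n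
    let M : e.obj ⟨K, x⟩ ⟶ oA := fpHom f₁ m (by
      change z.map (v.hom ≫ n) ≫ ν.hom = (e.obj ⟨K, x⟩).obj.iso.hom ≫ d.map m
      rw [← hvμ, Category.assoc, ← hc]
      exact (congrArg (· ≫ ν.hom) (z.toFunctor.map_comp _ _)).trans (Category.assoc _ _ _))
    have hM : (FibCat.fp z d).p.IsHomLift j M :=
      (fp_isHomLift_iff _ _).2 (vert_then_lift hv hn')
    have := isEquivalence_of_isEquivOver he
    let m' := e.toFunctor.preimage (M ≫ i.inv)
    have hMi : (FibCat.fp z d).p.IsHomLift j (M ≫ i.inv) :=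
      lift_then_vert hM (@IsHomLift.lift_id_inv _ _ _ _ (FibCat.fp z d).p _ _ _ i hi)
    have hm' : (AlgSt.ofSp F.obj).p.IsHomLift j m' := by
      refine (BasedFunctor.isHomLift_iff e _ _).1 ?_
      rwa [e.toFunctor.map_preimage]
    have hh : m'.hom = j := by
      have : (AlgSt.ofSp F.obj).p.map m' = _ :=
        @IsHomLift.fac' _ _ _ _ (AlgSt.ofSp F.obj).p _ _ _ _ j m' hm'
      simpa using this
    have h3 := m'.map_sec
    rw [hh] at h3
    apply (AlgSp.J S).uliftYonedaEquiv.injective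
    refine ((GrothendieckTopology.uliftYonedaEquiv_naturality.{u + 1} (J := AlgSp.J S)
      (F := F.obj) l j).symm.trans (congrArg _ (Equiv.apply_symm_apply _ _))).trans ?_
    exact h3

end Groth.Agent.H14IsoNat
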