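import Groth.Agent.H14IsoNat.SliceIso
import Groth.Agent.H14Stk.Extend
import Groth.Agent.H14Stk.Gerbe2

/-!
# Neutral gerbes with commutative automorphism groups are determined by their presheaves of classes
-/

set_option autoImplicit false
set_option backward.isDefEq.respectTransparency false
set_option backward.isDefEq.respectTransparency.types false

universe u

open CategoryTheory CategoryTheory.Functor CategoryTheory.Limits AlgebraicGeometry

noncomputable section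

namespace Groth.Agent.H14IsoNat

open H14Fib H14Stk Axes

variable {S : Scheme.{u}} {𝒳 𝒴 : AlgSt.Cat S}

local notation "K₀" => Scheme.fppfPrecoverage

section Restrict

variable {T T' : Over S} (g : T' ⟶ T) [hX : SepStack 𝒳] [hY : SepStack 𝒴] {φ : IsoNat.FIso 𝒳 𝒴}

/-- The correspondence of pairs is compatible with a change of the base. -/
theorem pair_base {Q : FibCat.overCat T ⥤ᵇ 𝒳} {Q' : FibCat.overCat T ⥤ᵇ 𝒴}
    {x : Vert Q Q (Over.mk (𝟙 T))} {x' : Vert Q' Q' (Over.mk (𝟙 T))}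
    (h : φ.toEquiv (PT T (Y.{u} 2)).left (twCls Q ![x, 1]) = twCls Q' ![x', 1]) :
    φ.toEquiv (PT T' (Y.{u} 2)).left (twCls (bP g Q) ![bRs g (bTop g) x, 1]) =
      twCls (bP g Q') ![bRs g (bTop g) x', 1] := by
  let g₀ := (PTb g (Y.{u} 2)).left
  have := isFibered_of_fibGrpd hX.isStack.1
  obtain ⟨w, χ, hχ⟩ := isFibered_exists_sc 𝒳.p (twObj Q ![x, 1]).2 g₀
  have hχ' : 𝒳.p.IsHomLift g₀ χ := inferInstance
  let z : 𝒳.p.Fiber (PT T' (Y.{u} 2)).left := ⟨w, IsHomLift.domain_eq 𝒳.p g₀ χ⟩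
  obtain ⟨y, hy⟩ := Quotient.exists_rep (φ.toEquiv _ (IsoNat.cls z))
  obtain ⟨b, hb⟩ := exists_hom φ g₀ (x' := z) (x := twObj Q ![x, 1]) χ hχ' (y' := y)
    (y := twObj Q' ![x', 1]) hy.symm h
  have hx' := isTw_base g (isTw_twObj ![x, 1]) χ hχ'
  have hy' := isTw_base g (isTw_twObj ![x', 1]) b hb
  rw [bRs_tw] at hx' hy'
  have e : ∀ {𝒵 : AlgSt.Cat S} [SepStack 𝒵] {R : FibCat.overCat T ⥤ᵇ 𝒵}
      (a : Vert R R (Over.mk (𝟙 T))),
      (fun i => bRs g (bTop g) (![a, 1] i)) = ![bRs g (bTop g) a, 1] :=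
    fun a => funext fun i => by fin_cases i <;> simp
  rw [e] at hx' hy'
  rw [← eq_twCls z hx', ← eq_twCls y hy']
  exact hy.symm

end Restrict

variable {T₀ : Over S}

lemma vert_congr {𝒲 : AlgSt.Cat S} {U V : Over S} (h : U = V) {a b : 𝒲.obj} (φ : a ⟶ b)
    (hl : 𝒲.p.IsHomLift (𝟙 U) φ) : 𝒲.p.IsHomLift (𝟙 V) φ := by
  subst h
  exact hl

/-- The slice at an object of a slice. -/
abbrev sl (P : FibCat.overCat T₀ ⥤ᵇ 𝒳) (c : Over T₀) : FibCat.overCat c.left ⥤ᵇ 𝒳 := bP c.hom P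

/-- The top of the slice at `c`. -/
def topIso (c : Over T₀) : (Over.map c.hom).obj (Over.mk (𝟙 c.left)) ≅ c :=
  Over.isoMk (Iso.refl _) (by simp)

variable [hX : SepStack 𝒳] (P : FibCat.overCat T₀ ⥤ᵇ 𝒳)

/-- Automorphisms at `c` as automorphisms of the top of the slice at `c`. -/
def atTop (c : Over T₀) : Vert P P c ≃* Vert (sl P c) (sl P c) (Over.mk (𝟙 c.left)) :=
  MulEquiv.ofBijective (bRs c.hom (topIso c).hom) ⟨fun a b e => by
      have e' : rs (topIso c).hom a = rs (topIso c).hom b := Subtype.ext (congrArg Subtype.val e :)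
      have := congrArg (rs (topIso c).inv) e'
      rwa [← rs_comp, ← rs_comp, Iso.inv_hom_id, rs_id, rs_id] at this,
    fun a => by
      let a' : Vert P P ((Over.map c.hom).obj (Over.mk (𝟙 c.left))) := ⟨a.1, a.2⟩
      refine ⟨rs (topIso c).inv a', Subtype.ext ?_⟩
      change (rs (topIso c).hom (rs (topIso c).inv a')).1 = a.1
      rw [← rs_comp, Iso.hom_inv_id, rs_id]⟩

/-- The identity between the two descriptions of an object over a smaller base. -/
def slHom {c' c : Over T₀} (n : c' ⟶ c) (d : Over c'.left) :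
    (Over.map c.hom).obj ((Over.map n.left).obj d) ≅ (Over.map c'.hom).obj d :=
  Over.isoMk (Iso.refl _) (by
    change 𝟙 _ ≫ d.hom ≫ c'.hom = (d.hom ≫ n.left) ≫ c.hom
    rw [Category.id_comp, Category.assoc, Over.w n])

/-- The comparison of the slices along a morphism. -/
def slIso {c' c : Over T₀} (n : c' ⟶ c) : SliceIso (bP n.left (sl P c)) (sl P c') where
  app d := P.toFunctor.mapIso (slHom n d)
  lift d := map_lift' P (slHom n d).hom
  nat {d d'} m := by
    change P.map _ ≫ P.map _ = P.map _ ≫ P.map _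
    refine (P.toFunctor.map_comp _ _).symm.trans ((congrArg P.toFunctor.map ?_).trans
      (P.toFunctor.map_comp _ _))
    exact Over.OverMorphism.ext ((Category.comp_id _).trans (Category.id_comp _).symm)

lemma rs_bP {U V : Over S} (f : V ⟶ U) (Q : FibCat.overCat U ⥤ᵇ 𝒳) {d' d : Over V}
    (m : d' ⟶ d) (a : Vert (bP f Q) (bP f Q) d) :
    (rs m a).1 = (rs (P := Q) ((Over.map f).map m)
      (⟨a.1, a.2⟩ : Vert Q Q ((Over.map f).obj d))).1 :=
  congrArg Subtype.val (rs_eq (P := bP f Q) m a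
    (ψ := ⟨(rs (P := Q) ((Over.map f).map m)
      (⟨a.1, a.2⟩ : Vert Q Q ((Over.map f).obj d))).1,
      (rs (P := Q) ((Over.map f).map m) (⟨a.1, a.2⟩ : Vert Q Q ((Over.map f).obj d))).2⟩)
    (rs_spec (P := Q) ((Over.map f).map m) (⟨a.1, a.2⟩ : Vert Q Q ((Over.map f).obj d))))

lemma atTop_rs {c' c : Over T₀} (n : c' ⟶ c) (x : Vert P P c) :
    atTop P c' (rs n x) =
      (slIso P n).conj _ (bRs n.left (bTop n.left) (atTop P c x)) := by
  refine Subtype.ext ?_
  let k := slHom n (Over.mk (𝟙 c'.left))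
  let z : Vert P P ((Over.map c.hom).obj (Over.mk (𝟙 c.left))) := rs (topIso c).hom x
  change (rs (topIso c').hom (rs n x)).1 =
    P.map k.inv ≫ (rs (P := sl P c) (bTop n.left) (atTop P c x)).1 ≫ P.map k.hom
  rw [rs_bP]
  change _ = P.map k.inv ≫ (rs ((Over.map c.hom).map (bTop n.left)) z).1 ≫ P.map k.hom
  rw [← rs_comp, ← rs_comp]
  have e : k.inv ≫ ((Over.map c.hom).map (bTop n.left) ≫ (topIso c).hom) =
      (topIso c').hom ≫ n := Over.OverMorphism.ext (by
    have hb : (bTop n.left).left = 𝟙 _ ≫ n.left := by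
      have := Over.w (bTop n.left)
      simpa using this
    simp [k, slHom, topIso, hb])
  rw [← e, rs_comp k.inv]
  have h := rs_spec k.inv (rs ((Over.map c.hom).map (bTop n.left) ≫ (topIso c).hom) x)
  rw [← Category.assoc, ← h, Category.assoc]
  refine (Category.comp_id _).symm.trans (congrArg (_ ≫ ·) ?_)
  exact (P.toFunctor.map_id _).symm.trans
    ((congrArg P.toFunctor.map k.inv_hom_id.symm).trans (P.toFunctor.map_comp _ _))

variable [hY : SepStack 𝒴] (φ : IsoNat.FIso 𝒳 𝒴) {P}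
variable {P' : FibCat.overCat T₀ ⥤ᵇ 𝒴}

/-- A pair of automorphisms at `c` correspond. -/
def PairAt (c : Over T₀) (x : Vert P P c) (x' : Vert P' P' c) : Prop :=
  φ.toEquiv (PT c.left (Y.{u} 2)).left (twCls (sl P c) ![atTop P c x, 1]) =
    twCls (sl P' c) ![atTop P' c x', 1]

variable {φ}

lemma pairAt_rs {c' c : Over T₀} (n : c' ⟶ c) {x : Vert P P c} {x' : Vert P' P' c}
    (h : PairAt φ c x x') : PairAt φ c' (rs n x) (rs n x') := by
  have h1 := pair_base n.left h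
  rw [(slIso P n).cls_twist, (slIso P' n).cls_twist] at h1
  have e : ∀ {𝒵 : AlgSt.Cat S} [SepStack 𝒵] {R : FibCat.overCat T₀ ⥤ᵇ 𝒵} (a : Vert R R c),
      (fun i => (slIso R n).conj _ (![bRs n.left (bTop n.left) (atTop R c a), 1] i)) =
        ![atTop R c' (rs n a), 1] :=
    fun a => funext fun i => by fin_cases i <;> simp [atTop_rs]
  rw [e, e] at h1
  exact h1

lemma exists_mulEquivAt (h : Corresp φ P P') (c : Over T₀)
    (hc : ∀ g g' : Vert P P c, g * g' = g' * g) :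
    ∃ M : Vert P P c ≃* Vert P' P' c, ∀ x x', PairAt φ c x x' ↔ M x = x' := by
  obtain ⟨M, hM⟩ := exists_mulEquiv_spec (φ := φ) (P := sl P c) (P' := sl P' c)
    (fun d => h ((AlgSt.overMap c.hom).obj d))
    (fun g g' => (atTop P c).symm.injective (by rw [map_mul, map_mul]; exact hc _ _))
  refine ⟨(atTop P c).trans (M.trans (atTop P' c).symm), fun x x' => ?_⟩
  rw [PairAt, hM, MulEquiv.trans_apply, MulEquiv.trans_apply, MulEquiv.symm_apply_eq]

omit hY in
lemma isGerbe_of_locCovers {P : FibCat.overCat T₀ ⥤ᵇ 𝒳} (hT₀ : IsTerminal T₀)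
    (hloc : LocCovers (QuotSh.J K₀ S) (fun c : Over T₀ => P.obj c)) :
    Gerb.IsGerbe (QuotSh.J K₀ S) 𝒳 := by
  refine ⟨hX.isStack, fun U => ⟨⊤, (QuotSh.J K₀ S).top_mem _, fun V f _ => ?_⟩,
    fun x x' b hb => ?_⟩
  · let c : Over T₀ := Over.mk (hT₀.from V)
    refine ⟨P.obj c, eqToHom ((P.w_obj c : _)) ≫ f, ?_⟩
    exact IsHomLift.of_fac' (FibCat.selfOver (Over S)).p f _ (P.w_obj c) rfl (by simp; rfl)
  · have hxx : 𝒳.p.obj x' = 𝒳.p.obj x :=
      @IsHomLift.codomain_eq _ _ _ _ (FibCat.selfOver (Over S)).p _ _ _ _ (𝟙 (𝒳.p.obj x)) b hb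
    obtain ⟨R, hR, hl⟩ := hloc x
    obtain ⟨R', hR', hl'⟩ := hloc x'
    refine ⟨R ⊓ R'.pullback (eqToHom hxx.symm), (QuotSh.J K₀ S).intersection_covering hR
      ((QuotSh.J K₀ S).pullback_stable _ hR'), fun V f hf => ?_⟩
    obtain ⟨c, m, hm⟩ := hl f hf.1
    obtain ⟨c', m', hm'⟩ := hl' (f ≫ eqToHom hxx.symm) hf.2
    have hcc : c.left = c'.left :=
      ((P.w_obj c).symm.trans (IsHomLift.domain_eq 𝒳.p f m)).trans
        ((IsHomLift.domain_eq 𝒳.p (f ≫ eqToHom hxx.symm) m').symm.trans (P.w_obj c'))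
    let n : c ⟶ c' := Over.homMk (eqToHom hcc) (hT₀.hom_ext _ _)
    have hn : 𝒳.p.IsHomLift (𝟙 V) (P.map n) := by
      have h0 : c.left = V := (P.w_obj c).symm.trans (IsHomLift.domain_eq 𝒳.p f m)
      exact IsHomLift.of_fac' 𝒳.p _ _ ((P.w_obj c).trans h0) ((P.w_obj c').trans (hcc.symm.trans h0))
        (by
          have h1 := @IsHomLift.fac' _ _ _ _ 𝒳.p _ _ _ _ n.left (P.map n) (map_lift' P n)
          subst h0
          simpa [n] using h1)
    refine ⟨P.obj c, m, P.map n ≫ m', hm, ?_, ?_⟩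
    · have := homLift_comp' hn hm'
      have h2 : 𝒳.p.IsHomLift (f ≫ eqToHom hxx.symm) (P.map n ≫ m') := by simpa using this
      refine IsHomLift.of_fac' 𝒳.p f _ (IsHomLift.domain_eq 𝒳.p (f ≫ eqToHom hxx.symm) (P.map n ≫ m'))
        hxx ?_
      rw [@IsHomLift.fac' _ _ _ _ 𝒳.p _ _ _ _ (f ≫ eqToHom hxx.symm) _ h2]
      simp
    · change 𝒳.p.map m ≫ b = 𝒳.p.map (P.map n ≫ m')
      rw [@IsHomLift.fac' _ _ _ _ 𝒳.p _ _ _ _ f m hm,
        @IsHomLift.fac' _ _ _ _ 𝒳.p _ _ _ _ (f ≫ eqToHom hxx.symm) _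
          (by simpa using homLift_comp' hn hm' : 𝒳.p.IsHomLift (f ≫ eqToHom hxx.symm) (P.map n ≫ m')),
        show b = eqToHom hxx.symm from
          (@IsHomLift.fac' _ _ _ _ (FibCat.selfOver (Over S)).p _ _ _ _ (𝟙 (𝒳.p.obj x)) b hb).trans
            (by simp)]
      simp

variable (φ) in
/-- Neutral gerbes with commutative automorphism groups and the same classes are equivalent. -/
theorem exists_equiv_of_neutral (hT₀ : IsTerminal T₀) (h : Corresp φ P P')
    (hc : ∀ (c : Over T₀) (g g' : Vert P P c), g * g' = g' * g)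
    (hloc : LocCovers (QuotSh.J K₀ S) (fun c : Over T₀ => P.obj c))
    (hloc' : LocCovers (QuotSh.J K₀ S) (fun c : Over T₀ => P'.obj c)) :
    ∃ e : 𝒳 ⥤ᵇ 𝒴, FibCat.IsEquivOver e := by
  choose M hM using fun c => exists_mulEquivAt h c (hc c)
  have nat : ∀ {c' c : Over T₀} (n : c' ⟶ c) (x : Vert P P c), rs n (M c x) = M c' (rs n x) :=
    fun {c' c} n x => ((hM c' _ _).1 (pairAt_rs n ((hM c _ _).2 rfl))).symm
  have hX' := hX.isStack.1
  have hY' := hY.isStack.1
  -- morphisms between members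
  let bmap : ∀ {c c' : Over T₀} (_ : P.obj c ⟶ P.obj c'), c ⟶ c' := fun {c c'} α =>
    Over.homMk (eqToHom (P.w_obj c).symm ≫ 𝒳.p.map α ≫ eqToHom (P.w_obj c')) (hT₀.hom_ext _ _)
  have hbl : ∀ {c c' : Over T₀} (α : P.obj c ⟶ P.obj c'), 𝒳.p.IsHomLift (bmap α).left α :=
    fun {c c'} α => IsHomLift.of_fac' 𝒳.p _ α (P.w_obj c) (P.w_obj c') (by simp [bmap])
  have huniq : ∀ {c c' : Over T₀} (α : P.obj c ⟶ P.obj c') (n : c ⟶ c'),
      𝒳.p.IsHomLift n.left α → bmap α = n := by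
    intro c c' α n hn
    refine Over.OverMorphism.ext ?_
    rw [@IsHomLift.fac _ _ _ _ 𝒳.p _ _ _ _ n.left α hn]
    simp [bmap]
  have hvx : ∀ {c c' : Over T₀} (α : P.obj c ⟶ P.obj c'),
      ∃! v : Vert P P c, v.1 ≫ P.map (bmap α) = α := by
    intro c c' α
    have := hbl α
    have := map_lift' P (bmap α)
    obtain ⟨v, hv, hve⟩ := exists_vertIso hX' (bmap α).left α (P.map (bmap α))
    refine ⟨⟨v.hom, hv⟩, hve, fun w hw => Subtype.ext ?_⟩
    have := w.2
    have := sc_of_fibGrpd hX' (bmap α).left (P.map (bmap α))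
    exact IsStronglyCartesian.ext 𝒳.p (bmap α).left (P.map (bmap α)) (𝟙 c.left) (hw.trans hve.symm)
  let vx : ∀ {c c' : Over T₀} (_ : P.obj c ⟶ P.obj c'), Vert P P c :=
    fun α => (hvx α).exists.choose
  have vxe : ∀ {c c' : Over T₀} (α : P.obj c ⟶ P.obj c'), (vx α).1 ≫ P.map (bmap α) = α :=
    fun α => (hvx α).exists.choose_spec
  let Φ : HomMap (fun c : Over T₀ => P.obj c) (fun c : Over T₀ => P'.obj c) :=
    { map := fun {c c'} α => (M c (vx α)).1 ≫ P'.map (bmap α)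
      lift := fun {c c'} α V W g hg => by
        obtain rfl : c.left = V := (P.w_obj c).symm.trans (@IsHomLift.domain_eq _ _ _ _ 𝒳.p _ _ _ _ g α hg)
        obtain rfl : c'.left = W :=
          (P.w_obj c').symm.trans (@IsHomLift.codomain_eq _ _ _ _ 𝒳.p _ _ _ _ g α hg)
        have e : (bmap α).left = g := by
          rw [@IsHomLift.fac _ _ _ _ 𝒳.p _ _ _ _ g α hg]
          simp [bmap]
        rw [← e]
        exact id_comp_lift (M c (vx α)).2 (map_lift' P' _)
      map_id := fun c => by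
        have e : bmap (𝟙 (P.obj c)) = 𝟙 c := huniq _ _ (IsHomLift.id (P.w_obj c))
        have e1 : vx (𝟙 (P.obj c)) = 1 := (hvx (𝟙 (P.obj c))).unique (vxe _) (by
          rw [e, vert_one, Category.id_comp]
          exact P.toFunctor.map_id _)
        rw [e1, map_one, vert_one, Category.id_comp, e]
        exact P'.toFunctor.map_id _
      map_comp := fun {c c' c''} α β => by
        have e : bmap (α ≫ β) = bmap α ≫ bmap β := huniq _ _ (homLift_comp' (hbl α) (hbl β))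
        have e1 : vx (α ≫ β) = vx α * rs (bmap α) (vx β) := (hvx (α ≫ β)).unique (vxe _) (by
          rw [e, vert_mul, show P.map (bmap α ≫ bmap β) = P.map (bmap α) ≫ P.map (bmap β) from
            P.toFunctor.map_comp _ _, Category.assoc, ← Category.assoc (rs (bmap α) (vx β)).1,
            rs_spec, Category.assoc, vxe, ← Category.assoc, vxe])
        rw [e1, map_mul, ← nat, e, vert_mul, show P'.map (bmap α ≫ bmap β) =
          P'.map (bmap α) ≫ P'.map (bmap β) from P'.toFunctor.map_comp _ _]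
        simp only [Category.assoc]
        rw [← Category.assoc (rs (bmap α) (M c' (vx β))).1, rs_spec, Category.assoc] }
  have hpull : PullStable (fun c : Over T₀ => P.obj c) := by
    intro c V W g hW
    obtain rfl : c.left = W := (P.w_obj c).symm.trans hW
    exact ⟨Over.mk (g ≫ c.hom), P.map (Over.homMk g rfl : Over.mk (g ≫ c.hom) ⟶ c),
      map_lift' P (Over.homMk g rfl : Over.mk (g ≫ c.hom) ⟶ c)⟩
  obtain ⟨e, v, hv, hve⟩ := exists_extension hX' hY.isStack Φ hpull hloc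
  refine ⟨e, isEquivOver_of_autMap_bijective (isGerbe_of_locCovers hT₀ hloc)
    (isGerbe_of_locCovers hT₀ hloc') e (s := P.obj (topObj T₀))
    (hT₀.ofIso (eqToIso (P.w_obj (topObj T₀)).symm)) fun x m => ?_⟩
  -- reduce to a member
  let c : Over T₀ := Over.mk (hT₀.from (𝒳.p.obj x))
  let n : c ⟶ topObj T₀ := toTop c
  let g : 𝒳.p.obj x ⟶ T₀ := hT₀.from _
  have hm : 𝒳.p.IsHomLift g m :=
    IsHomLift.of_fac' 𝒳.p g m rfl (P.w_obj _) (by
      rw [← cancel_mono (eqToHom (P.w_obj (topObj T₀)))]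
      exact hT₀.hom_ext _ _)
  have hn : 𝒳.p.IsHomLift g (P.map n) := map_lift' P n
  obtain ⟨ι, hι, -⟩ := exists_vertIso hX' g m (P.map n)
  have hι' : 𝒳.p.IsHomLift (𝟙 (𝒳.p.obj x)) ι.inv := @IsHomLift.lift_id_inv _ _ _ _ 𝒳.p _ _ _ ι hι
  -- the action of `e` on the automorphisms of the member
  have key : ∀ w : Vert P P c, (M c w).1 ≫ v c = v c ≫ e.map w.1 := by
    intro w
    have h1 := hve (i := c) (j := c) w.1
    have e0 : bmap w.1 = 𝟙 c := huniq _ _ w.2
    have e1 : vx w.1 = w := (hvx w.1).unique (vxe _) (by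
      rw [e0, show P.map (𝟙 c) = 𝟙 _ from P.toFunctor.map_id _]
      exact Category.comp_id _)
    change ((M c (vx w.1)).1 ≫ P'.map (bmap w.1)) ≫ v c = _ at h1
    rw [e0, e1, show P'.map (𝟙 c) = 𝟙 _ from P'.toFunctor.map_id _, Category.comp_id] at h1
    exact h1
  have hvc : 𝒴.p.IsHomLift (𝟙 c.left) (v c) := vert_congr (𝒲 := 𝒴) (P.w_obj c) (v c) (hv c)
  have := isIso_of_fibGrpd hY' (𝟙 c.left) (v c)
  have hvi : 𝒴.p.IsHomLift (𝟙 c.left) (asIso (v c)).inv :=
    @IsHomLift.lift_id_inv _ _ _ _ 𝒴.p _ _ _ (asIso (v c)) hvc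
  have hei : 𝒴.p.IsHomLift (𝟙 c.left) (e.map ι.hom) :=
    @BasedFunctor.preserves_isHomLift _ _ _ _ e _ _ _ _ (𝟙 c.left) _ hι
  have hei' : 𝒴.p.IsHomLift (𝟙 c.left) (e.map ι.inv) :=
    @BasedFunctor.preserves_isHomLift _ _ _ _ e _ _ _ _ (𝟙 c.left) _ hι'
  have einv : ∀ {a b : 𝒳.obj} (i : a ≅ b), e.map i.hom ≫ e.map i.inv = 𝟙 _ := fun i =>
    (e.toFunctor.mapIso i).hom_inv_id
  constructor
  · intro α β hαβ
    have h0 : e.map α.hom.1 = e.map β.hom.1 := congrArg (fun t => t.hom.1) hαβ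
    let wa : Vert P P c := ⟨ι.inv ≫ α.hom.1 ≫ ι.hom,
      homLift_id_comp hι' (homLift_id_comp (autIso_lift α) hι)⟩
    let wb : Vert P P c := ⟨ι.inv ≫ β.hom.1 ≫ ι.hom,
      homLift_id_comp hι' (homLift_id_comp (autIso_lift β) hι)⟩
    have h1 : wa = wb := (M c).injective (Subtype.ext (by
      rw [← cancel_mono (v c), key, key]
      change v c ≫ e.map (ι.inv ≫ α.hom.1 ≫ ι.hom) = v c ≫ e.map (ι.inv ≫ β.hom.1 ≫ ι.hom)
      simp only [e.toFunctor.map_comp, h0]))
    refine autO_ext ?_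
    rw [← cancel_epi ι.inv, ← cancel_mono ι.hom, Category.assoc, Category.assoc]
    exact congrArg Subtype.val h1
  · intro β
    have hβ : 𝒴.p.IsHomLift (𝟙 c.left) β.hom.1 :=
      vert_congr (𝒲 := 𝒴) (e.w_obj x) β.hom.1 (autIso_lift β)
    let w : Vert P' P' c := ⟨v c ≫ e.map ι.inv ≫ β.hom.1 ≫ e.map ι.hom ≫ (asIso (v c)).inv,
      homLift_id_comp hvc (homLift_id_comp hei' (homLift_id_comp hβ (homLift_id_comp hei hvi)))⟩
    let a : Vert P P c := (M c).symm w
    have ha : 𝒳.p.IsHomLift (𝟙 (𝒳.p.obj x)) (ι.hom ≫ a.1 ≫ ι.inv) :=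
      homLift_id_comp hι (homLift_id_comp a.2 hι')
    have := isIso_of_fibGrpd hX' (𝟙 (𝒳.p.obj x)) (ι.hom ≫ a.1 ≫ ι.inv)
    refine ⟨autMk (asIso (ι.hom ≫ a.1 ≫ ι.inv)) ha, autO_ext ?_⟩
    rw [Gerb.autMap_hom_val, autMk_hom, asIso_hom, e.toFunctor.map_comp, e.toFunctor.map_comp]
    have h2 : e.map a.1 = (asIso (v c)).inv ≫ w.1 ≫ v c := by
      rw [show w = M c a from ((M c).apply_symm_apply w).symm, key]
      simp
    rw [h2]
    simp only [w, Category.assoc, asIso_inv, IsIso.inv_hom_id_assoc, IsIso.inv_hom_id, Category.comp_id]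
    rw [reassoc_of% (einv ι), einv ι, Category.comp_id]

end Groth.Agent.H14IsoNat
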