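import Groth.Agent.H14IsoNat.SecAut
import Groth.Agent.H14AlgSt.DiagDescent
import Groth.Agent.H14AlgSt.InertiaDiag
import Groth.Agent.H14AlgSt.CoverCriterion
import Groth.Agent.H12AlgSp.NoethValuative

/-!
# Properness of the inertia is detected by the presheaf of isomorphism classes
-/

set_option autoImplicit false
set_option backward.isDefEq.respectTransparency false
set_option backward.isDefEq.respectTransparency.types false

universe u

open CategoryTheory CategoryTheory.Functor AlgebraicGeometry CategoryTheory.Limits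

noncomputable section

namespace Groth.Agent.H14IsoNat

open H14Fib H14Stk H14AlgSt AlgSp

variable {S : Scheme.{u}}

local notation "K₀" => Scheme.fppfPrecoverage

lemma isLocalizationAway_of_dvr {A K : Type u} [CommRing A] [IsDomain A] [IsDiscreteValuationRing A]
    [Field K] [Algebra A K] [IsFractionRing A K] {ϖ : A} (hϖ : Irreducible ϖ) :
    IsLocalization.Away ϖ K := by
  have h0 : algebraMap A K ϖ ≠ 0 :=
    (map_ne_zero_iff _ (IsFractionRing.injective A K)).2 hϖ.ne_zero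
  constructor
  constructor
  · rintro ⟨_, n, rfl⟩
    rw [map_pow]
    exact (isUnit_iff_ne_zero.2 h0).pow n
  · intro z
    obtain ⟨a, b, hb, rfl⟩ := IsFractionRing.div_surjective (A := A) z
    have hb0 : b ≠ 0 := nonZeroDivisors.ne_zero hb
    obtain ⟨n, w, hw⟩ := IsDiscreteValuationRing.eq_unit_mul_pow_irreducible hb0 hϖ
    refine ⟨⟨a * (w⁻¹ : Aˣ), ⟨ϖ ^ n, n, rfl⟩⟩, ?_⟩
    have hbK : algebraMap A K b ≠ 0 := (map_ne_zero_iff _ (IsFractionRing.injective A K)).2 hb0
    rw [div_mul_eq_mul_div, div_eq_iff hbK, ← map_mul, ← map_mul, hw]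
    congr 1
    change a * ϖ ^ n = a * (↑w⁻¹ : A) * (↑w * ϖ ^ n)
    rw [mul_assoc a, Units.inv_mul_cancel_left]
  · intro x y h
    exact ⟨1, by simpa using IsFractionRing.injective A K h⟩

/-- The generic point of the spectrum of a discrete valuation ring is open. -/
lemma isOpenImmersion_generic {A K : Type u} [CommRing A] [IsDomain A] [IsDiscreteValuationRing A]
    [Field K] [Algebra A K] [IsFractionRing A K] :
    IsOpenImmersion (Spec.map (CommRingCat.ofHom (algebraMap A K))) := by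
  obtain ⟨ϖ, hϖ⟩ := IsDiscreteValuationRing.exists_irreducible A
  have := isLocalizationAway_of_dvr (K := K) hϖ
  exact IsOpenImmersion.of_isLocalization ϖ

variable {𝒳 𝒴 : AlgSt.Cat S}

/-- The square of a section over the generic point. -/
lemma ext_of_proper [SepStack 𝒳]
    (hpr : AlgSt.RepByAlgSpWith AlgSp.IsProperMor (FibCat.inertiaToBase (FibCat.toSelf 𝒳)))
    {U : Over S} (y : FibCat.overCat U ⥤ᵇ 𝒳) {A K : Type u} [CommRing A] [IsDomain A]
    [ValuationRing A] [Field K] [Algebra A K] [IsFractionRing A K] (str : Spec (.of A) ⟶ S)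
    (a : Over.mk str ⟶ U) :
    Ext (BasedFunctor.comp (AlgSt.overMap a) y) (Over.mk
      (Over.homMk (Spec.map (CommRingCat.ofHom (algebraMap A K))) rfl :
        Over.mk (Spec.map (CommRingCat.ofHom (algebraMap A K)) ≫ str) ⟶ Over.mk str)) := by
  obtain ⟨F, e, he, hp⟩ := hpr U y
  refine (lift_iff_ext y e he _ a).1 fun t ht => ?_
  let v : ValSq (AlgSt.spMapOfOver
      (BasedFunctor.comp e (FibCat.fpFst y (FibCat.inertiaToBase (FibCat.toSelf 𝒳))))) :=
    { A := A, K := K, str := str, top := t, bot := (yon S).map a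
      comm := by rw [ht, Functor.map_comp] }
  obtain ⟨d, hd⟩ := H12AlgSp.existVC_of_isUnivClosedMor F.property (IsAlgSpace.yon_obj U)
    (H12AlgSp.isQuasiSeparatedMor_of_isSeparatedMor hp.1) hp.2.2 v
  exact H12AlgSp.hasLift_of_domExt_of_separated F.property (IsAlgSpace.yon_obj U) hp.1 v d hd

variable (hY : AlgSt.IsAlgStack K₀ 𝒴)
  (hYd : AlgSt.RepByAlgSpWith (AlgSp.IsSeparatedMor ⊓ AlgSp.IsQuasiCompactMor)
    (FibCat.diag (FibCat.toSelf 𝒴)))
  (hYi : AlgSt.RepByAlgSpWith (AlgSp.LocP @LocallyOfFinitePresentation)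
    (FibCat.inertiaToBase (FibCat.toSelf 𝒴)))

include hY hYd hYi in
/-- The discrete valuative criterion over a locally Noetherian slice. -/
lemma exists_proper_chart [SepStack 𝒴] {U : Over S} [IsLocallyNoetherian U.left]
    (y : FibCat.overCat U ⥤ᵇ 𝒴)
    (h : ∀ (A K : Type u) [CommRing A] [IsDomain A] [IsDiscreteValuationRing A]
      [Field K] [Algebra A K] [IsFractionRing A K] (str : Spec (.of A) ⟶ S) (a : Over.mk str ⟶ U),
      Ext (BasedFunctor.comp (AlgSt.overMap a) y) (Over.mk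
        (Over.homMk (Spec.map (CommRingCat.ofHom (algebraMap A K))) rfl :
          Over.mk (Spec.map (CommRingCat.ofHom (algebraMap A K)) ≫ str) ⟶ Over.mk str))) :
    ∃ (F : AlgSp.Space S)
      (e : AlgSt.ofSp F.obj ⥤ᵇ FibCat.fp y (FibCat.inertiaToBase (FibCat.toSelf 𝒴))),
      FibCat.IsEquivOver e ∧ AlgSp.IsProperMor (AlgSt.spMapOfOver
        (BasedFunctor.comp e (FibCat.fpFst y (FibCat.inertiaToBase (FibCat.toSelf 𝒴))))) := by
  have hsep : AlgSt.RepByAlgSpWith (AlgSp.IsSeparatedMor ⊓ AlgSp.IsQuasiCompactMor)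
      (FibCat.inertiaToBase (FibCat.toSelf 𝒴)) :=
    (repWith_inertiaToBase_iff hY.isStack.1 _).2 (repWith_fpFst _ hYd)
  have := respectsIso_locP (S := S) @LocallyOfFinitePresentation
  obtain ⟨F, e, he, ⟨hs, hq⟩, hl⟩ := repWith_inf (sourceIsoInv_of_respectsIso _) hsep hYi U y
  refine ⟨F, e, he, ?_⟩
  have hn : IsLocNoethSp ((yon S).obj U) :=
    ⟨U, 𝟙 _, AlgSp.repWith_id @Etale U, AlgSp.repWith_id @Surjective U, inferInstance⟩
  refine (H12AlgSp.isProperMor_iff_dvr F.property (IsAlgSpace.yon_obj U) hn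
    ⟨H12AlgSp.locP_mono (fun _ _ g (_ : LocallyOfFinitePresentation g) =>
      (inferInstance : LocallyOfFiniteType g)) hl, hq⟩
    (H12AlgSp.isQuasiSeparatedMor_of_isSeparatedMor hs)).2 fun v hv =>
    ⟨?_, H12AlgSp.uniqVC_of_isSeparatedMor hs v⟩
  obtain ⟨a, ha⟩ := (yon S).map_surjective v.bot
  have := hv
  obtain ⟨l, hl₁, hl₂⟩ := (lift_iff_ext y e he _ a).2 (h v.A v.K v.str a) v.top
    (by rw [v.comm, Functor.map_comp, ha])
  exact ⟨l, hl₁, hl₂.trans ha⟩

include hY hYd hYi in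
/-- Properness of the inertia, tested on one atlas. -/
theorem proper_of_atlas [SepStack 𝒴] {U : Over S} [IsLocallyNoetherian U.left]
    (x : FibCat.overCat U ⥤ᵇ 𝒴) (hx : AlgSt.RepByAlgSpWith (AlgSp.LocP @Smooth) x)
    (hxs : AlgSt.RepByAlgSpWith AlgSp.IsSurjectiveMor x)
    (h : ∀ (A K : Type u) [CommRing A] [IsDomain A] [IsDiscreteValuationRing A]
      [Field K] [Algebra A K] [IsFractionRing A K] (str : Spec (.of A) ⟶ S) (a : Over.mk str ⟶ U),
      Ext (BasedFunctor.comp (AlgSt.overMap a) x) (Over.mk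
        (Over.homMk (Spec.map (CommRingCat.ofHom (algebraMap A K))) rfl :
          Over.mk (Spec.map (CommRingCat.ofHom (algebraMap A K)) ≫ str) ⟶ Over.mk str))) :
    AlgSt.RepByAlgSpWith AlgSp.IsProperMor (FibCat.inertiaToBase (FibCat.toSelf 𝒴)) := by
  obtain ⟨F, e, he, hp⟩ := exists_proper_chart hY hYd hYi x h
  let I := FibCat.inertiaToBase (FibCat.toSelf 𝒴)
  let w : AlgSt.ofSp ((yon S).obj U) ⥤ᵇ 𝒴 := BasedFunctor.comp (AlgSt.toOverCat U) x
  have hto := toOverCat_isEquivOver (S := S) U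
  have le1 : (@Smooth : MorphismProperty Scheme.{u}) ≤ @Flat := fun _ _ g (_ : Smooth g) =>
    (inferInstance : Flat g)
  have le2 : (@Smooth : MorphismProperty Scheme.{u}) ≤ @LocallyOfFinitePresentation :=
    fun _ _ g (_ : Smooth g) => (inferInstance : LocallyOfFinitePresentation g)
  have h1 := (repWith_equiv_comp_iff hto).1 (repWith_mono (fun _ _ _ hh => H12AlgSp.locP_mono le1 hh) hx)
  have h2 := (repWith_equiv_comp_iff hto).1 (repWith_mono (fun _ _ _ hh => H12AlgSp.locP_mono le2 hh) hx)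
  have h3 := (repWith_equiv_comp_iff hto).1 hxs
  obtain ⟨⟨_, _⟩, hess⟩ := (isEquivOver_iff (AlgSt.ofOverCat U)).1 (ofOverCat_isEquivOver U)
  obtain ⟨⟨_, _⟩, -⟩ := (isEquivOver_iff (BasedFunctor.id (FibCat.inertia (FibCat.toSelf 𝒴)))).1
    (isEquivOver_id _)
  obtain ⟨⟨_, _⟩, -⟩ := (isEquivOver_iff (BasedFunctor.id 𝒴)).1 (isEquivOver_id _)
  let E : FibCat.fp x I ⥤ᵇ FibCat.fp w I :=
    fpMap (F := w) (G := I) (F' := x) (G' := I) (AlgSt.ofOverCat U) (BasedFunctor.id _)
      (BasedFunctor.id 𝒴) (Iso.refl _) (Iso.refl _)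
  have hE : FibCat.IsEquivOver E :=
    fpMap_isEquivOver _ _ _ _ _ hess (essSurjOver_id _)
  obtain ⟨k⟩ := spMapOfOver_eq (BasedFunctor.comp e (FibCat.fpFst x I))
  let W : AlgSp.Space S := ⟨(yon S).obj U, IsAlgSpace.yon_obj U⟩
  have k' : BasedFunctor.comp (BasedFunctor.comp e E) (FibCat.fpFst w I) ≅
      AlgSt.ofSpMap (AlgSt.spMapOfOver (BasedFunctor.comp e (FibCat.fpFst x I))) :=
    (post _ (AlgSt.ofOverCat U)).mapIso k
  refine repWith_of_fppf localFppf_proper (BaseStable.sourceIsoInv baseStable_proper)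
    (repByAlgSp1_of_with hYi) (w := w) h1 h2 h3 ?_
  exact repWith_fpFst_of_space (W := W) baseStable_proper (isEquivOver_comp he hE) k' hp

include hY hYd hYi in
theorem properInertia_transfer [SepStack 𝒳] [SepStack 𝒴] (φ : IsoNat.FIso 𝒳 𝒴)
    (hN : AlgSt.SmoothLocally (fun X => IsLocallyNoetherian X) 𝒴)
    (hpr : AlgSt.RepByAlgSpWith AlgSp.IsProperMor (FibCat.inertiaToBase (FibCat.toSelf 𝒳))) :
    AlgSt.RepByAlgSpWith AlgSp.IsProperMor (FibCat.inertiaToBase (FibCat.toSelf 𝒴)) := by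
  obtain ⟨U, x, hx, hxs⟩ := hY.atlas
  have := hN U x hx
  refine proper_of_atlas hY hYd hYi x hx hxs fun A K _ _ _ _ _ _ str a => ?_
  obtain ⟨z, hz⟩ := exists_corresp φ x
  have hext := ext_of_proper hpr z (K := K) str a
  let g : Over.mk (Spec.map (CommRingCat.ofHom (algebraMap A K)) ≫ str) ⟶ Over.mk str :=
    Over.homMk (Spec.map (CommRingCat.ofHom (algebraMap A K))) rfl
  have : IsOpenImmersion g.left := isOpenImmersion_generic
  let i : down g (Dbl.ww g) ≅ Over.mk g :=
    Over.isoMk (Iso.refl _) (by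
      change 𝟙 _ ≫ g = (g ≫ Dbl.lg g false) ≫ Dbl.fold g
      rw [Category.id_comp, Category.assoc, Dbl.lg_fold, Category.comp_id])
  have hc : Corresp φ (BasedFunctor.comp (AlgSt.overMap a) z) (BasedFunctor.comp (AlgSt.overMap a) x) :=
    fun c => hz ((AlgSt.overMap a).obj c)
  exact ext_of_iso i.symm (ext_transfer g hc (ext_of_iso i hext))

end Groth.Agent.H14IsoNat
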