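import Groth.Agent.H14AlgSt.Noeth
import Groth.Agent.H14AlgSt.Substack
import Groth.Agent.H14IsoNat.Points

/-!
# Quasi-compact morphisms of algebraic stacks, read on points
-/

set_option autoImplicit false
set_option backward.isDefEq.respectTransparency false
set_option backward.isDefEq.respectTransparency.types false

universe u

open CategoryTheory Opposite AlgebraicGeometry CategoryTheory.Limits

noncomputable section

namespace Groth.Agent.H14IsoNat

open H14Fib H14Stk H14AlgSt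

variable {S : Scheme.{u}} {𝒳 𝒴 : AlgSt.Cat S}

local notation "K₀" => Scheme.fppfPrecoverage

/-- An open compact set of points containing a compact one is the range of a compact scheme. -/
lemma exists_compact_chart (hX : AlgSt.IsAlgStack K₀ 𝒳) {C O : Set (AlgSt.Points 𝒳)}
    (hC : IsCompact C) (hO : IsOpen O) (hCO : C ⊆ O) :
    ∃ (A : Over S) (a : FibCat.overCat A ⥤ᵇ 𝒳), CompactSpace A.left ∧
      IsOpen (Set.range (AlgSt.Points.ofChart a)) ∧
      C ⊆ Set.range (AlgSt.Points.ofChart a) ∧ Set.range (AlgSt.Points.ofChart a) ⊆ O := by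
  obtain ⟨U, x, hx, hxs⟩ := hX.atlas
  have ho : IsOpenMap (AlgSt.Points.ofChart x) := isOpenMap_ofChart hX.isStack.1
    (repWith_locP_mono smooth_le_flat hx) (repWith_locP_mono smooth_le_lfp hx)
  let P := {W : U.left.affineOpens // (W.1 : Set U.left) ⊆ AlgSt.Points.ofChart x ⁻¹' O}
  obtain ⟨s, hs⟩ := hC.elim_finite_subcover
    (fun W : P => AlgSt.Points.ofChart x '' (W.1.1 : Set U.left))
    (fun W => ho _ W.1.1.isOpen) (fun y hy => by
      obtain ⟨t, rfl⟩ := ofChart_surjective hX.isStack.1 hxs y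
      obtain ⟨W, hW, htW, hWO⟩ := exists_isAffineOpen_mem_and_subset
        (U := chartOpen hX hO x) (show t ∈ chartOpen hX hO x from hCO hy)
      exact Set.mem_iUnion.2 ⟨⟨⟨W, hW⟩, hWO⟩, t, htW, rfl⟩)
  let W : {v : P // v ∈ s} → P := fun i => i.1
  have : ∀ i, IsAffine (W i).1.1.toScheme := fun i => (W i).1.2
  let σ : (∐ fun i => (W i).1.1.toScheme) ⟶ U.left := Sigma.desc fun i => (W i).1.1.ι
  let A : Over S := Over.mk (σ ≫ U.hom)
  let c : A ⟶ U := Over.homMk σ rfl
  have e : Set.range (AlgSt.Points.ofChart (BasedFunctor.comp (AlgSt.overMap c) x)) =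
      ⋃ i, AlgSt.Points.ofChart x '' ((W i).1.1 : Set U.left) := by
    ext y
    rw [Set.mem_iUnion]
    constructor
    · rintro ⟨t, rfl⟩
      obtain ⟨⟨i, t'⟩, rfl⟩ :=
        (sigmaMk (fun i => (W i).1.1.toScheme)).surjective t
      rw [sigmaMk_mk]
      refine ⟨i, t'.1, t'.2, ?_⟩
      rw [ofChart_comp_overMap]
      congr 1
      change t'.1 = σ _
      rw [← Scheme.Hom.comp_apply, Sigma.ι_desc]
      rfl
    · rintro ⟨i, t, ht, rfl⟩
      refine ⟨Sigma.ι (fun i => (W i).1.1.toScheme) i ⟨t, ht⟩, ?_⟩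
      rw [ofChart_comp_overMap]
      congr 1
      change σ (Sigma.ι (fun i => (W i).1.1.toScheme) i ⟨t, ht⟩) = t
      rw [← Scheme.Hom.comp_apply, Sigma.ι_desc]
      rfl
  refine ⟨A, BasedFunctor.comp (AlgSt.overMap c) x,
    inferInstanceAs (CompactSpace ↥(∐ fun i => (W i).1.1.toScheme)), ?_, ?_, ?_⟩
  · rw [e]
    exact isOpen_iUnion fun i => ho _ (W i).1.1.isOpen
  · intro y hy
    obtain ⟨V, hV, hyV⟩ := Set.mem_iUnion₂.1 (hs hy)
    rw [e]
    exact Set.mem_iUnion.2 ⟨⟨V, hV⟩, hyV⟩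
  · rw [e]
    refine Set.iUnion_subset fun i => ?_
    rintro _ ⟨t, ht, rfl⟩
    exact (W i).2 ht

lemma range_map_eq_range_ofChart {A : Over S} (a : FibCat.overCat A ⥤ᵇ 𝒳) :
    Set.range (AlgSt.Points.map a) = Set.range (AlgSt.Points.ofChart a) := by
  ext y
  constructor
  · rintro ⟨q, rfl⟩
    exact ⟨chartPoint q, (map_eq_ofChart a q).symm⟩
  · rintro ⟨t, rfl⟩
    exact ⟨_, (ofChart_eq_map a t).symm⟩

/-- The preimage of the image of `g` is compact when the fibre product is quasi-compact. -/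
lemma isCompact_preimage_range {𝒵 : AlgSt.Cat S} (hZ : AlgSt.IsAlgStack K₀ 𝒵)
    (hX : AlgSt.IsAlgStack K₀ 𝒳) (hY : AlgSt.IsAlgStack K₀ 𝒴) (g : 𝒵 ⥤ᵇ 𝒴) (f : 𝒳 ⥤ᵇ 𝒴)
    (h : AlgSt.IsQuasiCompact (FibCat.fp g f)) :
    IsCompact (AlgSt.Points.map f ⁻¹' Set.range (AlgSt.Points.map g)) := by
  have := compactSpace_points (isAlgStack_fp' hZ hX hY g f) h
  have e : AlgSt.Points.map f ⁻¹' Set.range (AlgSt.Points.map g) =
      Set.range (AlgSt.Points.map (FibCat.fpSnd g f)) := by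
    ext y
    constructor
    · rintro ⟨z, hz⟩
      obtain ⟨w, -, hw⟩ := exists_points_fp hZ.isStack.1 hX.isStack.1 hY.isStack.1
        (F := g) (G := f) hz
      exact ⟨w, hw⟩
    · rintro ⟨w, rfl⟩
      refine ⟨AlgSt.Points.map (FibCat.fpFst g f) w, ?_⟩
      rw [← points_map_comp, ← points_map_comp]
      exact points_map_iso (FibCat.fpIso g f) w
  rw [e]
  exact isCompact_range (continuous_points_map hX _)

lemma isCompact_preimage_of_isQCMor (hX : AlgSt.IsAlgStack K₀ 𝒳) (hY : AlgSt.IsAlgStack K₀ 𝒴)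
    {f : 𝒳 ⥤ᵇ 𝒴} (hf : AlgSt.IsQuasiCompactMor K₀ f) {V : Set (AlgSt.Points 𝒴)} (hVo : IsOpen V)
    (hVc : IsCompact V) : IsCompact (AlgSt.Points.map f ⁻¹' V) := by
  obtain ⟨A, a, hA, -, h1, h2⟩ := exists_compact_chart hY hVc hVo subset_rfl
  have e : Set.range (AlgSt.Points.map a) = V :=
    (range_map_eq_range_ofChart a).trans (Set.Subset.antisymm h2 h1)
  rw [← e]
  exact isCompact_preimage_range (isAlgStack_overCat A) hX hY a f
    (hf _ (isAlgStack_overCat A) (isQuasiCompact_overCat A) a)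

/-- Over a quasi-separated base, a stack with quasi-compact diagonal: quasi-compact morphisms are
those with compact preimages of compact opens. -/
theorem isQCMor_iff_preimage [QuasiSeparatedSpace S] (hX : AlgSt.IsAlgStack K₀ 𝒳)
    (hY : AlgSt.IsAlgStack K₀ 𝒴)
    (hYd : AlgSt.RepByAlgSpWith AlgSp.IsQuasiCompactMor (FibCat.diag (FibCat.toSelf 𝒴)))
    (f : 𝒳 ⥤ᵇ 𝒴) :
    AlgSt.IsQuasiCompactMor K₀ f ↔ ∀ V : Set (AlgSt.Points 𝒴), IsOpen V → IsCompact V →
      IsCompact (AlgSt.Points.map f ⁻¹' V) := by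
  refine ⟨fun hf V hVo hVc => isCompact_preimage_of_isQCMor hX hY hf hVo hVc, fun h 𝒵 hZ hZc g => ?_⟩
  have := compactSpace_points hZ hZc
  obtain ⟨A, a, hA, hao, hga, -⟩ := exists_compact_chart hY
    (isCompact_range (continuous_points_map hY g)) isOpen_univ (Set.subset_univ _)
  have hac : IsCompact (Set.range (AlgSt.Points.ofChart a)) :=
    isCompact_range (continuous_ofChart hY a)
  obtain ⟨B, b, hB, -, hb, -⟩ :=
    exists_compact_chart hX (h _ hao hac) isOpen_univ (Set.subset_univ _)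
  have hBs := isAlgStack_overCat B
  have hself := isAlgStack_selfOver (S := S)
  let m := BasedFunctor.comp b f
  have hm : AlgSt.IsQuasiCompactMor K₀ m :=
    isQCMor_cancel (g := FibCat.toSelf 𝒴) hBs hY hself
      (by rw [comp_toSelf]; exact isQCMor_toSelf hBs (isQuasiCompact_overCat B)) hYd
  have hfp := isAlgStack_fp' hZ hX hY g f
  have hT := isAlgStack_fp' hfp hBs hX (FibCat.fpSnd g f) b
  obtain ⟨E, ⟨i⟩, ⟨j⟩⟩ := pasteComp_isEquivOver g f b
  refine isQuasiCompact_of_surjective hT hfp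
    (isQuasiCompact_of_surjective (isAlgStack_fp' hZ hBs hY g m) hT (hm _ hZ hZc g) E
      (points_map_bijective ⟨_, ⟨j⟩, ⟨i⟩⟩).2) (FibCat.fpFst (FibCat.fpSnd g f) b) fun w => ?_
  have hw : AlgSt.Points.map (FibCat.fpSnd g f) w ∈ Set.range (AlgSt.Points.map b) := by
    rw [range_map_eq_range_ofChart]
    refine hb (hga ⟨AlgSt.Points.map (FibCat.fpFst g f) w, ?_⟩)
    rw [← points_map_comp, ← points_map_comp]
    exact points_map_iso (FibCat.fpIso g f) w
  obtain ⟨t, ht⟩ := hw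
  obtain ⟨v, hv, -⟩ := exists_points_fp hfp.isStack.1 hBs.isStack.1 hX.isStack.1
    (F := FibCat.fpSnd g f) (G := b) ht.symm
  exact ⟨v, hv⟩

/-- The open substack on a compact open set of points is quasi-compact. -/
lemma isQuasiCompact_ptPred (hX : AlgSt.IsAlgStack K₀ 𝒳) {O : Set (AlgSt.Points 𝒳)}
    (hOo : IsOpen O) (hOc : IsCompact O) :
    AlgSt.IsQuasiCompact (AlgSt.fullSub 𝒳 (ptPred O)) := by
  obtain ⟨A, a, hA, -, h1, h2⟩ := exists_compact_chart hX hOc hOo subset_rfl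
  have hQ : ∀ s, ptPred O (a.obj s) := fun s =>
    (ptPred_chart_iff hX.isStack.1 a s).2 fun t => h2 ⟨_, rfl⟩
  have hsub := (isOpenSubstack_ptPred hX hOo).2.1
  refine isQuasiCompact_of_surjective (isAlgStack_overCat A) hsub (isQuasiCompact_overCat A)
    (liftSub a hQ) fun w => ?_
  have hw : AlgSt.Points.map (AlgSt.subIncl 𝒳 (ptPred O)) w ∈ O := range_ptPred.le ⟨w, rfl⟩
  obtain ⟨t, ht⟩ := (range_map_eq_range_ofChart a).ge (h1 hw)
  refine ⟨t, points_map_injective_of_ff (fullSub_fibGrpd hX.isStack.1) hX.isStack.1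
    (AlgSt.subIncl 𝒳 (ptPred O)) ?_⟩
  rw [← points_map_comp, points_map_iso (liftSubIso a hQ), ht]

end Groth.Agent.H14IsoNat
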