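import Groth.Agent.H14Quot.Factor
import Groth.Agent.H14AlgSt.Substack
import Groth.Agent.H12AlgSp.Immersion
import Mathlib.AlgebraicGeometry.Morphisms.SchemeTheoreticallyDominant

/-!
# Vertical endomorphisms agreeing on a scheme-theoretically dense part agree, for separated diagonals
-/

set_option autoImplicit false
set_option backward.isDefEq.respectTransparency false
set_option backward.isDefEq.respectTransparency.types false

universe u

open CategoryTheory CategoryTheory.Functor CategoryTheory.Limits AlgebraicGeometry Opposite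

noncomputable section

namespace Groth.Agent.H14IsoNat

open H14Fib H14Stk H14AlgSt H14Quot

variable {S : Scheme.{u}} {𝒳 : AlgSt.Cat S}

lemma lift_eq_comp {X Y Z : Scheme.{u}} (f : X ⟶ Y) (v : Z ⟶ Y) (k : X ⟶ Z)
    [IsClosedImmersion v] (hf : f.ker = ⊥) (h : k ≫ v = f) : IsIso v :=
  IsClosedImmersion.isIso_iff_ker_eq_bot.2
    (le_bot_iff.1 (hf ▸ h ▸ Scheme.Hom.le_ker_comp k v))

/-- An object of the category of a space lying vertically over the top of a slice. -/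
lemma secHom_eq_id {F : AlgSp.Sp S} {U : Over S} (Φ : AlgSt.ofSp F ⥤ᵇ FibCat.overCat U)
    (a : (AlgSt.ofSp F).obj) (h : a.base = U) (j : Φ.obj a ≅ topObj U)
    (hj : (FibCat.overCat U).p.IsHomLift (𝟙 U) j.hom) :
    eqToHom h.symm ≫ AlgSt.secHom Φ a = 𝟙 U := by
  have h1 : j.hom.left ≫ 𝟙 U = (Φ.obj a).hom := Over.w j.hom
  have h2 := @IsHomLift.fac' _ _ _ _ (FibCat.overCat U).p _ _ _ _ (𝟙 U) j.hom hj
  change j.hom.left = _ at h2
  have h1' : j.hom.left = (Φ.obj a).hom := (Category.comp_id _).symm.trans h1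
  rw [AlgSt.secHom, ← h1', h2]
  simp

theorem eq_of_agree_gen (hX : FibCat.IsFibGrpd 𝒳.p) {P : MorphismProperty (AlgSp.Sp S)}
    (hd : AlgSt.RepByAlgSpWith P (FibCat.diag (FibCat.toSelf 𝒳)))
    {W W' : Over S} (f : W' ⟶ W)
    (hP : ∀ ⦃G : AlgSp.Space S⦄ (σ : G.obj ⟶ (AlgSp.yon S).obj W) (sa sb : (AlgSp.yon S).obj W ⟶ G.obj),
      P σ → sa ≫ σ = 𝟙 _ → sb ≫ σ = 𝟙 _ → (AlgSp.yon S).map f ≫ sa = (AlgSp.yon S).map f ≫ sb → sa = sb)
    {x x' : 𝒳.obj} (hx : 𝒳.p.obj x = W)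
    (ψ : x' ⟶ x) (hψ : 𝒳.p.IsHomLift f ψ) {a b : x ⟶ x} (ha : 𝒳.p.IsHomLift (𝟙 W) a)
    (hb : 𝒳.p.IsHomLift (𝟙 W) b) (h : ψ ≫ a = ψ ≫ b) : a = b := by
  have hg2 := fp_fibGrpd (F := FibCat.toSelf 𝒳) (G := FibCat.toSelf 𝒳) hX hX selfOver_fibGrpd
  have := isFibered_of_fibGrpd hg2
  let D := FibCat.diag (FibCat.toSelf 𝒳)
  obtain ⟨z, i, -, hi⟩ := exists_fromOver (𝒳 := FibCat.fp (FibCat.toSelf 𝒳) (FibCat.toSelf 𝒳))
    (x := D.obj x) ((D.w_obj x).trans hx)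
  obtain ⟨G, e, he, hσ⟩ := hd W z
  obtain ⟨⟨hfull, hfaith⟩, hsurj⟩ := (isEquivOver_iff e).1 he
  have := isIso_of_fibGrpd hX (𝟙 W) a
  have := isIso_of_fibGrpd hX (𝟙 W) b
  have hpair : ∀ (c : x ⟶ x) [IsIso c], 𝒳.p.IsHomLift (𝟙 W) c →
      ∃ p : D.obj x ≅ D.obj x, p.hom.hom.fst = c ∧ p.hom.hom.snd = 𝟙 x ∧
        (FibCat.fp (FibCat.toSelf 𝒳) (FibCat.toSelf 𝒳)).p.IsHomLift (𝟙 W) p.hom := by
    intro c _ hc
    refine ⟨fpIsoMk (asIso c) (Iso.refl _) ?_, rfl, rfl, (fp_isHomLift_iff _ _).2 hc⟩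
    have := @IsHomLift.fac' _ _ _ _ 𝒳.p _ _ _ _ (𝟙 W) c hc
    change 𝒳.p.map c ≫ 𝟙 (𝒳.p.obj x) = 𝟙 (𝒳.p.obj x) ≫ 𝒳.p.map (𝟙 x)
    simp [this]
  obtain ⟨pa, hpa₁, hpa₂, hpa⟩ := hpair a ha
  obtain ⟨pb, hpb₁, hpb₂, hpb⟩ := hpair b hb
  let oa : (FibCat.fp z D).obj :=
    fpObj (topObj W) x (i ≪≫ pa) rfl (homLift_id_comp hi hpa)
  let ob : (FibCat.fp z D).obj :=
    fpObj (topObj W) x (i ≪≫ pb) rfl (homLift_id_comp hi hpb)
  -- the common restriction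
  let s : (FibCat.overCat W).obj := Over.mk f
  let Dψ : D.obj x' ⟶ D.obj x := D.map ψ
  have hDψ : (FibCat.fp (FibCat.toSelf 𝒳) (FibCat.toSelf 𝒳)).p.IsHomLift f Dψ :=
    @BasedFunctor.preserves_isHomLift _ _ _ _ D _ _ _ _ f ψ hψ
  have hzs : (FibCat.fp (FibCat.toSelf 𝒳) (FibCat.toSelf 𝒳)).p.IsHomLift f
      (z.map (toTop s) ≫ i.hom) := by
    simpa using homLift_comp' (@BasedFunctor.preserves_isHomLift _ _ _ _ z _ _ _ _ f (toTop s)
      (overCat_isHomLift (toTop s))) hi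
  obtain ⟨j, hj, hj'⟩ := exists_vertIso hg2 f (z.map (toTop s) ≫ i.hom) Dψ
  have hψa : 𝒳.p.IsHomLift f (ψ ≫ a) := by simpa using homLift_comp' hψ ha
  obtain ⟨c, hc, hc'⟩ := exists_vertIso hX f (ψ ≫ a) ψ
  have hx' : 𝒳.p.obj x' = W' := IsHomLift.domain_eq 𝒳.p f ψ
  have hpc : ∃ q : D.obj x' ≅ D.obj x', q.hom.hom.fst = c.hom ∧ q.hom.hom.snd = 𝟙 x' ∧
      (FibCat.fp (FibCat.toSelf 𝒳) (FibCat.toSelf 𝒳)).p.IsHomLift (𝟙 W') q.hom := by
    refine ⟨fpIsoMk c (Iso.refl _) ?_, rfl, rfl, (fp_isHomLift_iff _ _).2 hc⟩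
    have := @IsHomLift.fac' _ _ _ _ 𝒳.p _ _ _ _ (𝟙 W') c.hom hc
    change 𝒳.p.map c.hom ≫ 𝟙 (𝒳.p.obj x') = 𝟙 (𝒳.p.obj x') ≫ 𝒳.p.map (𝟙 x')
    simp [this]
  obtain ⟨q, hq₁, hq₂, hq⟩ := hpc
  let o' : (FibCat.fp z D).obj := fpObj s x' (j ≪≫ q) rfl (homLift_id_comp hj hq)
  have hcom : ∀ (p : D.obj x ≅ D.obj x), ψ ≫ p.hom.hom.fst = ψ ≫ a → p.hom.hom.snd = 𝟙 x →
      z.map (toTop s) ≫ (i ≪≫ p).hom = (j ≪≫ q).hom ≫ Dψ := by
    intro p hp₁ hp₂
    rw [Iso.trans_hom, Iso.trans_hom, ← Category.assoc, ← hj', Category.assoc, Category.assoc]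
    congr 1
    refine fp_hom_ext ?_ ?_
    · change ψ ≫ p.hom.hom.fst = q.hom.hom.fst ≫ ψ
      rw [hp₁, hq₁, hc']
    · change ψ ≫ p.hom.hom.snd = q.hom.hom.snd ≫ ψ
      rw [hp₂, hq₂]
      exact (Category.comp_id _).trans (Category.id_comp _).symm
  let φa : o' ⟶ oa := fpHom (toTop s) ψ (hcom pa (by rw [hpa₁]) hpa₂)
  let φb : o' ⟶ ob := fpHom (toTop s) ψ (hcom pb (by rw [hpb₁, h]) hpb₂)
  -- lift to the space
  obtain ⟨ξa, ka, hka⟩ := hsurj oa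
  obtain ⟨ξb, kb, hkb⟩ := hsurj ob
  obtain ⟨ξ', k', hk'⟩ := hsurj o'
  have ba : ξa.base = W := (EssSurjOver.obj_eq ka.hom :)
  have bb : ξb.base = W := (EssSurjOver.obj_eq kb.hom :)
  have b' : ξ'.base = W' := (EssSurjOver.obj_eq k'.hom :)
  have key : ∀ {o : (FibCat.fp z D).obj} (φ : o' ⟶ o) (ξ : (AlgSt.ofSp G.obj).obj)
      (k : e.obj ξ ≅ o) (_ : (FibCat.fp z D).p.IsHomLift (𝟙 W) k.hom) (bξ : ξ.base = W),
      (FibCat.fp z D).p.IsHomLift f φ →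
      (AlgSp.yon S).map f ≫ secYon ξ bξ = secYon ξ' b' := by
    intro o φ ξ k hk bξ hφ
    let m := e.toFunctor.preimage (k'.hom ≫ φ ≫ k.inv)
    have hm : (AlgSt.ofSp G.obj).p.IsHomLift f m := by
      refine (BasedFunctor.isHomLift_iff e f m).1 ?_
      change (FibCat.fp z D).p.IsHomLift f (e.map (e.toFunctor.preimage (k'.hom ≫ φ ≫ k.inv)))
      rw [e.toFunctor.map_preimage]
      have h1 := @IsHomLift.lift_id_inv _ _ _ _ (FibCat.fp z D).p W _ _ k hk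
      simpa using homLift_comp' hk' (homLift_comp' hφ h1)
    exact secYon_map m b' bξ f (@IsHomLift.fac' _ _ _ _ (AlgSt.ofSp G.obj).p _ _ _ _ f m hm)
  have hsec := (key φa ξa ka hka ba ((fp_isHomLift_iff _ _).2 (overCat_isHomLift (toTop s)))).trans
    (key φb ξb kb hkb bb ((fp_isHomLift_iff _ _).2 (overCat_isHomLift (toTop s)))).symm
  -- both are sections over the base
  obtain ⟨σ, hσe⟩ : ∃ σ, σ = AlgSt.spMapOfOver (BasedFunctor.comp e (FibCat.fpFst z D)) := ⟨_, rfl⟩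
  replace hσ : P σ := hσe.symm ▸ hσ
  have hsect : ∀ (o : (FibCat.fp z D).obj) (ξ : (AlgSt.ofSp G.obj).obj) (k : e.obj ξ ≅ o)
      (_ : (FibCat.fp z D).p.IsHomLift (𝟙 W) k.hom) (bξ : ξ.base = W) (_ : o.obj.fst = topObj W),
      secYon ξ bξ ≫ σ = 𝟙 _ := by
    intro o ξ k hk bξ ho
    have hl : (FibCat.overCat W).p.IsHomLift (𝟙 W)
        ((FibCat.fpFst z D).toFunctor.mapIso k ≪≫ eqToIso ho).hom := by
      refine homLift_id_comp (@BasedFunctor.preserves_isHomLift _ _ _ _ (FibCat.fpFst z D)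
        _ _ _ _ (𝟙 W) k.hom hk) ?_
      exact IsHomLift.of_fac' (FibCat.overCat W).p _ _ ((congrArg (FibCat.overCat W).p.obj ho).trans rfl) rfl
        (by simp [eqToHom_map])
    have h1 := secHom_eq_id (BasedFunctor.comp e (FibCat.fpFst z D)) ξ bξ _ hl
    apply (AlgSp.J S).uliftYonedaEquiv.injective
    rw [hσe, GrothendieckTopology.uliftYonedaEquiv_comp]
    subst bξ
    simp only [secYon, eqToHom_refl, CategoryTheory.Functor.map_id, Category.id_comp,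
      Equiv.apply_symm_apply] at h1 ⊢
    exact (congrArg ULift.up h1).trans rfl
  let sa := secYon ξa ba
  let sb := secYon ξb bb
  have hab : sa = sb := hP σ sa sb hσ (hsect oa ξa ka hka ba rfl) (hsect ob ξb kb hkb bb rfl) hsec
  have hξ : ξa = ξb := by
    rw [elt_eq_mk ξa ba, elt_eq_mk ξb bb, show secYon ξa ba = secYon ξb bb from hab]
  subst hξ
  let w : oa ≅ ob := ka.symm ≪≫ kb
  have hw : (FibCat.fp z D).p.IsHomLift (𝟙 W) w.hom :=
    homLift_id_comp (@IsHomLift.lift_id_inv _ _ _ _ (FibCat.fp z D).p W _ _ ka hka) hkb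
  have hv1 : w.hom.hom.fst = 𝟙 (topObj W) := Over.OverMorphism.ext (by
    have := Over.w w.hom.hom.fst
    change w.hom.hom.fst.left ≫ 𝟙 W = 𝟙 W at this
    exact (Category.comp_id _).symm.trans this)
  have h3 := w.hom.hom.w
  change z.map w.hom.hom.fst ≫ (i ≪≫ pb).hom = (i ≪≫ pa).hom ≫ D.map w.hom.hom.snd at h3
  rw [show z.map w.hom.hom.fst = 𝟙 (z.obj (topObj W)) from
    (congrArg z.toFunctor.map hv1).trans (z.toFunctor.map_id _)] at h3
  replace h3 : (i ≪≫ pb).hom = (i ≪≫ pa).hom ≫ D.map w.hom.hom.snd :=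
    (Category.id_comp _).symm.trans h3
  rw [Iso.trans_hom, Iso.trans_hom, Category.assoc, cancel_epi] at h3
  have h4 : pb.hom.hom.snd = pa.hom.hom.snd ≫ w.hom.hom.snd := congrArg (fun t => t.hom.snd) h3
  have h5 : pb.hom.hom.fst = pa.hom.hom.fst ≫ w.hom.hom.snd := congrArg (fun t => t.hom.fst) h3
  rw [hpa₂, hpb₂] at h4
  have h6 : w.hom.hom.snd = 𝟙 x := (Category.id_comp _).symm.trans h4.symm
  rw [hpa₁, hpb₁, h6] at h5
  exact (h5.trans (Category.comp_id _)).symm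

/-- The closed immersion on which two sections of a separated morphism of spaces agree. -/
lemma exists_agree_locus {W W' : Over S} (f : W' ⟶ W) {G : AlgSp.Space S}
    {σ : G.obj ⟶ (AlgSp.yon S).obj W} (hσ : AlgSp.IsSeparatedMor σ)
    {sa sb : (AlgSp.yon S).obj W ⟶ G.obj} (hsa : sa ≫ σ = 𝟙 _) (hsb : sb ≫ σ = 𝟙 _)
    (hsec : (AlgSp.yon S).map f ≫ sa = (AlgSp.yon S).map f ≫ sb) :
    ∃ (Z : Over S) (v : Z ⟶ W) (fst : (AlgSp.yon S).obj Z ⟶ G.obj) (k : W' ⟶ Z) (L : _),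
      IsPullback fst ((AlgSp.yon S).map v) (pullback.diagonal σ) L ∧ IsClosedImmersion v.left ∧
        k ≫ v = f ∧ (IsIso v.left → sa = sb) := by
  let L := pullback.lift (f := σ) (g := σ) sa sb (hsa.trans hsb.symm)
  obtain ⟨Z, v, fst, sq⟩ := hσ.rep L
  have hv : IsClosedImmersion v.left := hσ.property L fst v sq
  obtain ⟨k, hk⟩ := (AlgSp.yon S).map_surjective (sq.lift ((AlgSp.yon S).map f ≫ sa)
    ((AlgSp.yon S).map f) (by
      apply pullback.hom_ext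
      · simp [L]
      · simp [L, hsec]))
  refine ⟨Z, v, fst, k, L, sq, hv, (AlgSp.yon S).map_injective (by rw [Functor.map_comp, hk, sq.lift_snd]),
    fun _ => ?_⟩
  have : IsIso v := by
    rw [show v = (Over.isoMk (asIso v.left) (Over.w v)).hom from Over.OverMorphism.ext rfl]
    infer_instance
  rw [← cancel_epi ((AlgSp.yon S).map v)]
  have h1 := congrArg (· ≫ pullback.fst σ σ) sq.w
  have h2 := congrArg (· ≫ pullback.snd σ σ) sq.w
  simp [L] at h1 h2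
  rw [← h1, ← h2]

/-- Vertical endomorphisms agreeing on a scheme-theoretically dense part agree, for separated diagonals. -/
theorem eq_of_agree (hX : FibCat.IsFibGrpd 𝒳.p)
    (hd : AlgSt.RepByAlgSpWith AlgSp.IsSeparatedMor (FibCat.diag (FibCat.toSelf 𝒳)))
    {W W' : Over S} (f : W' ⟶ W) (hf : f.left.ker = ⊥) {x x' : 𝒳.obj} (hx : 𝒳.p.obj x = W)
    (ψ : x' ⟶ x) (hψ : 𝒳.p.IsHomLift f ψ) {a b : x ⟶ x} (ha : 𝒳.p.IsHomLift (𝟙 W) a)
    (hb : 𝒳.p.IsHomLift (𝟙 W) b) (h : ψ ≫ a = ψ ≫ b) : a = b := by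
  refine eq_of_agree_gen hX hd f (fun G σ sa sb hσ hsa hsb hsec => ?_) hx ψ hψ ha hb h
  obtain ⟨Z, v, fst, k, L, -, hv, hkv, hiso⟩ := exists_agree_locus f hσ hsa hsb hsec
  exact hiso (lift_eq_comp f.left v.left k.left hf (congrArg CommaMorphism.left hkv))

/-- Vertical endomorphisms agreeing on a topologically dense part agree, for separated unramified diagonals. -/
theorem eq_of_agree_dense (hX : FibCat.IsFibGrpd 𝒳.p)
    (hd : AlgSt.RepByAlgSpWith (AlgSp.IsSeparatedMor ⊓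
      AlgSp.LocP (@LocallyOfFiniteType ⊓ @FormallyUnramified)) (FibCat.diag (FibCat.toSelf 𝒳)))
    {W W' : Over S} (f : W' ⟶ W) (hf : Dense (Set.range f.left)) {x x' : 𝒳.obj} (hx : 𝒳.p.obj x = W)
    (ψ : x' ⟶ x) (hψ : 𝒳.p.IsHomLift f ψ) {a b : x ⟶ x} (ha : 𝒳.p.IsHomLift (𝟙 W) a)
    (hb : 𝒳.p.IsHomLift (𝟙 W) b) (h : ψ ≫ a = ψ ≫ b) : a = b := by
  refine eq_of_agree_gen hX hd f (fun G σ sa sb hσ hsa hsb hsec => ?_) hx ψ hψ ha hb h
  obtain ⟨Z, v, fst, k, L, sq, hv, hkv, hiso⟩ := exists_agree_locus f hσ.1 hsa hsb hsec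
  have hop := H12AlgSp.isOpenImmersion_diagonal_of_unramified G.property (AlgSp.IsAlgSpace.yon_obj W) hσ.2
  have : IsOpenImmersion v.left := hop.property L fst v sq
  have hs : Set.range v.left = Set.univ := by
    refine Set.univ_subset_iff.1 (hf.closure_eq ▸ closure_minimal ?_ v.left.isClosedEmbedding.isClosed_range)
    rintro _ ⟨p, rfl⟩
    exact ⟨k.left p, congr($(congrArg CommaMorphism.left hkv) p)⟩
  have : Surjective v.left := ⟨Set.range_eq_univ.1 hs⟩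
  exact hiso (IsOpenImmersion.isIso v.left)

end Groth.Agent.H14IsoNat
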