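import Groth.Agent.H14IsoNat.VIsoGlue
import Groth.Agent.H14IsoNat.Sep
import Groth.Agent.H19Grp.SchDense
import Groth.Agent.H14AlgSt.PointsMor
import Groth.Prelude.Def_CInt

/-!
# Natural maps between isomorphisms of values of rigid charts
-/

set_option autoImplicit false
set_option backward.isDefEq.respectTransparency false
set_option backward.isDefEq.respectTransparency.types false

universe u

open CategoryTheory CategoryTheory.Functor CategoryTheory.Limits AlgebraicGeometry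

noncomputable section

namespace Groth.Agent.H14IsoNat

open H14Fib H14Stk H14AlgSt

variable {S : Scheme.{u}}

local notation "K₀" => Scheme.fppfPrecoverage

section Chart

variable {𝒵 : AlgSt.Cat S} {Z U B T : Over S} {F : FibCat.overCat Z ⥤ᵇ 𝒵}
  {G : FibCat.overCat U ⥤ᵇ 𝒵} {c : FibCat.overCat B ⥤ᵇ FibCat.fp F G} {u₀ : B ⟶ U} {h : B ⟶ Z}
  (hg : FibCat.IsFibGrpd 𝒵.p) {ω : VIso F G h u₀} (κ₀ : c.obj (Over.mk (𝟙 B)) ≅ ω.obj)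
  (hκ₀ : (FibCat.fp F G).p.IsHomLift (𝟙 B) κ₀.hom)

include hg hκ₀ in
lemma exists_kappa {w : T ⟶ B} {p : T ⟶ Z} {q : T ⟶ U} {γ : VIso F G p q} (hw : IsRes w ω γ) :
    ∃ κ : c.obj (Over.mk w) ≅ γ.obj, (FibCat.fp F G).p.IsHomLift (𝟙 T) κ.hom := by
  obtain ⟨ψ, hψ⟩ := hw.exists_hom
  have : (FibCat.fp F G).p.IsHomLift w (c.map (mkHom w (Category.comp_id w)) ≫ κ₀.hom) :=
    lift_then_vert (map_mkHom_lift c w (Category.comp_id w)) hκ₀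
  obtain ⟨κ, hκ, -⟩ := id exists_vertIso
    (fp_fibGrpd (fibGrpd_overCat Z) (fibGrpd_overCat U) hg) w
    (c.map (mkHom w (Category.comp_id w)) ≫ κ₀.hom) ψ
  exact ⟨κ, hκ⟩

include hκ₀ in
lemma isRes_of_kappa {w : T ⟶ B} {p : T ⟶ Z} {q : T ⟶ U} {γ : VIso F G p q}
    (κ : c.obj (Over.mk w) ≅ γ.obj) (hκ : (FibCat.fp F G).p.IsHomLift (𝟙 T) κ.hom) :
    IsRes w ω γ :=
  pt_nat w (Category.comp_id w) κ₀ hκ₀ κ hκ

include hg hκ₀ in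
lemma exists_lift_chart (hce : AlgSt.RepByAlgSpWith (AlgSp.LocP @Etale) c)
    (hcs : AlgSt.RepByAlgSpWith AlgSp.IsSurjectiveMor c) {p : T ⟶ Z} {q : T ⟶ U}
    (γ : VIso F G p q) :
    ∃ (T' : Over S) (e : T' ⟶ T) (w : T' ⟶ B) (γ' : VIso F G (e ≫ p) (e ≫ q)),
      Etale e.left ∧ Surjective e.left ∧ IsRes e γ γ' ∧ IsRes w ω γ' := by
  have hfp := fp_fibGrpd (F := F) (G := G) (fibGrpd_overCat Z) (fibGrpd_overCat U) hg
  obtain ⟨T', e, w, χ, he, hes, hχ⟩ := exists_lift_et hfp hce hcs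
    (o := γ.obj) (T := T) rfl
  obtain ⟨γ', hγ'⟩ := exists_res hg e γ (rfl : e ≫ p = e ≫ p) (rfl : e ≫ q = e ≫ q)
  obtain ⟨ψ, hψ⟩ := hγ'.exists_hom
  obtain ⟨κ, hκ, -⟩ := exists_vertIso hfp e χ ψ
  exact ⟨T', e, w, γ', he, hes, hγ', isRes_of_kappa κ₀ hκ₀ κ hκ⟩

end Chart

variable {𝒳 𝒴 : AlgSt.Cat S} [hX : SepStack 𝒳] [hY : SepStack 𝒴] {U : Over S}

/-- A chart over whose smooth pullbacks isomorphisms are unique. -/
def RigidChart (y : FibCat.overCat U ⥤ᵇ 𝒴) : Prop :=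
  ∀ {W : Over S} (k : W ⟶ U), Smooth k.left → ∀ (l : W ⟶ U) (a b : VIso y y k l), a = b

/-- A smooth chart of a bald stack is rigid. -/
theorem rigid_of_bald
    (hb : ∀ (W : Over S) (w : FibCat.overCat W ⥤ᵇ 𝒴),
      AlgSt.RepByAlgSpWith (AlgSp.LocP @Smooth) w → ∃ V : W.left.Opens,
        (∀ (T : Over S) (g : T ⟶ W), (∃ g' : T.left ⟶ ↑V, g' ≫ V.ι = g.left) ↔
          IsoNat.IsClean (w.obj (Over.mk g))) ∧ CInt.IsSchematicallyDense V)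
    {y : FibCat.overCat U ⥤ᵇ 𝒴} (hy : AlgSt.RepByAlgSpWith (AlgSp.LocP @Smooth) y) :
    RigidChart y := by
  intro W k hk l a b
  have hg := hY.isStack.1
  have := hk
  obtain ⟨V, hV, hd⟩ := hb W (BasedFunctor.comp (AlgSt.overMap k) y)
    (repWith_locP_comp H12AlgSp.etLocal_smooth (fibGrpd_overCat W) (fibGrpd_overCat U)
      (repWith_overMap_smooth k) hy)
  let j : Over.mk (V.ι ≫ W.hom) ⟶ W := Over.homMk V.ι rfl
  have hker : j.left.ker = ⊥ := H19Grp.ker_opens_ι_eq_bot V fun V' => hd V'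
  have hclean : IsoNat.IsClean (y.obj (Over.mk (j ≫ k))) :=
    (hV _ j).1 ⟨𝟙 _, Category.id_comp _⟩
  let ψ := y.map (mkHom j (rfl : j ≫ k = j ≫ k))
  have hψ : 𝒴.p.IsHomLift j ψ := map_mkHom_lift y j rfl
  let s := a.1.hom ≫ b.1.inv
  have hs : 𝒴.p.IsHomLift (𝟙 W) s :=
    homLift_id_comp a.2 (@IsHomLift.lift_id_inv _ _ _ _ 𝒴.p _ _ _ _ b.2)
  have h1 : 𝒴.p.IsHomLift j (ψ ≫ s) := lift_then_vert hψ hs
  obtain ⟨r, hr, hr'⟩ := exists_vertIso hg j (ψ ≫ s) ψ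
  have hr1 : r.hom = 𝟙 _ := hclean _ (𝟙 _) r.hom (by
    rw [@IsHomLift.fac' _ _ _ _ 𝒴.p _ _ _ _ (𝟙 _) r.hom hr]
    simp)
  rw [hr1, Category.id_comp] at hr'
  have he : s = 𝟙 _ := eq_of_agree hg hY.diag j hker (y.w_obj _) ψ hψ hs
    (IsHomLift.id (y.w_obj _)) (by rw [Category.comp_id]; exact hr'.symm)
  refine VIso.ext' ?_
  rw [← Category.comp_id a.1.hom, ← b.1.inv_hom_id, ← Category.assoc]
  change s ≫ _ = _
  rw [he, Category.id_comp]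

/-- A natural family of maps of isomorphisms of values. -/
structure NatMap (x : FibCat.overCat U ⥤ᵇ 𝒳) (y : FibCat.overCat U ⥤ᵇ 𝒴) where
  /-- the maps -/
  app : ∀ {T : Over S} {p q : T ⟶ U}, VIso x x p q → VIso y y p q
  nat : ∀ {T' T : Over S} {k : T' ⟶ T} {p q : T ⟶ U} {γ : VIso x x p q} {p' q' : T' ⟶ U}
    {γ' : VIso x x p' q'}, IsRes k γ γ' → IsRes k (app γ) (app γ')

variable {x : FibCat.overCat U ⥤ᵇ 𝒳} {y : FibCat.overCat U ⥤ᵇ 𝒴}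

/-- The identity. -/
def NatMap.id (x : FibCat.overCat U ⥤ᵇ 𝒳) : NatMap x x := ⟨fun γ => γ, fun h => h⟩

/-- Composition. -/
def NatMap.comp {𝒲 : AlgSt.Cat S} {z : FibCat.overCat U ⥤ᵇ 𝒲} (F : NatMap x y) (G : NatMap y z) :
    NatMap x z :=
  ⟨fun γ => G.app (F.app γ), fun h => G.nat (F.nat h)⟩

/-- A chart of the pairs of values of a smooth chart. -/
lemma exists_pair_chart (hx : AlgSt.RepByAlgSpWith (AlgSp.LocP @Smooth) x) :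
    ∃ (B : Over S) (c : FibCat.overCat B ⥤ᵇ FibCat.fp x x) (h u₀ : B ⟶ U) (ω : VIso x x h u₀)
      (κ₀ : c.obj (Over.mk (𝟙 B)) ≅ ω.obj),
      Smooth h.left ∧ AlgSt.RepByAlgSpWith (AlgSp.LocP @Etale) c ∧
        AlgSt.RepByAlgSpWith AlgSp.IsSurjectiveMor c ∧
        (FibCat.fp x x).p.IsHomLift (𝟙 B) κ₀.hom := by
  obtain ⟨B, c, h, hh, ⟨j⟩, hce, hcs⟩ := exists_chart_data x x hx
  obtain ⟨u₀, ω, κ₀, hκ₀⟩ := exists_pt j (𝟙 B) (Category.id_comp h)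
  exact ⟨B, c, h, u₀, ω, κ₀, hh, hce, hcs, hκ₀⟩

/-- Natural maps into a rigid chart agree. -/
theorem natMap_ext (hx : AlgSt.RepByAlgSpWith (AlgSp.LocP @Smooth) x) (hr : RigidChart y)
    (F₁ F₂ : NatMap x y) {T : Over S} {p q : T ⟶ U} (γ : VIso x x p q) :
    F₁.app γ = F₂.app γ := by
  obtain ⟨B, c, h, u₀, ω, κ₀, hh, hce, hcs, hκ₀⟩ := exists_pair_chart hx
  obtain ⟨T', e, w, γ', he, hes, h₁, h₂⟩ := exists_lift_chart hX.isStack.1 κ₀ hκ₀ hce hcs γ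
  have := he
  have := hes
  have e1 := F₁.nat h₂
  have e2 := F₂.nat h₂
  rw [← hr h hh u₀ (F₁.app ω) (F₂.app ω)] at e2
  have e3 := F₂.nat h₁
  rw [← isRes_unique hY.isStack.1 e1 e2] at e3
  exact viso_ext_of_cover hY.isStack e (F₁.nat h₁) e3

/-- Natural maps into a rigid chart respect composition. -/
theorem natMap_trans (hx : AlgSt.RepByAlgSpWith (AlgSp.LocP @Smooth) x) (hr : RigidChart y)
    (F : NatMap x y) {T : Over S} {p q r : T ⟶ U} (γ₁ : VIso x x p q) (γ₂ : VIso x x q r) :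
    F.app (γ₁.trans γ₂) = (F.app γ₁).trans (F.app γ₂) := by
  have hXg := hX.isStack.1
  have hYg := hY.isStack.1
  obtain ⟨B, c, h, u₀, ω, κ₀, hh, hce, hcs, hκ₀⟩ := exists_pair_chart hx
  obtain ⟨T₁, e₁, w₁, γ₁', he₁, hes₁, h₁, h₁'⟩ := exists_lift_chart hXg κ₀ hκ₀ hce hcs γ₁
  obtain ⟨γ₂', h₂⟩ := exists_res hXg e₁ γ₂ (rfl : e₁ ≫ q = e₁ ≫ q) (rfl : e₁ ≫ r = e₁ ≫ r)
  obtain ⟨T₂, e₂, w₂, γ₂'', he₂, hes₂, h₃, h₄⟩ := exists_lift_chart hXg κ₀ hκ₀ hce hcs γ₂'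
  obtain ⟨γ₁'', h₅⟩ := exists_res hXg e₂ γ₁' (rfl : e₂ ≫ e₁ ≫ p = e₂ ≫ e₁ ≫ p)
    (rfl : e₂ ≫ e₁ ≫ q = e₂ ≫ e₁ ≫ q)
  have h₆ : IsRes (e₂ ≫ w₁) ω γ₁'' := h₁'.trans h₅
  obtain ⟨a₁, a₂, -⟩ := id h₆
  obtain ⟨b₁, b₂, -⟩ := id h₄
  -- the pairs of composable points
  let π₁ := pullback.fst u₀ h
  let π₂ := pullback.snd u₀ h
  have := hh
  have : Smooth π₁.left := MorphismProperty.of_isPullback (P := @Smooth)
    ((IsPullback.of_hasPullback u₀ h).map (Over.forget S)).flip hh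
  have hsm : Smooth (π₁ ≫ h).left := inferInstanceAs (Smooth (π₁.left ≫ h.left))
  obtain ⟨Γ₁, hΓ₁⟩ := exists_res hXg π₁ ω (rfl : π₁ ≫ h = π₁ ≫ h) (rfl : π₁ ≫ u₀ = π₁ ≫ u₀)
  obtain ⟨Γ₂, hΓ₂⟩ := exists_res hXg π₂ ω (pullback.condition.symm : π₂ ≫ h = π₁ ≫ u₀)
    (rfl : π₂ ≫ u₀ = π₂ ≫ u₀)
  have key := hr (π₁ ≫ h) hsm _ (F.app (Γ₁.trans Γ₂)) ((F.app Γ₁).trans (F.app Γ₂))
  let v := pullback.lift (e₂ ≫ w₁) w₂ (by rw [a₂, b₁])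
  have hv₁ : v ≫ π₁ = e₂ ≫ w₁ := pullback.lift_fst _ _ _
  have hv₂ : v ≫ π₂ = w₂ := pullback.lift_snd _ _ _
  obtain ⟨X₁, hX₁⟩ := exists_res hXg v Γ₁
    (show v ≫ π₁ ≫ h = e₂ ≫ e₁ ≫ p by rw [← Category.assoc, hv₁, a₁])
    (show v ≫ π₁ ≫ u₀ = e₂ ≫ e₁ ≫ q by rw [← Category.assoc, hv₁, a₂])
  obtain ⟨X₂, hX₂⟩ := exists_res hXg v Γ₂
    (show v ≫ π₁ ≫ u₀ = e₂ ≫ e₁ ≫ q by rw [← Category.assoc, hv₁, a₂])
    (show v ≫ π₂ ≫ u₀ = e₂ ≫ e₁ ≫ r by rw [← Category.assoc, hv₂, b₂])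
  obtain rfl : X₁ = γ₁'' := isRes_unique hXg (hv₁ ▸ hΓ₁.trans hX₁) h₆
  obtain rfl : X₂ = γ₂'' := isRes_unique hXg (hv₂ ▸ hΓ₂.trans hX₂) h₄
  have R1 : IsRes (e₂ ≫ e₁) γ₁ X₁ := h₁.trans h₅
  have R2 : IsRes (e₂ ≫ e₁) γ₂ X₂ := h₂.trans h₃
  have A := F.nat (hX₁.vtrans hX₂)
  have A' := (F.nat hX₁).vtrans (F.nat hX₂)
  rw [key] at A
  have := he₁
  have := hes₁
  have := he₂
  have := hes₂
  have : Flat (e₂ ≫ e₁).left := inferInstanceAs (Flat (e₂.left ≫ e₁.left))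
  have : LocallyOfFinitePresentation (e₂ ≫ e₁).left :=
    inferInstanceAs (LocallyOfFinitePresentation (e₂.left ≫ e₁.left))
  have : Surjective (e₂ ≫ e₁).left := inferInstanceAs (Surjective (e₂.left ≫ e₁.left))
  have B' := (F.nat R1).vtrans (F.nat R2)
  rw [← isRes_unique hYg A A'] at B'
  exact viso_ext_of_cover hY.isStack (e₂ ≫ e₁) (F.nat (R1.vtrans R2)) B'

variable {B : Over S} {c : FibCat.overCat B ⥤ᵇ FibCat.fp x x} {h u₀ : B ⟶ U} {ω : VIso x x h u₀}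
  {κ₀ : c.obj (Over.mk (𝟙 B)) ≅ ω.obj}

/-- The image of an isomorphism of values under the map attached to the chart. -/
def Img (ω : VIso x x h u₀) (τ : VIso y y h u₀) {T : Over S} {p q : T ⟶ U} (γ : VIso x x p q)
    (δ : VIso y y p q) : Prop :=
  ∀ {T' : Over S} (e : T' ⟶ T) (w : T' ⟶ B) {p' q' : T' ⟶ U} (γ' : VIso x x p' q')
    (δ' : VIso y y p' q'), IsRes e γ γ' → IsRes w ω γ' → IsRes e δ δ' → IsRes w τ δ'

include hX hY in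
/-- Two lifts of the same pair give the same image. -/
lemma img_indep (hκ₀ : (FibCat.fp x x).p.IsHomLift (𝟙 B) κ₀.hom) (hh : Smooth h.left)
    (hce : AlgSt.RepByAlgSpWith (AlgSp.LocP @Etale) c) (hr : RigidChart y) (τ : VIso y y h u₀)
    {T : Over S} {p q : T ⟶ U} {γ : VIso x x p q} {w₁ w₂ : T ⟶ B} (h₁ : IsRes w₁ ω γ)
    (h₂ : IsRes w₂ ω γ) {δ₁ δ₂ : VIso y y p q} (d₁ : IsRes w₁ τ δ₁) (d₂ : IsRes w₂ τ δ₂) :
    δ₁ = δ₂ := by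
  have hXg := hX.isStack.1
  have hYg := hY.isStack.1
  have hfp := fp_fibGrpd (F := x) (G := x) (fibGrpd_overCat U) (fibGrpd_overCat U) hXg
  obtain ⟨κ₁, hκ₁⟩ := exists_kappa hXg κ₀ hκ₀ h₁
  obtain ⟨κ₂, hκ₂⟩ := exists_kappa hXg κ₀ hκ₀ h₂
  let γ₀ : VIso c c w₁ w₂ := ⟨κ₁ ≪≫ κ₂.symm,
    homLift_id_comp hκ₁ (@IsHomLift.lift_id_inv _ _ _ _ (FibCat.fp x x).p _ _ _ κ₂ hκ₂)⟩
  obtain ⟨B₁, a₁, g₁, hg₁, ⟨j₁⟩, ha₁, has₁⟩ := exists_chart_data c c hce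
  obtain ⟨u₁, β₁, κ', hκ'⟩ := exists_pt j₁ (𝟙 B₁) (Category.id_comp g₁)
  obtain ⟨T', e, v, γ₀', he, hes, k₁, k₂⟩ := exists_lift_chart hfp κ' hκ' ha₁ has₁ γ₀
  obtain ⟨c₁, c₂, -⟩ := id k₂
  -- on the chart of pairs of lifts
  obtain ⟨γ₁, hγ₁⟩ := exists_res hXg g₁ ω (rfl : g₁ ≫ h = g₁ ≫ h) (rfl : g₁ ≫ u₀ = g₁ ≫ u₀)
  obtain ⟨κg, hκg⟩ := exists_kappa hXg κ₀ hκ₀ hγ₁
  have hγu : IsRes u₁ ω γ₁ := isRes_of_kappa κ₀ hκ₀ (β₁.1.symm ≪≫ κg)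
    (homLift_id_comp (@IsHomLift.lift_id_inv _ _ _ _ (FibCat.fp x x).p _ _ _ β₁.1 β₁.2) hκg)
  obtain ⟨d, d', -⟩ := id hγu
  obtain ⟨τa, hτa⟩ := exists_res hYg g₁ τ (rfl : g₁ ≫ h = g₁ ≫ h) (rfl : g₁ ≫ u₀ = g₁ ≫ u₀)
  obtain ⟨τb, hτb⟩ := exists_res hYg u₁ τ d d'
  have := hh
  have := hg₁
  have hsm : Smooth (g₁ ≫ h).left := inferInstanceAs (Smooth (g₁.left ≫ h.left))
  obtain rfl : τa = τb := hr (g₁ ≫ h) hsm _ τa τb
  obtain ⟨p₁, q₁, -⟩ := id d₁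
  obtain ⟨X, hX'⟩ := exists_res hYg v τa
    (show v ≫ g₁ ≫ h = e ≫ p by rw [← Category.assoc, c₁, Category.assoc, p₁])
    (show v ≫ g₁ ≫ u₀ = e ≫ q by rw [← Category.assoc, c₁, Category.assoc, q₁])
  obtain ⟨δ₁', hδ₁⟩ := exists_res hYg e δ₁ (rfl : e ≫ p = e ≫ p) (rfl : e ≫ q = e ≫ q)
  obtain ⟨δ₂', hδ₂⟩ := exists_res hYg e δ₂ (rfl : e ≫ p = e ≫ p) (rfl : e ≫ q = e ≫ q)
  have x₁ : δ₁' = X := by
    have := hτa.trans hX'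
    rw [c₁] at this
    exact isRes_unique hYg ((show IsRes w₁ τ δ₁ by assumption).trans hδ₁) this
  have x₂ : δ₂' = X := by
    have := hτb.trans hX'
    rw [c₂] at this
    exact isRes_unique hYg (d₂.trans hδ₂) this
  have := he
  have := hes
  exact viso_ext_of_cover hY.isStack e (x₁ ▸ hδ₁) (x₂ ▸ hδ₂)

variable (hκ₀ : (FibCat.fp x x).p.IsHomLift (𝟙 B) κ₀.hom) (hh : Smooth h.left)
  (hce : AlgSt.RepByAlgSpWith (AlgSp.LocP @Etale) c)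
  (hcs : AlgSt.RepByAlgSpWith AlgSp.IsSurjectiveMor c)

include hX hY hκ₀ hh hce hcs in
lemma exists_img (hr : RigidChart y) (τ : VIso y y h u₀) {T : Over S} {p q : T ⟶ U}
    (γ : VIso x x p q) : ∃! δ, Img ω τ γ δ := by
  have hXg := hX.isStack.1
  have hYg := hY.isStack.1
  obtain ⟨T', e, w, γ', he, hes, k₁, k₂⟩ := exists_lift_chart hXg κ₀ hκ₀ hce hcs γ
  obtain ⟨a₁, a₂, -⟩ := id k₂
  have k₂ : IsRes w ω γ' := by assumption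
  obtain ⟨δ', hδ'⟩ := exists_res hYg w τ a₁ a₂
  have := he
  have := hes
  obtain ⟨δ, hδ⟩ := viso_glue hY.isStack e δ' (by
    intro T'' n n' hn ζ'' u'' a b ha hb
    obtain ⟨e₁, e₂, -⟩ := id ha
    obtain ⟨γ'', hγ''⟩ := exists_res hXg n γ' e₁ e₂
    obtain ⟨f₁, f₂, -⟩ := id hb
    obtain ⟨γn, hγn⟩ := exists_res hXg n' γ' f₁ f₂
    obtain rfl : γn = γ'' := isRes_unique hXg (hn ▸ k₁.trans hγn) (k₁.trans hγ'')
    exact img_indep hκ₀ hh hce hr τ (k₂.trans hγ'') (k₂.trans hγn)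
      (hδ'.trans (show IsRes n δ' a by assumption)) (hδ'.trans (show IsRes n' δ' b by assumption)))
  refine ⟨δ, ?_, fun δ₂ hδ₂ => ?_⟩
  · intro S' f w' p' q' γf δf hγf hwf hδf
    let π₁ := pullback.fst e f
    let π₂ := pullback.snd e f
    have hcond : π₁ ≫ e = π₂ ≫ f := pullback.condition
    have sq := ((IsPullback.of_hasPullback e f).map (Over.forget S)).flip
    have : Etale π₂.left := MorphismProperty.of_isPullback (P := @Etale) sq.flip he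
    have : Surjective π₂.left := MorphismProperty.of_isPullback (P := @Surjective) sq.flip hes
    obtain ⟨γP, hγP⟩ := exists_res hXg π₂ γf (rfl : π₂ ≫ p' = π₂ ≫ p') (rfl : π₂ ≫ q' = π₂ ≫ q')
    obtain ⟨δP, hδP⟩ := exists_res hYg π₂ δf (rfl : π₂ ≫ p' = π₂ ≫ p') (rfl : π₂ ≫ q' = π₂ ≫ q')
    obtain ⟨r₁, r₂, -⟩ := id hγf
    have hγf : IsRes f γ γf := by assumption
    have t₁ : π₁ ≫ e ≫ p = π₂ ≫ p' := by rw [← Category.assoc, hcond, Category.assoc, r₁]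
    have t₂ : π₁ ≫ e ≫ q = π₂ ≫ q' := by rw [← Category.assoc, hcond, Category.assoc, r₂]
    obtain ⟨γP', hγP'⟩ := exists_res hXg π₁ γ' t₁ t₂
    obtain ⟨δP', hδP'⟩ := exists_res hYg π₁ δ' t₁ t₂
    obtain rfl : γP' = γP := isRes_unique hXg (hcond ▸ k₁.trans hγP') (hγf.trans hγP)
    obtain rfl : δP' = δP := isRes_unique hYg (hcond ▸ hδ.trans hδP') (hδf.trans hδP)
    obtain ⟨s₁, s₂, -⟩ := id hwf
    obtain ⟨X, hX'⟩ := exists_res hYg w' τ s₁ s₂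
    obtain ⟨XP, hXP⟩ := exists_res hYg π₂ X (rfl : π₂ ≫ p' = π₂ ≫ p') (rfl : π₂ ≫ q' = π₂ ≫ q')
    obtain rfl : XP = δP' := img_indep hκ₀ hh hce hr τ
      ((show IsRes w' ω γf by assumption).trans hγP) (k₂.trans hγP') (hX'.trans hXP)
      (hδ'.trans hδP')
    exact viso_ext_of_cover hY.isStack π₂ hXP hδP ▸ hX'
  · obtain ⟨δ'', hδ''⟩ := exists_res hYg e δ₂ (rfl : e ≫ p = e ≫ p) (rfl : e ≫ q = e ≫ q)
    obtain rfl : δ'' = δ' := isRes_unique hYg (hδ₂ e w γ' δ'' k₁ k₂ hδ'') hδ'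
    exact viso_ext_of_cover hY.isStack e hδ'' hδ

omit hκ₀ hh hce hcs in
/-- The natural map from one rigid chart to a corresponding one. -/
theorem exists_natMap {φ : IsoNat.FIso 𝒳 𝒴} (hxy : Corresp φ x y)
    (hx : AlgSt.RepByAlgSpWith (AlgSp.LocP @Smooth) x) (hr : RigidChart y) :
    Nonempty (NatMap x y) := by
  obtain ⟨B, c, h, u₀, ω, κ₀, hh, hce, hcs, hκ₀⟩ := exists_pair_chart hx
  obtain ⟨τ⟩ := exists_viso_fwd hxy hxy ω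
  have H := fun {T : Over S} {p q : T ⟶ U} (γ : VIso x x p q) =>
    exists_img hκ₀ hh hce hcs hr τ γ
  refine ⟨{ app := fun γ => (H γ).exists.choose, nat := fun {T' T k p q γ p' q' γ'} hk => ?_ }⟩
  obtain ⟨d₁, d₂, -⟩ := id hk
  obtain ⟨δ', hδ'⟩ := exists_res hY.isStack.1 k (H γ).exists.choose d₁ d₂
  have e : (H γ').exists.choose = δ' := (H γ').unique (H γ').exists.choose_spec
    (by
      intro T'' f w p'' q'' γf δf h₁ h₂ h₃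
      exact (H γ).exists.choose_spec (f ≫ k) w γf δf (hk.trans h₁) h₂ (hδ'.trans h₃))
  rw [e]
  exact hδ'

end Groth.Agent.H14IsoNat
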