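import Groth.Agent.S0537
import Groth.Agent.S0539
import Groth.Agent.S1488
import Groth.Agent.H8Props.FormallySmoothScheme
import Mathlib.RingTheory.Smooth.Basic
import Mathlib.RingTheory.Unramified.Basic
import Mathlib.Algebra.MvPolynomial.PDeriv

/-!
# Formal smoothness and unramifiedness tested on strictly henselian local rings
-/

set_option autoImplicit false

universe u

open TensorProduct MvPolynomial

noncomputable section

namespace Groth.Agent.H14IsoNat.SHCrit

/-- A flat strictly henselian local algebra over a prime. -/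
theorem exists_sh (Q : Type u) [CommRing Q] (q : Ideal Q) [q.IsPrime] :
    ∃ (R : Type u) (_ : CommRing R) (_ : HenselianLocalRing R)
      (_ : IsSepClosed (IsLocalRing.ResidueField R)) (_ : Algebra Q R),
      Module.Flat Q R ∧ q.map (algebraMap Q R) ≠ ⊤ := by
  obtain ⟨R, iR, iL, iA, iH, hR⟩ := S0537.result (Localization.AtPrime q)
  letI : Algebra Q R := ((algebraMap (Localization.AtPrime q) R).comp
    (algebraMap Q (Localization.AtPrime q))).toAlgebra
  haveI : IsScalarTower Q (Localization.AtPrime q) R := IsScalarTower.of_algebraMap_eq' rfl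
  haveI := S0539.result (Localization.AtPrime q) R
  haveI := hR.isSepClosure
  refine ⟨R, iR, hR.henselian, IsSepClosure.sep_closed (IsLocalRing.ResidueField (Localization.AtPrime q)),
    inferInstance, Module.Flat.trans Q (Localization.AtPrime q) R, ?_⟩
  intro h
  rw [IsScalarTower.algebraMap_eq Q (Localization.AtPrime q) R, ← Ideal.map_map] at h
  rw [Localization.AtPrime.map_eq_maximalIdeal] at h
  exact (IsLocalRing.maximalIdeal.isMaximal R).ne_top
    (top_le_iff.1 (h ▸ Ideal.map_le_iff_le_comap.2 (fun x hx => fun hu => hx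
      (IsUnit.of_map (algebraMap (Localization.AtPrime q) R) x hu))))

/-- An element killed by a flat algebra has annihilator generating the unit ideal. -/
theorem map_colon_eq_top {Q R N : Type u} [CommRing Q] [CommRing R] [Algebra Q R] [Module.Flat Q R]
    [AddCommGroup N] [Module Q N] (n : N) (h : (1 : R) ⊗ₜ[Q] n = 0) :
    Ideal.map (algebraMap Q R) (LinearMap.ker (LinearMap.toSpanSingleton Q N n)) = ⊤ := by
  let f := LinearMap.toSpanSingleton Q N n
  have hinj : Function.Injective ((LinearMap.ker f).liftQ f le_rfl) :=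
    LinearMap.ker_eq_bot.1 (Submodule.ker_liftQ_eq_bot _ _ _ le_rfl)
  have h0 : (1 : R) ⊗ₜ[Q] (Submodule.Quotient.mk 1 : Q ⧸ LinearMap.ker f) = 0 := by
    apply Module.Flat.lTensor_preserves_injective_linearMap (M := R) _ hinj
    rw [map_zero, LinearMap.lTensor_tmul, Submodule.liftQ_apply]
    simpa [f] using h
  have h1 := congrArg (Algebra.TensorProduct.quotIdealMapEquivTensorQuot R (LinearMap.ker f)).symm h0
  rw [map_zero] at h1
  rw [Ideal.eq_top_iff_one, ← Ideal.Quotient.eq_zero_iff_mem]
  rw [← h1]
  exact ((Algebra.TensorProduct.quotIdealMapEquivTensorQuot R (LinearMap.ker f)).symm_apply_eq.2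
    (by simp; rfl)).symm

/-- First order expansion of a polynomial map along a square-zero change of the variables. -/
theorem taylor {B R σ : Type*} [CommRing B] [CommRing R] [Fintype σ] (f g : MvPolynomial σ B →+* R)
    (hC : ∀ b, g (C b) = f (C b)) (hv : ∀ i j, (g (X i) - f (X i)) * (g (X j) - f (X j)) = 0)
    (p : MvPolynomial σ B) :
    g p = f p + ∑ i, f (pderiv i p) * (g (X i) - f (X i)) := by
  classical
  induction p using MvPolynomial.induction_on with
  | C b => simp [hC]
  | add p q hp hq =>
    simp only [map_add, hp, hq, add_mul, Finset.sum_add_distrib]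
    ring
  | mul_X p j hp =>
    have hz : (∑ i, f (pderiv i p) * (g (X i) - f (X i))) * (g (X j) - f (X j)) = 0 := by
      rw [Finset.sum_mul]
      exact Finset.sum_eq_zero fun i _ => by rw [mul_assoc, hv i j, mul_zero]
    have hs : ∑ i, f (pderiv i (p * X j)) * (g (X i) - f (X i)) =
        (∑ i, f (pderiv i p) * (g (X i) - f (X i))) * f (X j) + f p * (g (X j) - f (X j)) := by
      simp only [Derivation.leibniz, pderiv_X, smul_eq_mul, map_add, map_mul, add_mul,
        Finset.sum_add_distrib, Finset.sum_mul]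
      rw [add_comm]
      congr 1
      · exact Finset.sum_congr rfl fun i _ => by ring
      · rw [Finset.sum_eq_single j (fun i _ hij => by simp [Pi.single_eq_of_ne (Ne.symm hij)])
          (fun h => absurd (Finset.mem_univ j) h)]
        simp
    rw [hs, map_mul, map_mul, hp]
    linear_combination hz

variable {B A : Type u} [CommRing B] [CommRing A] [Algebra B A]

/-- Formal smoothness from the existence of lifts on flat algebras around each prime. -/
theorem formallySmooth_of_lifts {n r : ℕ} (π : MvPolynomial (Fin n) B →ₐ[B] A)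
    (hπ : Function.Surjective π) (g : Fin r → MvPolynomial (Fin n) B)
    (hg : RingHom.ker π.toRingHom = Ideal.span (Set.range g))
    (H : ∀ (q : Ideal (MvPolynomial (Fin n) B ⧸ RingHom.ker π.toRingHom ^ 2)), q.IsPrime →
      ∃ (R : Type u) (_ : CommRing R) (_ : Algebra (MvPolynomial (Fin n) B ⧸ RingHom.ker π.toRingHom ^ 2) R)
        (h : A →+* R), Module.Flat (MvPolynomial (Fin n) B ⧸ RingHom.ker π.toRingHom ^ 2) R ∧
        q.map (algebraMap (MvPolynomial (Fin n) B ⧸ RingHom.ker π.toRingHom ^ 2) R) ≠ ⊤ ∧
        (∀ b, h (algebraMap B A b) =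
          algebraMap (MvPolynomial (Fin n) B ⧸ RingHom.ker π.toRingHom ^ 2) R
            (Ideal.Quotient.mk (RingHom.ker π.toRingHom ^ 2) (C b))) ∧
        ∀ i, h (π (X i)) - algebraMap (MvPolynomial (Fin n) B ⧸ RingHom.ker π.toRingHom ^ 2) R
            (Ideal.Quotient.mk (RingHom.ker π.toRingHom ^ 2) (X i)) ∈
          ((RingHom.ker π.toRingHom).map (Ideal.Quotient.mk (RingHom.ker π.toRingHom ^ 2))).map
            (algebraMap (MvPolynomial (Fin n) B ⧸ RingHom.ker π.toRingHom ^ 2) R)) :
    Algebra.FormallySmooth B A := by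
  classical
  set J := RingHom.ker π.toRingHom
  let Q := MvPolynomial (Fin n) B ⧸ J ^ 2
  let mk : MvPolynomial (Fin n) B →+* Q := Ideal.Quotient.mk (J ^ 2)
  let JQ : Ideal Q := J.map mk
  have hJ2 : ∀ x ∈ JQ, ∀ y ∈ JQ, x * y = 0 := fun x hx y hy => by
    have h2 : x * y ∈ JQ ^ 2 := (pow_two JQ).ge (Ideal.mul_mem_mul hx hy)
    have h3 : (J ^ 2).map mk = ⊥ := Ideal.map_quotient_self _
    rw [Ideal.map_pow] at h3
    exact (Submodule.mem_bot Q).1 (h3.le h2)
  let Φ : (Fin n → ↥JQ) →ₗ[Q] (Fin r → Q) :=
    { toFun := fun v k => ∑ i, mk (pderiv i (g k)) * (v i).1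
      map_add' := fun v w => funext fun k => by simp [mul_add, Finset.sum_add_distrib]
      map_smul' := fun c v => funext fun k => by
        change ∑ i, mk (pderiv i (g k)) * (c * (v i).1) = c * ∑ i, mk (pderiv i (g k)) * (v i).1
        rw [Finset.mul_sum]
        exact Finset.sum_congr rfl fun i _ => mul_left_comm _ _ _ }
  let L := LinearMap.range Φ
  let e : Fin r → Q := fun k => mk (g k)
  let N := (Fin r → Q) ⧸ L
  let Ann := LinearMap.ker (LinearMap.toSpanSingleton Q N (Submodule.Quotient.mk e))
  have htop : Ann = ⊤ := by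
    by_contra hne
    obtain ⟨q, hq, hle⟩ := Ideal.exists_le_maximal Ann hne
    obtain ⟨R, iR, iA, h, hflat, hqR, hC, hX⟩ := H q hq.isPrime
    refine hqR (top_le_iff.1 ((map_colon_eq_top (R := R) (Submodule.Quotient.mk e : N) ?_).symm.trans_le
      (Ideal.map_mono hle)))
    let κ : MvPolynomial (Fin n) B →+* R := (algebraMap Q R).comp mk
    let h' : MvPolynomial (Fin n) B →+* R := h.comp π.toRingHom
    let v : Fin n → R := fun i => h' (X i) - κ (X i)
    have hv2 : ∀ i j, v i * v j = 0 := fun i j => by
      have h2 := Ideal.mul_mem_mul (hX i) (hX j)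
      rw [← Ideal.map_mul] at h2
      have h3 : JQ * JQ ≤ ⊥ := Ideal.mul_le.2 fun x hx y hy => (Submodule.mem_bot Q).2 (hJ2 x hx y hy)
      exact (Submodule.mem_bot R).1 ((Ideal.map_bot (f := algebraMap Q R)).le (Ideal.map_mono h3 h2))
    have hC' : ∀ b, h' (C b) = κ (C b) := fun b => by
      change h (π (C b)) = _
      rw [← MvPolynomial.algebraMap_eq, AlgHom.commutes]
      exact hC b
    -- the vector `e` in the span over `R`
    let Ψ : (Fin r → R) →ₗ[R] R ⊗[Q] N :=
      Fintype.linearCombination R fun k => (1 : R) ⊗ₜ[Q] (Submodule.Quotient.mk (Pi.single k 1) : N)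
    have hΨ : ∀ l : Fin r → Q, Ψ (fun k => algebraMap Q R (l k)) =
        (1 : R) ⊗ₜ[Q] (Submodule.Quotient.mk l : N) := fun l => by
      simp only [Ψ, Fintype.linearCombination_apply, algebraMap_smul, ← TensorProduct.tmul_smul,
        ← TensorProduct.tmul_sum]
      congr 1
      conv_rhs => rw [pi_eq_sum_univ' l]
      rw [← Submodule.mkQ_apply, map_sum]
      exact Finset.sum_congr rfl fun k _ => by rw [map_smul]; rfl
    have hcol : ∀ i, ∀ w ∈ JQ.map (algebraMap Q R),
        Ψ (fun k => κ (pderiv i (g k)) * w) = 0 := by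
      intro i w hw
      change w ∈ Submodule.span R ((algebraMap Q R) '' (JQ : Set Q)) at hw
      induction hw using Submodule.span_induction with
      | mem w hw =>
        obtain ⟨j, hj, rfl⟩ := hw
        rw [show (fun k => κ (pderiv i (g k)) * algebraMap Q R j) =
          fun k => algebraMap Q R (mk (pderiv i (g k)) * j) from funext fun k => (map_mul (algebraMap Q R) (mk (pderiv i (g k))) j).symm,
          hΨ]
        rw [show (Submodule.Quotient.mk (fun k => mk (pderiv i (g k)) * j) : N) = 0 from
          (Submodule.Quotient.mk_eq_zero _).2 ⟨Pi.single i ⟨j, hj⟩, funext fun k => by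
            change ∑ i', mk (pderiv i' (g k)) * ((Pi.single i (⟨j, hj⟩ : ↥JQ) : Fin n → ↥JQ) i').1 = _
            rw [Finset.sum_eq_single i (fun i' _ hne => by simp [Pi.single_eq_of_ne hne])
              (fun hi => absurd (Finset.mem_univ i) hi), Pi.single_eq_same]⟩, TensorProduct.tmul_zero]
      | zero => simp only [mul_zero]; exact map_zero Ψ
      | add x y _ _ hx hy =>
        simp only [mul_add]
        exact (map_add Ψ _ _).trans (by rw [hx, hy, add_zero])
      | smul a x _ hx =>
        simp only [smul_eq_mul, mul_left_comm _ a]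
        exact (map_smul Ψ a (fun k => κ (pderiv i (g k)) * x)).trans (by rw [hx, smul_zero])
    have hΨe : (fun k => algebraMap Q R (e k)) = - ∑ i, fun k => κ (pderiv i (g k)) * v i :=
      funext fun k => by
        have h0 : h' (g k) = 0 := by
          change h (π (g k)) = 0
          rw [show π (g k) = 0 from (RingHom.mem_ker).1 (show g k ∈ J from hg.ge (Ideal.subset_span ⟨k, rfl⟩)), map_zero]
        have := taylor κ h' hC' hv2 (g k)
        rw [h0] at this
        rw [Pi.neg_apply, Finset.sum_apply]
        exact eq_neg_of_add_eq_zero_left this.symm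
    rw [← hΨ e, hΨe, map_neg, map_sum, Finset.sum_eq_zero (fun i _ => hcol i (v i) (hX i)), neg_zero]
  have h1 : (1 : Q) ∈ Ann := htop ▸ Submodule.mem_top
  rw [LinearMap.mem_ker, LinearMap.toSpanSingleton_apply, one_smul, Submodule.Quotient.mk_eq_zero] at h1
  obtain ⟨v, hv⟩ := h1
  let σ : MvPolynomial (Fin n) B →ₐ[B] Q :=
    aeval fun i => mk (X i) - (v i).1
  have hσ : ∀ k, σ (g k) = 0 := fun k => by
    have ht := taylor mk σ.toRingHom (fun b => by
      change σ (C b) = mk (C b)
      rw [← MvPolynomial.algebraMap_eq, AlgHom.commutes]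
      rfl) (fun i j => by
        change (σ (X i) - mk (X i)) * (σ (X j) - mk (X j)) = 0
        simp only [σ, aeval_X, sub_sub_cancel_left]
        rw [neg_mul_neg]
        exact hJ2 _ (v i).2 _ (v j).2) (g k)
    refine ht.trans ?_
    change mk (g k) + ∑ i, mk (pderiv i (g k)) * (σ (X i) - mk (X i)) = 0
    simp only [σ, aeval_X, sub_sub_cancel_left, mul_neg, Finset.sum_neg_distrib]
    have hk : ∑ i, mk (pderiv i (g k)) * (v i).1 = mk (g k) := congr_fun hv k
    simp only [mul_neg, Finset.sum_neg_distrib, hk]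
    exact add_neg_cancel _
  have hσJ : ∀ x ∈ J, σ x = 0 := by
    intro x hx
    have : J ≤ RingHom.ker σ.toRingHom :=
      hg.le.trans (Ideal.span_le.2 (by rintro _ ⟨k, rfl⟩; exact RingHom.mem_ker.2 (hσ k)))
    exact this hx
  let sec : A →ₐ[B] Q := AlgHom.liftOfSurjective π hπ σ (fun x hx => hσJ x hx)
  refine Algebra.FormallySmooth.of_split π sec (AlgHom.ext fun a => ?_)
  obtain ⟨x, rfl⟩ := hπ a
  have h2 : π.kerSquareLift (σ x) = π x := by
    have : (π.kerSquareLift.comp σ) = π := MvPolynomial.algHom_ext fun i => by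
      have hv0 : π.kerSquareLift (v i).1 = 0 := by
        have : ∀ y ∈ JQ, π.kerSquareLift y = 0 := fun y hy => by
          obtain ⟨j, hj, rfl⟩ := (Ideal.mem_map_iff_of_surjective _ Ideal.Quotient.mk_surjective).1 hy
          exact hj
        exact this _ (v i).2
      rw [AlgHom.comp_apply]
      simp only [σ, aeval_X]
      rw [map_sub, hv0, sub_zero]
      rfl
    exact DFunLike.congr_fun this x
  change π.kerSquareLift (sec (π x)) = π x
  rw [AlgHom.liftOfSurjective_apply]
  exact h2

/-- Formal unramifiedness from uniqueness of lifts on strictly henselian local rings. -/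
theorem formallyUnramified_of_unique
    (H : ∀ (R : Type u) [CommRing R] [HenselianLocalRing R] [IsSepClosed (IsLocalRing.ResidueField R)]
      [Algebra B R] (I : Ideal R), I ^ 2 = ⊥ → ∀ g₁ g₂ : A →ₐ[B] R,
        (∀ a, g₁ a - g₂ a ∈ I) → g₁ = g₂) :
    Algebra.FormallyUnramified B A := by
  refine Algebra.FormallyUnramified.iff_comp_injective.2 fun C _ _ I hI g₁ g₂ hg => AlgHom.ext fun a => ?_
  by_contra hne
  rw [← sub_eq_zero] at hne
  let f := LinearMap.toSpanSingleton C C (g₁ a - g₂ a)
  have hAnn : LinearMap.ker f ≠ ⊤ := fun h => hne (by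
    have : (1 : C) ∈ LinearMap.ker f := h ▸ Submodule.mem_top
    simpa [f] using this)
  obtain ⟨q, hq, hle⟩ := Ideal.exists_le_maximal _ hAnn
  have := hq.isPrime
  obtain ⟨R, iR, iH, iS, iA, hflat, hqR⟩ := exists_sh C q
  refine hqR (top_le_iff.1 ((map_colon_eq_top (R := R) (g₁ a - g₂ a) ?_).symm.trans_le
    (Ideal.map_mono hle)))
  letI : Algebra B R := ((algebraMap C R).comp (algebraMap B C)).toAlgebra
  haveI : IsScalarTower B C R := IsScalarTower.of_algebraMap_eq' rfl
  have h2 : ∀ x, algebraMap C R (g₁ x) - algebraMap C R (g₂ x) ∈ I.map (algebraMap C R) := fun x => by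
    rw [← map_sub]
    exact Ideal.mem_map_of_mem _ (Ideal.Quotient.eq.1 (DFunLike.congr_fun hg x))
  have h3 := DFunLike.congr_fun (H R (I.map (algebraMap C R)) (by rw [← Ideal.map_pow, hI, Ideal.map_bot])
    ((IsScalarTower.toAlgHom B C R).comp g₁) ((IsScalarTower.toAlgHom B C R).comp g₂) h2) a
  change algebraMap C R (g₁ a) = algebraMap C R (g₂ a) at h3
  apply (TensorProduct.rid C R).injective
  rw [map_zero, TensorProduct.rid_tmul, Algebra.smul_def, mul_one, map_sub, h3, sub_self]

end Groth.Agent.H14IsoNat.SHCrit
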