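import Groth.Agent.H18Et.Henselian
import Groth.Agent.S1488
import Groth.Agent.H9Hens.PairOps
import Groth.Agent.H9Hens.SepClosed
import Mathlib.AlgebraicGeometry.Morphisms.Etale
import Mathlib.RingTheory.Unramified.Field
import Mathlib.FieldTheory.IsSepClosed

/-!
# Sections of étale and smooth morphisms over strictly henselian local rings and their thickenings
-/

set_option autoImplicit false
set_option backward.isDefEq.respectTransparency.types false

universe u

open CategoryTheory AlgebraicGeometry Limits IsLocalRing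

noncomputable section

namespace Groth.Agent.H14IsoNat

/-- An étale scheme over a separably closed field which is not empty has a rational point. -/
lemma exists_point_of_sepClosed {K : Type u} [Field K] [IsSepClosed K] {V : Scheme.{u}}
    (f : V ⟶ Spec (CommRingCat.of K)) [Etale f] (v : V) :
    ∃ s : Spec (CommRingCat.of K) ⟶ V, s ≫ f = 𝟙 _ := by
  obtain ⟨B, j, hj, hv, -⟩ := Scheme.exists_affine_mem_range_and_range_subset
    (x := v) (U := (⊤ : V.Opens)) (by simp)
  obtain ⟨φ, hφ⟩ := Spec.map_surjective (j ≫ f)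
  have het : Etale (Spec.map φ) := by rw [hφ]; infer_instance
  rw [HasRingHomProperty.Spec_iff (P := @Etale)] at het
  obtain ⟨q, -⟩ := hv
  algebraize [φ.hom]
  obtain ⟨m, hm, -⟩ := Ideal.exists_le_maximal q.asIdeal q.isPrime.ne_top
  let L := B ⧸ m
  letI : Field L := Ideal.Quotient.field m
  have hu : Algebra.FormallyUnramified K L :=
    Algebra.FormallyUnramified.of_surjective (Ideal.Quotient.mkₐ K m) Ideal.Quotient.mk_surjective
  have hft : Algebra.FiniteType K L :=
    Algebra.FiniteType.of_surjective (Ideal.Quotient.mkₐ K m) Ideal.Quotient.mk_surjective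
  have := Algebra.FormallyUnramified.isSeparable K L
  let e : K ≃ₐ[K] L := AlgEquiv.ofBijective (Algebra.ofId K L)
    ⟨(algebraMap K L).injective, IsSepClosed.algebraMap_surjective K L⟩
  let τ : B →ₐ[K] K := e.symm.toAlgHom.comp (Ideal.Quotient.mkₐ K m)
  refine ⟨Spec.map (CommRingCat.ofHom τ.toRingHom) ≫ j, ?_⟩
  rw [Category.assoc, ← hφ, ← Spec.map_comp,
    show φ ≫ CommRingCat.ofHom τ.toRingHom = 𝟙 _ from CommRingCat.hom_ext (RingHom.ext τ.commutes),
    Spec.map_id]

/-- An étale surjection to a strictly henselian local scheme has a section. -/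
theorem exists_section_sh (R : Type u) [CommRing R] [HenselianLocalRing R]
    [IsSepClosed (ResidueField R)] {V : Scheme.{u}} (f : V ⟶ Spec (CommRingCat.of R)) [Etale f]
    [Surjective f] : ∃ s : Spec (CommRingCat.of R) ⟶ V, s ≫ f = 𝟙 _ := by
  let z₀ := H18Et.closedGeomPt R
  obtain ⟨v, -⟩ := f.surjective (z₀ default)
  have : Nonempty ↥(pullback f z₀) := by
    obtain ⟨w, -⟩ := (inferInstance : Surjective (pullback.snd f z₀)).surj default
    exact ⟨w⟩
  obtain ⟨s, hs⟩ := exists_point_of_sepClosed (pullback.snd f z₀) (Classical.arbitrary _)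
  obtain ⟨t, ht, -⟩ := H18Et.exists_section_of_etale R f (s ≫ pullback.fst f z₀)
    (by rw [Category.assoc, pullback.condition, reassoc_of% hs])
  exact ⟨t, ht⟩

/-- A quotient of a henselian local ring. -/
theorem henselian_quotient (R : Type u) [CommRing R] [HenselianLocalRing R] (I : Ideal R) (hI : I ≠ ⊤) :
    ∃ (_ : HenselianLocalRing (R ⧸ I)), IsSepClosed (ResidueField R) →
      IsSepClosed (ResidueField (R ⧸ I)) := by
  have : Nontrivial (R ⧸ I) := Ideal.Quotient.nontrivial_iff.2 hI
  have hloc : IsLocalRing (R ⧸ I) := IsLocalRing.of_surjective' _ Ideal.Quotient.mk_surjective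
  refine ⟨?_, fun h => ?_⟩
  · have := H9Hens.henselianRing_quotient (J := maximalIdeal R) I
    have hm : (maximalIdeal R).map (Ideal.Quotient.mk I) = maximalIdeal (R ⧸ I) :=
      (((Ideal.map_eq_top_or_isMaximal_of_surjective _ Ideal.Quotient.mk_surjective
        (maximalIdeal.isMaximal R)).resolve_left fun h => by
          have h' := congrArg (Ideal.comap (Ideal.Quotient.mk I)) h
          rw [Ideal.comap_map_quotientMk, Ideal.comap_top, sup_eq_right.2 (le_maximalIdeal hI)] at h'
          exact (maximalIdeal.isMaximal R).ne_top h') |> eq_maximalIdeal)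
    refine { is_henselian := fun f hf a₀ h₁ h₂ => ?_ }
    obtain ⟨a, ha, ha'⟩ := HenselianRing.is_henselian (I := (maximalIdeal R).map (Ideal.Quotient.mk I))
      f hf a₀ (hm ▸ h₁) (h₂.map _)
    exact ⟨a, ha, hm ▸ ha'⟩
  · have : IsLocalHom (Ideal.Quotient.mk I) :=
      IsLocalHom.of_surjective _ Ideal.Quotient.mk_surjective
    let ψ := ResidueField.map (Ideal.Quotient.mk I)
    letI : Algebra (ResidueField R) (ResidueField (R ⧸ I)) := ψ.toAlgebra
    have hs : Function.Surjective ψ := fun x => by
      obtain ⟨y, rfl⟩ := residue_surjective x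
      obtain ⟨z, rfl⟩ := Ideal.Quotient.mk_surjective y
      exact ⟨residue R z, rfl⟩
    have : Algebra.IsAlgebraic (ResidueField R) (ResidueField (R ⧸ I)) := ⟨fun x => by
      obtain ⟨y, rfl⟩ := hs x
      exact isAlgebraic_algebraMap y⟩
    exact H9Hens.isSepClosed_of_isAlgebraic (ResidueField R)

end Groth.Agent.H14IsoNat
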