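import Groth.Agent.H14IsoNat.Clean
import Groth.Agent.H14IsoNat.Dbl

/-!
# Sections of the pulled back inertia are automorphisms
-/

set_option autoImplicit false
set_option backward.isDefEq.respectTransparency false
set_option backward.isDefEq.respectTransparency.types false

universe u

open CategoryTheory CategoryTheory.Functor Opposite AlgebraicGeometry CategoryTheory.Limits

noncomputable section

namespace Groth.Agent.H14IsoNat

open H14Fib H14Stk H14AlgSt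

variable {S : Scheme.{u}} {𝒳 : AlgSt.Cat S} [hX : SepStack 𝒳] {U : Over S}
  (y : FibCat.overCat U ⥤ᵇ 𝒳) {F : AlgSp.Space S}
  (e : AlgSt.ofSp F.obj ⥤ᵇ FibCat.fp y (FibCat.inertiaToBase (FibCat.toSelf 𝒳)))

local notation "I₁" =>
  FibCat.inertiaToBase (FibCat.toSelf _)

/-- The automorphism `δ` is the one given by the object `o`. -/
def AutOf {T : Over S} (o : (FibCat.fp y (FibCat.inertiaToBase (FibCat.toSelf 𝒳))).obj) (k : T ⟶ U)
    (δ : Vert y y (Over.mk k)) : Prop :=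
  ∃ v : o.obj.fst ≅ (Over.mk k : (FibCat.overCat U).obj),
    (FibCat.overCat U).p.IsHomLift (𝟙 T) v.hom ∧
      δ.1 = y.map v.inv ≫ o.obj.iso.hom ≫ o.obj.snd.aut.hom ≫ o.obj.iso.inv ≫ y.map v.hom

omit hX in
lemma autOf_exists {T : Over S} (x : F.obj.obj.obj (op T)) (k : T ⟶ U)
    (hk : AlgSt.secHom (BasedFunctor.comp e (FibCat.fpFst y I₁)) ⟨T, x⟩ = k) :
    ∃ δ, AutOf y (e.obj ⟨T, x⟩) k δ := by
  let o := e.obj ⟨T, x⟩
  have ho : o.obj.fst.left = T :=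
    (BasedFunctor.comp e (FibCat.fpFst y (FibCat.inertiaToBase (FibCat.toSelf 𝒳)))).w_obj _
  let v : o.obj.fst ≅ (Over.mk k : (FibCat.overCat U).obj) :=
    Over.isoMk (eqToIso ho) (by
      change eqToHom ho ≫ k = o.obj.fst.hom
      rw [← hk]
      simp [AlgSt.secHom, o]
      rfl)
  have hv : (FibCat.overCat U).p.IsHomLift (𝟙 T) v.hom :=
    IsHomLift.of_fac' _ _ _ ho rfl (by simp [v]; rfl)
  have ho' : (FibCat.fp y (FibCat.inertiaToBase (FibCat.toSelf 𝒳))).p.obj o = T := ho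
  have h1 : 𝒳.p.IsHomLift (𝟙 T) (y.map v.inv) :=
    @BasedFunctor.preserves_isHomLift _ _ _ _ y _ _ _ _ (𝟙 T) v.inv
      (@IsHomLift.lift_id_inv _ _ _ _ (FibCat.overCat U).p _ _ _ v hv)
  have h2 : 𝒳.p.IsHomLift (𝟙 T) (y.map v.hom) :=
    @BasedFunctor.preserves_isHomLift _ _ _ _ y _ _ _ _ (𝟙 T) v.hom hv
  have h3 := fp_iso_isHomLift o ho'
  have h4 : 𝒳.p.obj o.obj.snd.pt = T := (fp_snd_obj o).trans ho'
  have h5 : 𝒳.p.IsHomLift (𝟙 T) o.obj.snd.aut.hom :=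
    IsHomLift.of_fac' 𝒳.p _ _ h4 h4 (by
      rw [show 𝒳.p.map o.obj.snd.aut.hom = 𝟙 _ from o.obj.snd.map_aut]; simp)
  exact ⟨⟨_, homLift_id_comp h1 (homLift_id_comp h3 (homLift_id_comp h5 (homLift_id_comp
    (@IsHomLift.lift_id_inv _ _ _ _ 𝒳.p _ _ _ _ h3) h2)))⟩, v, hv, rfl⟩

omit hX in
lemma over_vert_ext {T : Over S} {a b : (FibCat.overCat U).obj} {φ ψ : a ⟶ b}
    (hφ : (FibCat.overCat U).p.IsHomLift (𝟙 T) φ) (hψ : (FibCat.overCat U).p.IsHomLift (𝟙 T) ψ) :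
    φ = ψ :=
  Over.OverMorphism.ext ((@IsHomLift.fac' _ _ _ _ (FibCat.overCat U).p _ _ _ _ (𝟙 T) φ hφ).trans
    (@IsHomLift.fac' _ _ _ _ (FibCat.overCat U).p _ _ _ _ (𝟙 T) ψ hψ).symm)

/-- Naturality. -/
lemma autOf_nat {T T' : Over S} {o o' : (FibCat.fp y (FibCat.inertiaToBase (FibCat.toSelf 𝒳))).obj}
    {p : T' ⟶ T} (ψ : o' ⟶ o) (hψ : (FibCat.fp y I₁).p.IsHomLift p ψ) {k : T ⟶ U} {k' : T' ⟶ U}
    {δ : Vert y y (Over.mk k)} {δ' : Vert y y (Over.mk k')} (hδ : AutOf y o k δ)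
    (hδ' : AutOf y o' k' δ') :
    ∃ m : Over.mk k' ⟶ Over.mk k, m.left = p ∧ rs m δ = δ' := by
  obtain ⟨v, hv, hd⟩ := hδ
  obtain ⟨v', hv', hd'⟩ := hδ'
  have hμ : (FibCat.overCat U).p.IsHomLift p (v'.inv ≫ ψ.hom.fst ≫ v.hom) :=
    vert_then_lift (@IsHomLift.lift_id_inv _ _ _ _ (FibCat.overCat U).p _ _ _ v' hv')
      (lift_then_vert ((fp_isHomLift_iff _ _).1 hψ) hv)
  refine ⟨v'.inv ≫ ψ.hom.fst ≫ v.hom, (left_of_lift (w' := k') (w := k) _ hμ).1, rs_eq _ _ ?_⟩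
  have hw : y.map ψ.hom.fst ≫ o.obj.iso.hom = o'.obj.iso.hom ≫ ψ.hom.snd.hom := ψ.hom.w
  have hw' : ψ.hom.snd.hom ≫ o.obj.iso.inv = o'.obj.iso.inv ≫ y.map ψ.hom.fst := by
    rw [Iso.comp_inv_eq, Category.assoc, hw, Iso.inv_hom_id_assoc]
  have hcm : o'.obj.snd.aut.hom ≫ ψ.hom.snd.hom = ψ.hom.snd.hom ≫ o.obj.snd.aut.hom :=
    ψ.hom.snd.comm
  have c1 : y.map v'.hom ≫ y.map v'.inv = 𝟙 _ := (y.toFunctor.mapIso v').hom_inv_id
  have c2 : y.map v.hom ≫ y.map v.inv = 𝟙 _ := (y.toFunctor.mapIso v).hom_inv_id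
  rw [show y.map (v'.inv ≫ ψ.hom.fst ≫ v.hom) = y.map v'.inv ≫ y.map ψ.hom.fst ≫ y.map v.hom from
    (y.toFunctor.map_comp _ _).trans (congrArg (_ ≫ ·) (y.toFunctor.map_comp _ _)), hd, hd']
  simp only [Category.assoc, reassoc_of% c1, reassoc_of% c2]
  rw [reassoc_of% hw, ← reassoc_of% hcm, reassoc_of% hw']

/-- The automorphism of an object is unique. -/
lemma autOf_unique {T : Over S} {o : (FibCat.fp y (FibCat.inertiaToBase (FibCat.toSelf 𝒳))).obj}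
    (ho : (FibCat.fp y I₁).p.obj o = T) {k : T ⟶ U}
    {δ δ' : Vert y y (Over.mk k)} (hδ : AutOf y o k δ) (hδ' : AutOf y o k δ') : δ = δ' := by
  obtain ⟨m, hm, h⟩ := autOf_nat y (𝟙 o) (IsHomLift.id ho) hδ hδ'
  obtain rfl : m = 𝟙 _ := Over.OverMorphism.ext hm
  rwa [rs_id] at h

/-- Every automorphism comes from a section. -/
lemma autOf_surj (he : FibCat.IsEquivOver e) {T : Over S} (k : T ⟶ U) (δ : Vert y y (Over.mk k)) :
    ∃ x : F.obj.obj.obj (op T),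
      AlgSt.secHom (BasedFunctor.comp e (FibCat.fpFst y I₁)) ⟨T, x⟩ = k ∧
        AutOf y (e.obj ⟨T, x⟩) k δ := by
  have : 𝒳.p.IsHomLift (𝟙 T) δ.1 := δ.2
  have := isIso_of_fibGrpd hX.isStack.1 (𝟙 T) δ.1
  let o₀ : (FibCat.fp y (FibCat.inertiaToBase (FibCat.toSelf 𝒳))).obj :=
    fpObj (Over.mk k) ⟨y.obj (Over.mk k), asIso δ.1, by
      change 𝒳.p.map δ.1 = 𝟙 _
      rw [map_of_vert δ.1 δ.2 (y.w_obj _) (y.w_obj _)]
      rfl⟩ (Iso.refl _) rfl (IsHomLift.id (y.w_obj _))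
  obtain ⟨x, i, hi, hx⟩ := exists_sec y e he o₀ k rfl
  obtain ⟨δ', hδ'⟩ := autOf_exists y e x k hx
  refine ⟨x, hx, ?_⟩
  have h₀ : AutOf y o₀ k δ := ⟨Iso.refl _, IsHomLift.id rfl, by
    change δ.1 = y.map (𝟙 _) ≫ 𝟙 _ ≫ δ.1 ≫ 𝟙 _ ≫ y.map (𝟙 _)
    rw [show y.map (𝟙 (Over.mk k : (FibCat.overCat U).obj)) = 𝟙 _ from y.toFunctor.map_id _]
    simp only [Category.id_comp, Category.comp_id]⟩
  obtain ⟨m, hm, h⟩ := autOf_nat y i.hom hi h₀ hδ'
  obtain rfl : m = 𝟙 _ := Over.OverMorphism.ext hm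
  rw [rs_id] at h
  rwa [h]

omit hX in
/-- A section is determined by its automorphism. -/
lemma autOf_inj (he : FibCat.IsEquivOver e) {T : Over S} {x x' : F.obj.obj.obj (op T)} {k : T ⟶ U}
    {δ : Vert y y (Over.mk k)} (h : AutOf y (e.obj ⟨T, x⟩) k δ)
    (h' : AutOf y (e.obj ⟨T, x'⟩) k δ) : x = x' := by
  obtain ⟨v, hv, hd⟩ := h
  obtain ⟨w, hw, hd'⟩ := h'
  have := isEquivalence_of_isEquivOver he
  let o := e.obj ⟨T, x⟩
  let o' := e.obj ⟨T, x'⟩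
  replace hd : δ.1 = y.map v.inv ≫ o.obj.iso.hom ≫ o.obj.snd.aut.hom ≫ o.obj.iso.inv ≫
    y.map v.hom := hd
  replace hd' : δ.1 = y.map w.inv ≫ o'.obj.iso.hom ≫ o'.obj.snd.aut.hom ≫ o'.obj.iso.inv ≫
    y.map w.hom := hd'
  let f₁ : o.obj.fst ⟶ o'.obj.fst := v.hom ≫ w.inv
  have hf₁ : (FibCat.overCat U).p.IsHomLift (𝟙 T) f₁ :=
    homLift_id_comp hv (@IsHomLift.lift_id_inv _ _ _ _ (FibCat.overCat U).p _ _ _ w hw)
  let f₂ : o.obj.snd.pt ⟶ o'.obj.snd.pt := o.obj.iso.inv ≫ y.map f₁ ≫ o'.obj.iso.hom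
  have c1 : y.map v.hom ≫ y.map v.inv = 𝟙 _ := (y.toFunctor.mapIso v).hom_inv_id
  have c2 : y.map w.hom ≫ y.map w.inv = 𝟙 _ := (y.toFunctor.mapIso w).hom_inv_id
  have c3 : y.map f₁ = y.map v.hom ≫ y.map w.inv := y.toFunctor.map_comp _ _
  have hc : o.obj.snd.aut.hom ≫ f₂ = f₂ ≫ o'.obj.snd.aut.hom := by
    have h1 := hd.symm.trans hd'
    have h2 := congrArg (fun q => o.obj.iso.inv ≫ y.map v.hom ≫ q ≫ y.map w.inv ≫ o'.obj.iso.hom) h1
    simp only [Category.assoc, reassoc_of% c1, reassoc_of% c2, Iso.inv_hom_id_assoc,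
      Iso.inv_hom_id, Category.comp_id] at h2
    change _ ≫ o.obj.iso.inv ≫ y.map f₁ ≫ o'.obj.iso.hom =
      (o.obj.iso.inv ≫ y.map f₁ ≫ o'.obj.iso.hom) ≫ _
    rw [c3]
    simp only [Category.assoc]
    exact h2
  let m : o ⟶ o' := fpHom f₁ ⟨f₂, hc⟩ (by
    change y.map f₁ ≫ o'.obj.iso.hom = o.obj.iso.hom ≫ o.obj.iso.inv ≫ y.map f₁ ≫ o'.obj.iso.hom
    exact (Iso.hom_inv_id_assoc _ _).symm)
  have hm : (FibCat.fp y (FibCat.inertiaToBase (FibCat.toSelf 𝒳))).p.IsHomLift (𝟙 T) m :=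
    (fp_isHomLift_iff _ _).2 hf₁
  let m' := e.toFunctor.preimage m
  have hm' : (AlgSt.ofSp F.obj).p.IsHomLift (𝟙 T) m' := by
    refine (BasedFunctor.isHomLift_iff e _ _).1 ?_
    rwa [e.toFunctor.map_preimage]
  have hh : m'.hom = 𝟙 T := by
    have : (AlgSt.ofSp F.obj).p.map m' = _ :=
      @IsHomLift.fac' _ _ _ _ (AlgSt.ofSp F.obj).p _ _ _ _ (𝟙 T) m' hm'
    simpa using this
  have := m'.map_sec
  rw [hh] at this
  simpa using this.symm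

/-- Extension of sections is extension of automorphisms. -/
theorem lift_iff_ext (he : FibCat.IsEquivOver e) {K A : Over S} (j : K ⟶ A) (a : A ⟶ U) :
    (∀ t : (AlgSp.yon S).obj K ⟶ F.obj,
      t ≫ AlgSt.spMapOfOver (BasedFunctor.comp e (FibCat.fpFst y I₁)) = (AlgSp.yon S).map (j ≫ a) →
      ∃ l : (AlgSp.yon S).obj A ⟶ F.obj, (AlgSp.yon S).map j ≫ l = t ∧
        l ≫ AlgSt.spMapOfOver (BasedFunctor.comp e (FibCat.fpFst y I₁)) = (AlgSp.yon S).map a) ↔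
      Ext (BasedFunctor.comp (AlgSt.overMap a) y) (Over.mk j) := by
  have nat : ∀ (z : F.obj.obj.obj (op A)) (v : Vert y y (Over.mk (𝟙 A ≫ a))),
      AutOf y (e.obj ⟨A, z⟩) (𝟙 A ≫ a) v →
      ∀ (δ : Vert y y (Over.mk (j ≫ a))),
      AutOf y (e.obj ⟨K, F.obj.obj.map j.op z⟩) (j ≫ a) δ →
      rs (P := BasedFunctor.comp (AlgSt.overMap a) y) (toTop (Over.mk j)) v =
        (δ : Vert (BasedFunctor.comp (AlgSt.overMap a) y) (BasedFunctor.comp (AlgSt.overMap a) y)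
          (Over.mk j)) := by
    intro z v hv δ hδ
    let m₀ : (⟨K, F.obj.obj.map j.op z⟩ : (AlgSt.ofSp F.obj).obj) ⟶ ⟨A, z⟩ := ⟨j, rfl⟩
    have hm₀ : (AlgSt.ofSp F.obj).p.IsHomLift j m₀ :=
      IsHomLift.map (AlgSt.ofSp F.obj).p m₀
    obtain ⟨m, hm, h⟩ := autOf_nat y (e.map m₀)
      (@BasedFunctor.preserves_isHomLift _ _ _ _ e _ _ _ _ j m₀ hm₀) hv hδ
    refine rs_eq _ _ ?_
    have e1 : (AlgSt.overMap a).map (toTop (Over.mk j)) = m :=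
      Over.OverMorphism.ext ((hm.trans (by simp [toTop]; rfl)).symm)
    change δ.1 ≫ y.map ((AlgSt.overMap a).map (toTop (Over.mk j))) =
      y.map ((AlgSt.overMap a).map (toTop (Over.mk j))) ≫ v.1
    rw [e1, ← h]
    exact rs_spec m v
  constructor
  · intro H δ
    obtain ⟨x, hx, hδ⟩ := autOf_surj y e he (j ≫ a) (δ : Vert y y (Over.mk (j ≫ a)))
    obtain ⟨l, hl, hl'⟩ := H _ (comp_of_secHom y e x hx)
    let z := (AlgSp.J S).uliftYonedaEquiv l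
    obtain ⟨v, hv⟩ := autOf_exists y e z (𝟙 A ≫ a)
      (secHom_of_comp y e l (hl'.trans (by rw [Category.id_comp])))
    refine ⟨v, nat z v hv δ ?_⟩
    have e2 : x = F.obj.obj.map j.op z := by
      have := congrArg (AlgSp.J S).uliftYonedaEquiv hl
      rw [Equiv.apply_symm_apply] at this
      exact this.symm.trans
        (GrothendieckTopology.uliftYonedaEquiv_naturality.{u + 1} (J := AlgSp.J S) (F := F.obj) l j).symm
    rwa [← e2]
  · intro H t ht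
    let x := (AlgSp.J S).uliftYonedaEquiv t
    have hx := secHom_of_comp y e t ht
    obtain ⟨δ, hδ⟩ := autOf_exists y e x (j ≫ a) hx
    obtain ⟨v, hv⟩ := H δ
    obtain ⟨z, hz, hvz⟩ := autOf_surj y e he (𝟙 A ≫ a) (v : Vert y y (Over.mk (𝟙 A ≫ a)))
    let l : (AlgSp.yon S).obj A ⟶ F.obj := (AlgSp.J S).uliftYonedaEquiv.symm z
    have hl' := (comp_of_secHom y e z hz).trans (congrArg (AlgSp.yon S).map (Category.id_comp a))
    refine ⟨l, ?_, hl'⟩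
    have hE : (AlgSp.J S).uliftYonedaEquiv ((AlgSp.yon S).map j ≫ l) = F.obj.obj.map j.op z :=
      (GrothendieckTopology.uliftYonedaEquiv_naturality.{u + 1} (J := AlgSp.J S) (F := F.obj) l j).symm.trans
        (congrArg _ (Equiv.apply_symm_apply _ _))
    obtain ⟨δ₁, hδ₁⟩ := autOf_exists y e (F.obj.obj.map j.op z) (j ≫ a) (by
      have := secHom_of_comp y e ((AlgSp.yon S).map j ≫ l) (k := j ≫ a)
        (by rw [Category.assoc, hl', Functor.map_comp])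
      rwa [hE] at this)
    have := (nat z v hvz δ₁ hδ₁).symm.trans hv
    apply (AlgSp.J S).uliftYonedaEquiv.injective
    rw [hE]
    exact autOf_inj y e he (this ▸ hδ₁) hδ

end Groth.Agent.H14IsoNat
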