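import Groth.Agent.H14IsoNat.DblPair
import Groth.Agent.H14IsoNat.LiftFp
import Groth.Agent.H14IsoNat.ProperInertia
import Groth.Agent.H14AlgSt.Noeth
import Groth.Agent.S12998

/-!
# Separatedness is detected by the presheaves of isomorphism classes
-/

set_option autoImplicit false
set_option backward.isDefEq.respectTransparency false
set_option backward.isDefEq.respectTransparency.types false

universe u

open CategoryTheory CategoryTheory.Functor AlgebraicGeometry CategoryTheory.Limits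

noncomputable section

namespace Groth.Agent.H14IsoNat

open H14Fib H14Stk H14AlgSt AlgSp

variable {S : Scheme.{u}} {𝒳 𝒴 : AlgSt.Cat S}

local notation "K₀" => Scheme.fppfPrecoverage

/-- The generic point of a spectrum over the base. -/
abbrev genPt {A : Type u} (K : Type u) [CommRing A] [Field K] [Algebra A K]
    (str : Spec (.of A) ⟶ S) :
    Over.mk (Spec.map (CommRingCat.ofHom (algebraMap A K)) ≫ str) ⟶ Over.mk str :=
  Over.homMk (Spec.map (CommRingCat.ofHom (algebraMap A K))) rfl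

/-- A proper diagonal gives extensions of relative isomorphisms. -/
theorem extD_of_proper [SepStack 𝒳] [SepStack 𝒴] {f : 𝒳 ⥤ᵇ 𝒴}
    (hf : AlgSt.RepByAlgSpWith AlgSp.IsProperMor (FibCat.diag f))
    {A K : Type u} [CommRing A] [IsDomain A] [ValuationRing A] [Field K] [Algebra A K]
    [IsFractionRing A K] (str : Spec (.of A) ⟶ S) : ExtD (genPt K str) f := by
  intro a₁ a₂ b₁ b₂ m₁ m₂ δ β hm₁ hm₂ hδ hβ hcompat
  have hX := grpd 𝒳
  have hY := grpd 𝒴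
  have hfp := fp_fibGrpd (F := f) (G := f) hX hX hY
  have := isFibered_of_fibGrpd hfp
  let T : Over S := Over.mk str
  let W : Over S := Over.mk (Spec.map (CommRingCat.ofHom (algebraMap A K)) ≫ str)
  let j : W ⟶ T := genPt K str
  have := isIso_of_fibGrpd hY (𝟙 T) β
  have := isIso_of_fibGrpd hX (𝟙 W) δ
  let o : (FibCat.fp f f).obj :=
    fpObj a₁ a₂ (asIso β) (IsHomLift.codomain_eq 𝒳.p j m₁) hβ
  obtain ⟨z, iz, -, hiz⟩ := exists_fromOver (𝒳 := FibCat.fp f f) (x := o) (U := T)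
    (IsHomLift.codomain_eq 𝒳.p j m₁)
  obtain ⟨F, e, he, hp⟩ := hf T z
  have hlift := (lift_iff_fp (FibCat.diag f) z e he j (𝟙 T)).1 fun t ht => by
    let v : ValSq (AlgSt.spMapOfOver
        (BasedFunctor.comp e (FibCat.fpFst z (FibCat.diag f)))) :=
      { A := A, K := K, str := str, top := t, bot := (yon S).map (𝟙 T)
        comm := by rw [ht, Functor.map_comp] }
    obtain ⟨d, hd⟩ := H12AlgSp.existVC_of_isUnivClosedMor F.property (IsAlgSpace.yon_obj T)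
      (H12AlgSp.isQuasiSeparatedMor_of_isSeparatedMor hp.1) hp.2.2 v
    exact H12AlgSp.hasLift_of_domExt_of_separated F.property (IsAlgSpace.yon_obj T) hp.1 v d hd
  -- the restriction of the object
  let w : (FibCat.overCat T).obj := Over.mk (j ≫ 𝟙 T)
  let ψ : z.obj w ⟶ o := z.map (toTop w) ≫ iz.hom
  have hψ : (FibCat.fp f f).p.IsHomLift j ψ := by
    have := homLift_comp' (map_lift_of_eq z (toTop w) (g := j ≫ 𝟙 T) rfl rfl
      (by simp [toTop, w])) hiz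
    simpa using this
  have hψ₁ : 𝒳.p.IsHomLift j ψ.hom.fst := (fp_isHomLift_iff _ _).1 hψ
  have hψ₂ : 𝒳.p.IsHomLift j ψ.hom.snd :=
    @BasedFunctor.preserves_isHomLift _ _ _ _ (FibCat.fpSnd f f) _ _ _ _ j ψ hψ
  obtain ⟨k₁, hk₁, hk₁'⟩ := exists_vertIso hX j ψ.hom.fst m₁
  obtain ⟨k₂, hk₂, hk₂'⟩ := exists_vertIso hX j ψ.hom.snd m₂
  have hcomm : f.map (k₁.hom ≫ δ) ≫ 𝟙 _ = (z.obj w).obj.iso.hom ≫ f.map k₂.hom := by
    have hm : 𝒴.p.IsHomLift j (f.map m₂) :=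
      @BasedFunctor.preserves_isHomLift _ _ _ _ f _ _ _ _ j m₂ hm₂
    have := sc_of_fibGrpd hY j (f.map m₂)
    have : 𝒴.p.IsHomLift (𝟙 W) (f.map (k₁.hom ≫ δ) ≫ 𝟙 (f.obj b₂)) := by
      rw [Category.comp_id]
      exact @BasedFunctor.preserves_isHomLift _ _ _ _ f _ _ _ _ (𝟙 W) _ (homLift_id_comp hk₁ hδ)
    have : 𝒴.p.IsHomLift (𝟙 W) ((z.obj w).obj.iso.hom ≫ f.map k₂.hom) :=
      homLift_id_comp (fp_iso_isHomLift _ ((z.w_obj w).trans rfl))
        (@BasedFunctor.preserves_isHomLift _ _ _ _ f _ _ _ _ (𝟙 W) _ hk₂)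
    refine IsStronglyCartesian.ext 𝒴.p j (f.map m₂) (𝟙 W) ?_
    have hw : f.map ψ.hom.fst ≫ β = (z.obj w).obj.iso.hom ≫ f.map ψ.hom.snd := ψ.hom.w
    rw [Category.comp_id, f.toFunctor.map_comp, Category.assoc, hcompat, ← Category.assoc,
      ← f.toFunctor.map_comp, hk₁', hw, Category.assoc, ← f.toFunctor.map_comp, hk₂']
  let μ : z.obj (Over.mk (j ≫ 𝟙 T)) ≅ (FibCat.diag f).obj b₂ :=
    fpIsoMk (k₁ ≪≫ asIso δ) k₂ hcomm
  obtain ⟨bA, ν, m, hν, hm, hc⟩ :=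
    hlift b₂ μ ((fp_isHomLift_iff _ _).2 (homLift_id_comp hk₁ hδ))
  let p : (Over.mk (𝟙 T ≫ 𝟙 T) : (FibCat.overCat T).obj) ⟶ topObj T := toTop _
  let q : (FibCat.diag f).obj bA ⟶ o := ν.inv ≫ z.map p ≫ iz.hom
  have hq : (FibCat.fp f f).p.IsHomLift (𝟙 T) q :=
    homLift_id_comp (@IsHomLift.lift_id_inv _ _ _ _ (FibCat.fp f f).p _ _ _ ν hν)
      (homLift_id_comp (map_lift_of_eq z p (g := 𝟙 T) rfl rfl (by simp [toTop, p])) hiz)
  have hq₁ : 𝒳.p.IsHomLift (𝟙 T) q.hom.fst := (fp_isHomLift_iff _ _).1 hq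
  have hq₂ : 𝒳.p.IsHomLift (𝟙 T) q.hom.snd :=
    @BasedFunctor.preserves_isHomLift _ _ _ _ (FibCat.fpSnd f f) _ _ _ _ (𝟙 T) q hq
  have := isIso_of_fibGrpd hX (𝟙 T) q.hom.fst
  refine ⟨(asIso q.hom.fst).inv ≫ q.hom.snd, homLift_id_comp
    (@IsHomLift.lift_id_inv _ _ _ _ 𝒳.p _ _ _ (asIso q.hom.fst) hq₁) hq₂, ?_⟩
  have hn : ψ = μ.hom ≫ (FibCat.diag f).map m ≫ q := by
    rw [← Category.assoc, ← hc]
    change z.map (toTop w) ≫ iz.hom = _
    rw [show toTop w = (AlgSt.overMap (𝟙 T)).map (toTop (Over.mk j)) ≫ p from hom_top_ext _ _,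
      z.toFunctor.map_comp]
    simp only [q, Category.assoc, Iso.hom_inv_id_assoc]
  have h₁ : k₁.hom ≫ m₁ = k₁.hom ≫ δ ≫ m ≫ q.hom.fst := by
    rw [hk₁']
    refine (congrArg (fun t => t.hom.fst) hn).trans ?_
    change (k₁.hom ≫ δ) ≫ m ≫ q.hom.fst = _
    rw [Category.assoc]
  have h₂ : k₂.hom ≫ m₂ = k₂.hom ≫ m ≫ q.hom.snd := by
    rw [hk₂']
    exact congrArg (fun t => t.hom.snd) hn
  rw [cancel_epi] at h₁ h₂
  rw [h₁, h₂]
  simp only [Category.assoc, asIso_inv, IsIso.hom_inv_id_assoc]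

/-- Extensions of relative isomorphisms give lifts for the diagonal. -/
theorem lift_of_extD [SepStack 𝒳] [SepStack 𝒴] {f : 𝒳 ⥤ᵇ 𝒴} {U W T : Over S}
    (z : FibCat.overCat U ⥤ᵇ FibCat.fp f f) {j : W ⟶ T} (hj : j.left.ker = ⊥)
    (h : ExtD j f) (a : T ⟶ U) (b : 𝒳.obj)
    (μ : z.obj (Over.mk (j ≫ a)) ≅ (FibCat.diag f).obj b)
    (hμ : (FibCat.fp f f).p.IsHomLift (𝟙 W) μ.hom) :
    ∃ (bA : 𝒳.obj) (ν : z.obj (Over.mk (𝟙 T ≫ a)) ≅ (FibCat.diag f).obj bA) (m : b ⟶ bA),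
      (FibCat.fp f f).p.IsHomLift (𝟙 T) ν.hom ∧ 𝒳.p.IsHomLift j m ∧
        z.map ((AlgSt.overMap a).map (toTop (Over.mk j))) ≫ ν.hom =
          μ.hom ≫ (FibCat.diag f).map m := by
  have hX := grpd 𝒳
  have hY := grpd 𝒴
  let n : (Over.mk (j ≫ a) : (FibCat.overCat U).obj) ⟶ Over.mk (𝟙 T ≫ a) :=
    (AlgSt.overMap a).map (toTop (Over.mk j))
  let N := z.map n
  have hN : (FibCat.fp f f).p.IsHomLift j N :=
    map_lift_of_eq z n rfl rfl (by
      change (toTop (Over.mk j)).left = _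
      simp [toTop])
  have hN₁ : 𝒳.p.IsHomLift j N.hom.fst := (fp_isHomLift_iff _ _).1 hN
  have hN₂ : 𝒳.p.IsHomLift j N.hom.snd :=
    @BasedFunctor.preserves_isHomLift _ _ _ _ (FibCat.fpSnd f f) _ _ _ _ j N hN
  have hμ₁ : 𝒳.p.IsHomLift (𝟙 W) μ.hom.hom.fst := (fp_isHomLift_iff _ _).1 hμ
  have hμ₂ : 𝒳.p.IsHomLift (𝟙 W) μ.hom.hom.snd :=
    @BasedFunctor.preserves_isHomLift _ _ _ _ (FibCat.fpSnd f f) _ _ _ _ (𝟙 W) μ.hom hμ
  have := isIso_of_fibGrpd hX (𝟙 W) μ.hom.hom.fst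
  have := isIso_of_fibGrpd hX (𝟙 W) μ.hom.hom.snd
  let Z := z.obj (Over.mk (𝟙 T ≫ a))
  have hZ : 𝒴.p.IsHomLift (𝟙 T) Z.obj.iso.hom := fp_iso_isHomLift _ (z.w_obj _)
  let δ := μ.hom.hom.fst ≫ (asIso μ.hom.hom.snd).inv
  have hδ : 𝒳.p.IsHomLift (𝟙 W) δ := homLift_id_comp hμ₁
    (@IsHomLift.lift_id_inv _ _ _ _ 𝒳.p _ _ _ (asIso μ.hom.hom.snd) hμ₂)
  have hμw : f.map μ.hom.hom.fst =
      (z.obj (Over.mk (j ≫ a))).obj.iso.hom ≫ f.map μ.hom.hom.snd :=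
    (Category.comp_id _).symm.trans μ.hom.hom.w
  have hNw : f.map N.hom.fst ≫ Z.obj.iso.hom =
      (z.obj (Over.mk (j ≫ a))).obj.iso.hom ≫ f.map N.hom.snd := N.hom.w
  have hfδ : f.map δ = (z.obj (Over.mk (j ≫ a))).obj.iso.hom := by
    change f.map (μ.hom.hom.fst ≫ (asIso μ.hom.hom.snd).inv) = _
    rw [f.toFunctor.map_comp, hμw, Category.assoc,
      ← f.toFunctor.map_comp, asIso_inv, IsIso.hom_inv_id, f.toFunctor.map_id, Category.comp_id]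
  obtain ⟨v, hv, hvv⟩ := h _ _ _ _ N.hom.fst N.hom.snd δ Z.obj.iso.hom hN₁ hN₂ hδ hZ
    (by rw [hfδ, hNw])
  have hfv : 𝒴.p.IsHomLift (𝟙 T) (f.map v) :=
    @BasedFunctor.preserves_isHomLift _ _ _ _ f _ _ _ _ (𝟙 T) v hv
  have hv' : f.map v ≫ Z.obj.iso.inv = 𝟙 (f.obj Z.obj.fst) := by
    refine eq_of_agree hY SepStack.diag j hj (IsHomLift.domain_eq 𝒴.p (𝟙 T) Z.obj.iso.hom)
      (f.map N.hom.fst) (@BasedFunctor.preserves_isHomLift _ _ _ _ f _ _ _ _ j _ hN₁)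
      (homLift_id_comp hfv (@IsHomLift.lift_id_inv _ _ _ _ 𝒴.p _ _ _ Z.obj.iso hZ))
      (IsHomLift.id (IsHomLift.domain_eq 𝒴.p (𝟙 T) Z.obj.iso.hom)) ?_
    rw [← Category.assoc, ← f.toFunctor.map_comp, ← hvv, f.toFunctor.map_comp, hfδ, ← hNw]
    simp
  have := isIso_of_fibGrpd hX (𝟙 T) v
  have hcomm : f.map (asIso v).hom ≫ 𝟙 (f.obj Z.obj.snd) = Z.obj.iso.hom ≫ f.map (Iso.refl _).hom := by
    rw [Iso.refl_hom, f.toFunctor.map_id, asIso_hom, Category.comp_id, Category.comp_id]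
    rw [← Iso.comp_inv_eq_id]
    exact hv'
  refine ⟨Z.obj.snd, fpIsoMk (asIso v) (Iso.refl _) hcomm,
    (asIso μ.hom.hom.snd).inv ≫ N.hom.snd, (fp_isHomLift_iff _ _).2 hv,
    vert_then_lift (@IsHomLift.lift_id_inv _ _ _ _ 𝒳.p _ _ _ (asIso μ.hom.hom.snd) hμ₂) hN₂, ?_⟩
  refine fp_hom_ext ?_ ?_
  · change N.hom.fst ≫ v = μ.hom.hom.fst ≫ (asIso μ.hom.hom.snd).inv ≫ N.hom.snd
    rw [← hvv, Category.assoc]
  · change N.hom.snd ≫ 𝟙 _ = μ.hom.hom.snd ≫ (asIso μ.hom.hom.snd).inv ≫ N.hom.snd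
    simp

lemma baseStable_sepQC : BaseStable (S := S) (IsSeparatedMor ⊓ IsQuasiCompactMor) :=
  fun _ _ _ _ _ _ _ _ _ _ _ _ sq h =>
    ⟨H12AlgSp.isSeparatedMor_of_isPullback sq h.1, H12AlgSp.isQuasiCompactMor_of_isPullback sq h.2⟩

lemma cancelsLeft_sepQC :
    CancelsLeft (S := S) (IsSeparatedMor ⊓ IsQuasiCompactMor) IsQuasiSeparatedMor :=
  fun _ _ _ hA hB hC _ _ hb h =>
    ⟨H12AlgSp.isSeparatedMor_of_comp h.1, H12AlgSp.isQuasiCompactMor_of_comp hA hB hC h.2 hb⟩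

variable (hX : AlgSt.IsAlgStack K₀ 𝒳)
  (hXd : AlgSt.RepByAlgSpWith (AlgSp.IsSeparatedMor ⊓ AlgSp.IsQuasiCompactMor)
    (FibCat.diag (FibCat.toSelf 𝒳)))
  (hY : AlgSt.IsAlgStack K₀ 𝒴)
  (hYd : AlgSt.RepByAlgSpWith (AlgSp.IsSeparatedMor ⊓ AlgSp.IsQuasiCompactMor)
    (FibCat.diag (FibCat.toSelf 𝒴)))

include hX hXd hY hYd in
lemma repWith_sepQC_diag (f : 𝒳 ⥤ᵇ 𝒴) :
    AlgSt.RepByAlgSpWith (AlgSp.IsSeparatedMor ⊓ AlgSp.IsQuasiCompactMor) (FibCat.diag f) :=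
  repWith_diag_cancel (g := FibCat.toSelf 𝒴) baseStable_sepQC cancelsLeft_sepQC
    hX.isStack.1 hY.isStack.1 (rep1_diag_of_algStack hX hY f)
    (repWith_mono (fun _ _ _ h => H12AlgSp.isQuasiSeparatedMor_of_isSeparatedMor h.1) hYd)
    (by rw [comp_toSelf]; exact hXd)

include hX hXd hY hYd in
/-- The discrete valuative criterion for the diagonal over a locally Noetherian slice. -/
lemma exists_proper_chart_diag [SepStack 𝒳] [SepStack 𝒴] {f : 𝒳 ⥤ᵇ 𝒴} {U : Over S}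
    [IsLocallyNoetherian U.left] (z : FibCat.overCat U ⥤ᵇ FibCat.fp f f)
    (h : ∀ (A K : Type u) [CommRing A] [IsDomain A] [IsDiscreteValuationRing A]
      [Field K] [Algebra A K] [IsFractionRing A K] (str : Spec (.of A) ⟶ S), ExtD (genPt K str) f) :
    ∃ (F : AlgSp.Space S) (e : AlgSt.ofSp F.obj ⥤ᵇ FibCat.fp z (FibCat.diag f)),
      FibCat.IsEquivOver e ∧ AlgSp.IsProperMor (AlgSt.spMapOfOver
        (BasedFunctor.comp e (FibCat.fpFst z (FibCat.diag f)))) := by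
  have := respectsIso_locP (S := S) @LocallyOfFiniteType
  obtain ⟨F, e, he, ⟨hs, hq⟩, hl⟩ := repWith_inf (sourceIsoInv_of_respectsIso _)
    (repWith_sepQC_diag hX hXd hY hYd f) (repWith_lft_diag hX hY f) U z
  refine ⟨F, e, he, ?_⟩
  have hn : IsLocNoethSp ((yon S).obj U) :=
    ⟨U, 𝟙 _, AlgSp.repWith_id @Etale U, AlgSp.repWith_id @Surjective U, inferInstance⟩
  refine (H12AlgSp.isProperMor_iff_dvr F.property (IsAlgSpace.yon_obj U) hn ⟨hl, hq⟩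
    (H12AlgSp.isQuasiSeparatedMor_of_isSeparatedMor hs)).2 fun v hv =>
    ⟨?_, H12AlgSp.uniqVC_of_isSeparatedMor hs v⟩
  obtain ⟨a, ha⟩ := (yon S).map_surjective v.bot
  have := hv
  obtain ⟨l, hl₁, hl₂⟩ := (lift_iff_fp (FibCat.diag f) z e he _ a).2
    (fun b μ hμ => lift_of_extD z
      (ker_specMap_eq_bot _ (IsFractionRing.injective v.A v.K)) (h v.A v.K v.str) a b μ hμ) v.top
    (by rw [v.comm, Functor.map_comp, ha])
  exact ⟨l, hl₁, hl₂.trans ha⟩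

include hX hXd hY hYd in
/-- Properness of the diagonal, from extensions over discrete valuation rings. -/
theorem proper_diag_of_extD [SepStack 𝒳] [SepStack 𝒴] {f : 𝒳 ⥤ᵇ 𝒴}
    (hft : AlgSt.LocQ (AlgSp.LocP @LocallyOfFiniteType) f)
    (hN : AlgSt.SmoothLocally (fun X => IsLocallyNoetherian X) 𝒴)
    (h : ∀ (A K : Type u) [CommRing A] [IsDomain A] [IsDiscreteValuationRing A]
      [Field K] [Algebra A K] [IsFractionRing A K] (str : Spec (.of A) ⟶ S), ExtD (genPt K str) f) :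
    AlgSt.RepByAlgSpWith AlgSp.IsProperMor (FibCat.diag f) := by
  have hP := isAlgStack_fp' hX hX hY f f
  have hNX := S12998.result S 𝒳 𝒴 hX hY f hft hN
  have hNP := S12998.result S (FibCat.fp f f) 𝒳 hP hX (FibCat.fpFst f f)
    (locQ_baseChange smLocal_lft (baseStable_locP H12AlgSp.etLocal_lft) hX hY hX f hft) hNX
  obtain ⟨U, x, hx, hxs⟩ := hP.atlas
  have : IsLocallyNoetherian U.left := hNP U x hx
  obtain ⟨F, e, he, hp⟩ := exists_proper_chart_diag hX hXd hY hYd x h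
  let D := FibCat.diag f
  let w : AlgSt.ofSp ((yon S).obj U) ⥤ᵇ FibCat.fp f f :=
    BasedFunctor.comp (AlgSt.toOverCat U) x
  have hto := toOverCat_isEquivOver (S := S) U
  have le1 : (@Smooth : MorphismProperty Scheme.{u}) ≤ @Flat := fun _ _ g (_ : Smooth g) =>
    (inferInstance : Flat g)
  have le2 : (@Smooth : MorphismProperty Scheme.{u}) ≤ @LocallyOfFinitePresentation :=
    fun _ _ g (_ : Smooth g) => (inferInstance : LocallyOfFinitePresentation g)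
  have h1 := (repWith_equiv_comp_iff hto).1 (repWith_mono (fun _ _ _ hh => H12AlgSp.locP_mono le1 hh) hx)
  have h2 := (repWith_equiv_comp_iff hto).1 (repWith_mono (fun _ _ _ hh => H12AlgSp.locP_mono le2 hh) hx)
  have h3 := (repWith_equiv_comp_iff hto).1 hxs
  obtain ⟨⟨_, _⟩, hess⟩ := (isEquivOver_iff (AlgSt.ofOverCat U)).1 (ofOverCat_isEquivOver U)
  obtain ⟨⟨_, _⟩, -⟩ := (isEquivOver_iff (BasedFunctor.id 𝒳)).1 (isEquivOver_id _)
  obtain ⟨⟨_, _⟩, -⟩ := (isEquivOver_iff (BasedFunctor.id (FibCat.fp f f))).1 (isEquivOver_id _)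
  let E : FibCat.fp x D ⥤ᵇ FibCat.fp w D :=
    fpMap (F := w) (G := D) (F' := x) (G' := D) (AlgSt.ofOverCat U) (BasedFunctor.id _)
      (BasedFunctor.id (FibCat.fp f f)) (Iso.refl _) (Iso.refl _)
  have hE : FibCat.IsEquivOver E :=
    fpMap_isEquivOver _ _ _ _ _ hess (essSurjOver_id _)
  obtain ⟨k⟩ := spMapOfOver_eq (BasedFunctor.comp e (FibCat.fpFst x D))
  let W : AlgSp.Space S := ⟨(yon S).obj U, IsAlgSpace.yon_obj U⟩
  have k' : BasedFunctor.comp (BasedFunctor.comp e E) (FibCat.fpFst w D) ≅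
      AlgSt.ofSpMap (AlgSt.spMapOfOver (BasedFunctor.comp e (FibCat.fpFst x D))) :=
    (post _ (AlgSt.ofOverCat U)).mapIso k
  refine repWith_of_fppf localFppf_proper (BaseStable.sourceIsoInv baseStable_proper)
    (rep1_diag_of_algStack hX hY f) (w := w) h1 h2 h3 ?_
  exact repWith_fpFst_of_space (W := W) baseStable_proper (isEquivOver_comp he hE) k' hp

end Groth.Agent.H14IsoNat
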