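import Groth.Agent.H14IsoNat.TwistBase

/-!
# Twisted forms and isomorphisms of slice functors
-/

set_option autoImplicit false
set_option backward.isDefEq.respectTransparency false
set_option backward.isDefEq.respectTransparency.types false

universe u

open CategoryTheory CategoryTheory.Functor CategoryTheory.Limits AlgebraicGeometry

noncomputable section

namespace Groth.Agent.H14IsoNat

open H14Fib H14Stk Axes

variable {S : Scheme.{u}} {𝒳 : AlgSt.Cat S} {T : Over S}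

/-- A vertical isomorphism of slice functors. -/
structure SliceIso (Q Q' : FibCat.overCat T ⥤ᵇ 𝒳) where
  /-- the components -/
  app : ∀ d : Over T, Q.obj d ≅ Q'.obj d
  lift : ∀ d : Over T, 𝒳.p.IsHomLift (𝟙 d.left) (app d).hom
  nat : ∀ {d d' : Over T} (m : d ⟶ d'), Q.map m ≫ (app d').hom = (app d).hom ≫ Q'.map m

lemma id_comp_lift {𝒲 : AlgSt.Cat S} {T' T : Over S} {g : T' ⟶ T} {a b c : 𝒲.obj} {φ : a ⟶ b}
    {ψ : b ⟶ c} (hφ : 𝒲.p.IsHomLift (𝟙 T') φ) (hψ : 𝒲.p.IsHomLift g ψ) :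
    𝒲.p.IsHomLift g (φ ≫ ψ) := by
  simpa using homLift_comp' hφ hψ

variable [hX : SepStack 𝒳] {Q Q' : FibCat.overCat T ⥤ᵇ 𝒳} (σ : SliceIso Q Q')

/-- Transport of automorphisms along an isomorphism of slice functors. -/
def SliceIso.conj (d : Over T) : Vert Q Q d ≃* Vert Q' Q' d where
  toFun a := ⟨(σ.app d).inv ≫ a.1 ≫ (σ.app d).hom, homLift_id_comp
    (@IsHomLift.lift_id_inv _ _ _ _ 𝒳.p d.left _ _ (σ.app d) (σ.lift d))
    (homLift_id_comp a.2 (σ.lift d))⟩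
  invFun a := ⟨(σ.app d).hom ≫ a.1 ≫ (σ.app d).inv, homLift_id_comp (σ.lift d)
    (homLift_id_comp a.2
      (@IsHomLift.lift_id_inv _ _ _ _ 𝒳.p d.left _ _ (σ.app d) (σ.lift d)))⟩
  left_inv a := Subtype.ext (by simp)
  right_inv a := Subtype.ext (by simp)
  map_mul' a b := Subtype.ext (by simp)

lemma SliceIso.rs_conj {d d' : Over T} (m : d' ⟶ d) (a : Vert Q Q d) :
    rs m (σ.conj d a) = σ.conj d' (rs m a) := by
  refine rs_eq m _ ?_
  change ((σ.app d').inv ≫ (rs m a).1 ≫ (σ.app d').hom) ≫ Q'.map m =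
    Q'.map m ≫ (σ.app d).inv ≫ a.1 ≫ (σ.app d).hom
  rw [Category.assoc, Category.assoc, ← σ.nat, ← Category.assoc (rs m a).1, rs_spec,
    Category.assoc, ← cancel_epi (σ.app d').hom, Iso.hom_inv_id_assoc,
    ← Category.assoc (σ.app d').hom, ← σ.nat]
  simp

lemma SliceIso.conj_tw {k : ℕ} (a : Fin k → Vert Q Q (Over.mk (𝟙 T))) :
    σ.conj _ (tw a) = tw (fun i => σ.conj _ (a i)) :=
  punctured_ext fun i => by rw [σ.rs_conj, rs_tw, rs_tw, cs, cs, σ.rs_conj]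

lemma SliceIso.isTw {k : ℕ} {t : Vert Q Q (PT T (Axes.O.{u} k).toScheme)} {ξ : 𝒳.obj}
    (h : IsTw t ξ) : IsTw (σ.conj _ t) ξ := by
  obtain ⟨hξ, e, he, hte⟩ := h
  refine ⟨hξ, fun a => (σ.app _).inv ≫ e a, fun a => id_comp_lift
    (@IsHomLift.lift_id_inv _ _ _ _ 𝒳.p _ _ _ (σ.app _) (σ.lift _)) (he a), ?_⟩
  change Q'.map jO ≫ (σ.app _).inv ≫ e false =
    ((σ.app _).inv ≫ t.1 ≫ (σ.app _).hom) ≫ Q'.map jO ≫ (σ.app _).inv ≫ e true
  have n : ∀ {d d' : Over T} (m : d ⟶ d'), Q'.map m ≫ (σ.app d').inv = (σ.app d).inv ≫ Q.map m :=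
    fun {d d'} m => by rw [Iso.comp_inv_eq, Category.assoc, σ.nat, Iso.inv_hom_id_assoc]
  rw [reassoc_of% (n (jO (T := T) (k := k))), hte, reassoc_of% (n (jO (T := T) (k := k)))]
  simp

lemma SliceIso.cls_twist {k : ℕ} (a : Fin k → Vert Q Q (Over.mk (𝟙 T))) :
    twCls Q a = twCls Q' (fun i => σ.conj _ (a i)) :=
  eq_twCls (twObj Q a) (σ.conj_tw a ▸ σ.isTw (isTw_twObj a))

end Groth.Agent.H14IsoNat
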