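import Groth.Agent.H12AlgSp.OpenLoci
import Groth.Agent.H12AlgSp.Proper
import Groth.Agent.H12AlgSp.FppfQuot
import Groth.Agent.H24Algz.NisCover

/-!
# The locus where a proper space with a section is trivial
-/

set_option autoImplicit false
set_option backward.isDefEq.respectTransparency false
set_option backward.isDefEq.respectTransparency.types false

universe u

open CategoryTheory CategoryTheory.Limits AlgebraicGeometry Opposite Topology TopologicalSpace

noncomputable section

namespace Groth.Agent.H14IsoNat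

open AlgSp Groth.Agent.H06EGA9 Groth.Agent.H12AlgSp

section Chart

theorem _root_.Groth.Agent.H14IsoNat.isLocallyConstructible_compl {X : Type*} [TopologicalSpace X]
    {s : Set X} (h : IsLocallyConstructible s) : IsLocallyConstructible sᶜ := fun x => by
  obtain ⟨U, hU, hUo, hUc⟩ := h x
  exact ⟨U, hU, hUo, hUc.compl⟩

variable {A E T : Scheme.{u}} (v : A ⟶ T) (m : E ⟶ A)

/-- The part of a chart where a closed section-like subscheme, etale over the base, is open. -/
theorem triv_chart [LocallyOfFinitePresentation v] [IsClosedImmersion m] [Etale (m ≫ v)] :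
    IsOpen (Set.range m ∩ unramSet v) ∧ IsLocallyConstructible (Set.range m ∩ unramSet v) ∧
      ∀ {W : Scheme.{u}} (b : W ⟶ A), Set.range b ⊆ Set.range m ∩ unramSet v →
        ∃ b' : W ⟶ E, b' ≫ m = b := by
  let U : A.Opens := ⟨unramSet v, isOpen_unramSet v⟩
  have : FormallyUnramified (U.ι ≫ v) := by
    refine (formallyUnramified_iff_unramSet _).2 (Set.eq_univ_of_forall fun x => ?_)
    obtain ⟨W, hW, hWu⟩ := exists_nhd_of_mem_unramSet v (x := U.ι x) x.2
    refine (nbhd_unramified_iff _ x).1 ⟨U.ι ⁻¹ᵁ W, hW, inferInstance, ?_⟩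
    rw [← Category.assoc, ← morphismRestrict_ι, Category.assoc]
    exact MorphismProperty.comp_mem @FormallyUnramified _ _ inferInstance hWu
  have hE : Etale ((m ∣_ U) ≫ U.ι ≫ v) := by
    rw [← Category.assoc, morphismRestrict_ι, Category.assoc]
    infer_instance
  have : Etale (m ∣_ U) := Etale.of_comp (m ∣_ U) (U.ι ≫ v)
  have : IsOpenImmersion (m ∣_ U) := IsOpenImmersion.of_flat_of_mono _
  let j : (m ⁻¹ᵁ U).toScheme ⟶ A := (m ⁻¹ᵁ U).ι ≫ m
  have : IsOpenImmersion j := by
    change IsOpenImmersion ((m ⁻¹ᵁ U).ι ≫ m)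
    rw [← morphismRestrict_ι]
    infer_instance
  have hr : Set.range j = Set.range m ∩ unramSet v := by
    ext a
    constructor
    · rintro ⟨z, rfl⟩
      exact ⟨⟨(m ⁻¹ᵁ U).ι z, rfl⟩, z.2⟩
    · rintro ⟨⟨z, rfl⟩, hz⟩
      exact ⟨⟨z, hz⟩, rfl⟩
  refine ⟨hr ▸ j.isOpenEmbedding.isOpen_range, ?_, fun b hb => ?_⟩
  · have : LocallyOfFinitePresentation m := lfp_of_comp m v
    have h1 : IsLocallyConstructible (Set.range m) := by
      simpa using m.isLocallyConstructible_image (s := Set.univ) (by simp)
    exact h1.inter (isLocallyConstructible_unramSet v)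
  · exact ⟨IsOpenImmersion.lift j b (hr.symm ▸ hb) ≫ (m ⁻¹ᵁ U).ι, by
      rw [Category.assoc]
      exact IsOpenImmersion.lift_fac j b _⟩

end Chart

variable {S : Scheme.{u}} {G : Sp S} {T : Over S}

/-- Over `g`, and over everything above it, the space has at most one section. -/
def TrivOver (π : G ⟶ (yon S).obj T) {T' : Over S} (g : T' ⟶ T) : Prop :=
  ∀ ⦃T'' : Over S⦄ (h : T'' ⟶ T') (a b : (yon S).obj T'' ⟶ G),
    a ≫ π = (yon S).map (h ≫ g) → b ≫ π = (yon S).map (h ≫ g) → a = b

variable (π : G ⟶ (yon S).obj T)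

/-- A section is a pullback of the diagonal. -/
theorem isPullback_section (e : (yon S).obj T ⟶ G) (he : e ≫ π = 𝟙 _) :
    IsPullback e e (pullback.diagonal π)
      (pullback.lift (𝟙 G) (π ≫ e) (by rw [Category.assoc, he, Category.id_comp, Category.comp_id])) := by
  refine IsPullback.of_isLimit (c := PullbackCone.mk e e ?_) (PullbackCone.IsLimit.mk _
    (fun s => s.fst ≫ π) (fun s => ?_) (fun s => ?_) (fun s m h1 _ => ?_))
  · apply pullback.hom_ext <;> simp [reassoc_of% he]
  · have h := s.condition
    have h1 := congrArg (fun q => q ≫ pullback.fst π π) h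
    have h2 := congrArg (fun q => q ≫ pullback.snd π π) h
    simp at h1 h2
    change (s.fst ≫ π) ≫ e = s.fst
    exact (congrArg (fun q => (q ≫ π) ≫ e) h1).trans ((Category.assoc _ _ _).trans h2.symm)
  · have h := s.condition
    have h1 := congrArg (fun q => q ≫ pullback.fst π π) h
    have h2 := congrArg (fun q => q ≫ pullback.snd π π) h
    simp at h1 h2
    change (s.fst ≫ π) ≫ e = s.snd
    exact (congrArg (fun q => (q ≫ π) ≫ e) h1).trans ((Category.assoc _ _ _).trans (h2.symm.trans h1))
  · rw [← h1]
    simp [he]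

theorem exists_triv_opens_chart (hG : IsAlgSpace G) (hl : LocP @LocallyOfFinitePresentation π)
    (hp : IsProperMor π) (e : (yon S).obj T ⟶ G) (he : e ≫ π = 𝟙 _) {A : Over S}
    (p : (yon S).obj A ⟶ G) (hpe : RepWith @Etale p) (hps : RepWith @Surjective p) :
    ∃ V : T.left.Opens,
      (∀ {T' : Over S} (g : T' ⟶ T), TrivOver π g ↔ Set.range g.left ⊆ (V : Set T.left)) ∧
        (CompactSpace A.left → IsAffine T.left → IsCompact (V : Set T.left)) := by
  obtain ⟨v, hv⟩ := (yon S).map_surjective (p ≫ π)
  have : LocallyOfFinitePresentation v.left :=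
    hl p (𝟙 _) v hpe (AlgSp.repWith_id @Etale T) (by rw [hv, Category.comp_id])
  have hec : RepWith @IsClosedImmersion e :=
    MorphismProperty.of_isPullback (P := RepWith (S := S) @IsClosedImmersion)
      (isPullback_section π e he) hp.1
  let E := hec.rep.pullback p
  let m : E ⟶ A := hec.rep.snd p
  let f : (yon S).obj E ⟶ (yon S).obj T := hec.rep.fst p
  obtain ⟨q, hq⟩ := (yon S).map_surjective f
  have sq : IsPullback ((yon S).map m) ((yon S).map q) p e := by
    rw [hq]
    exact (hec.rep.isPullback p).flip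
  have hqm : m ≫ v = q := by
    apply (yon S).map_injective
    rw [Functor.map_comp, hv, reassoc_of% sq.w, he, Category.comp_id]
  have : IsClosedImmersion m.left := hec.property_snd p
  have : Etale q.left := hpe.property e ((yon S).map m) q sq
  have : Etale (m.left ≫ v.left) := by
    rw [← Over.comp_left, hqm]
    infer_instance
  obtain ⟨hO, hOc, hOl⟩ := triv_chart v.left m.left
  -- the bad set
  let L : Set (Points G) :=
    {x | HasAtMor (nbhdProp (@LocallyOfFiniteType ⊓ @FormallyUnramified)) π x}
  let O : Set (Points G) := Set.range (Points.map e) ∩ L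
  have hpO : Points.ofPt p ⁻¹' O = Set.range m.left ∩ unramSet v.left := by
    rw [Set.preimage_inter]
    refine congrArg₂ (· ∩ ·) (preimage_ofPt_range sq.flip) (Set.ext fun a => ?_)
    exact (nbhd_hasAtMor_iff (etLocal_inf etLocal_lft etLocal_formallyUnramified) hpe
      (AlgSp.repWith_id @Etale T) (by rw [hv, Category.comp_id]) a).trans (nbhd_unramified_iff _ a)
  have hq' := isQuotientMap_ofPt hpe hps
  have hOo : IsOpen O := hq'.isOpen_preimage.1 (hpO ▸ hO)
  have hcl : IsClosedMap (Points.map π) :=
    hp.2.2 (IsAlgSpace.yon_obj T) (𝟙 _) (𝟙 _) π (IsPullback.of_horiz_isIso ⟨by simp⟩)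
  let C : Set T.left := Points.schemeHomeo T ⁻¹' (Points.map π '' Oᶜ)
  have hC : IsClosed C := (hcl _ hOo.isClosed_compl).preimage (Points.schemeHomeo T).continuous
  have hCv : C = v.left '' (Set.range m.left ∩ unramSet v.left)ᶜ := by
    have key : ∀ a, Points.map π (Points.ofPt p a) = Points.schemeHomeo T (v.left a) := fun a => by
      rw [Points.ofPt_eq_map_ofScheme p a, ← Points.map_comp, ← hv]
      exact Points.map_yon_map_apply v a
    ext t
    constructor
    · rintro ⟨x, hx, ex⟩
      obtain ⟨a, rfl⟩ := hq'.surjective x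
      rw [key] at ex
      exact ⟨a, fun h => hx (hpO.ge h), (Points.schemeHomeo T).injective ex⟩
    · rintro ⟨a, ha, rfl⟩
      exact ⟨Points.ofPt p a, fun h => ha (hpO.le h), key a⟩
  refine ⟨⟨Cᶜ, hC.isOpen_compl⟩, fun {T'} g => ⟨fun hg => ?_, fun hg T'' h a b ha hb => ?_⟩,
    fun _ _ => ?_⟩
  · rintro _ ⟨t, rfl⟩ (ht : g.left t ∈ C)
    rw [hCv] at ht
    obtain ⟨a, ha, hat⟩ := ht
    obtain ⟨A', v', b, sq'⟩ := (representable_yon_map g) ((yon S).map v)
    obtain ⟨b', hb'⟩ := (yon S).map_surjective b
    subst hb'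
    have hsq : b' ≫ g = v' ≫ v :=
      (yon S).map_injective (by rw [Functor.map_comp, Functor.map_comp]; exact sq'.w)
    have sqS : IsPullback b'.left v'.left g.left v.left :=
      (IsPullback.of_map (yon S) hsq sq').map (Over.forget S)
    have hbe : (yon S).map v' ≫ p = (yon S).map v' ≫ (yon S).map v ≫ e := by
      refine hg b' _ _ ?_ ?_
      · rw [Category.assoc, ← hv, ← Functor.map_comp, hsq]
      · rw [Category.assoc, Category.assoc, he, Category.comp_id, ← Functor.map_comp, hsq]
    let l := sq.lift ((yon S).map v') ((yon S).map v' ≫ (yon S).map v) (by rw [hbe, Category.assoc])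
    obtain ⟨l', hl'⟩ := (yon S).map_surjective l
    have hlm : l' ≫ m = v' := (yon S).map_injective (by rw [Functor.map_comp, hl']; exact sq.lift_fst _ _ _)
    -- the base change of `m`
    obtain ⟨t', ht'⟩ : ∃ a' : A'.left, b'.left a' = t ∧ v'.left a' = a :=
      Scheme.exists_preimage_of_isPullback sqS t a hat.symm
    have hlm' : l'.left ≫ m.left = v'.left := congrArg (fun q => q.left) hlm
    have hbg : b'.left ≫ g.left = v'.left ≫ v.left := sqS.w
    let Pg := pullback (m.left ≫ v.left) g.left
    let r : A'.left ⟶ Pg := pullback.lift l'.left b'.left (by rw [← Category.assoc, hlm', hbg])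
    let i : Pg ⟶ A'.left := sqS.lift (pullback.snd _ _) (pullback.fst (m.left ≫ v.left) g.left ≫ m.left)
      (by rw [Category.assoc]; exact pullback.condition.symm)
    have hi : IsPullback (pullback.fst (m.left ≫ v.left) g.left) i m.left v'.left :=
      IsPullback.of_bot (h₁₁ := pullback.fst (m.left ≫ v.left) g.left) (v₁₁ := i) (v₂₁ := b'.left)
        (v₂₂ := v.left) (h₃₁ := g.left)
        (by
          have h0 := (IsPullback.of_hasPullback (m.left ≫ v.left) g.left)
          have e1 : i ≫ b'.left = pullback.snd (m.left ≫ v.left) g.left := sqS.lift_fst _ _ _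
          rw [e1]
          exact h0)
        (sqS.lift_snd _ _ _).symm sqS.flip
    have : Mono i := MorphismProperty.of_isPullback (P := MorphismProperty.monomorphisms Scheme.{u})
      hi (inferInstanceAs (Mono m.left))
    have hri : r ≫ i = 𝟙 _ := sqS.hom_ext
      (by rw [Category.assoc, sqS.lift_fst, pullback.lift_snd, Category.id_comp])
      (by rw [Category.assoc, sqS.lift_snd, pullback.lift_fst_assoc, hlm', Category.id_comp])
    have : IsIso i := ⟨r, by rw [← cancel_mono i, Category.assoc, hri, Category.id_comp,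
      Category.comp_id], hri⟩
    have : Etale b'.left := by
      have e : b'.left = r ≫ pullback.snd _ _ := (pullback.lift_snd _ _ _).symm
      rw [e, show r = inv i from (IsIso.eq_inv_of_inv_hom_id hri)]
      infer_instance
    refine ha ⟨⟨l'.left t', ?_⟩, ?_⟩
    · rw [← ht'.2, ← hlm']
      rfl
    · rw [← ht'.2, ← mem_unramSet_baseChange_iff v.left sqS.flip t']
      rw [((formallyUnramified_iff_unramSet b'.left).1 inferInstance)]
      trivial
  · let E' := hpe.rep.pullback a
    let c : E' ⟶ T'' := hpe.rep.snd a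
    obtain ⟨w, hw⟩ := (yon S).map_surjective (hpe.rep.fst a)
    have sqc : IsPullback ((yon S).map w) ((yon S).map c) p a := hw ▸ hpe.rep.isPullback a
    have hwv : w ≫ v = c ≫ h ≫ g := by
      apply (yon S).map_injective
      simp only [Functor.map_comp, hv, reassoc_of% sqc.w, ha]
    have key : ∀ {E' : Over S} (c : E' ⟶ T'') (w : E' ⟶ A), w ≫ v = c ≫ h ≫ g →
        (yon S).map w ≫ p = (yon S).map (c ≫ h ≫ g) ≫ e := by
      intro E' c w hwv
      obtain ⟨w', hw'⟩ := hOl w.left (by
        rintro _ ⟨z, rfl⟩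
        by_contra hz
        have hz' : v.left (w.left z) = g.left (h.left (c.left z)) := congrArg (fun q => q.left z) hwv
        exact hg ⟨h.left (c.left z), rfl⟩ (hCv.ge ⟨w.left z, hz, hz'⟩))
      have hw'' : w' ≫ E.hom = E'.hom := by
        rw [← Over.w m, reassoc_of% hw', Over.w]
      have e1 : (Over.homMk w' hw'' : E' ⟶ E) ≫ m = w := Over.OverMorphism.ext hw'
      rw [← hwv, ← e1, Functor.map_comp, Functor.map_comp, Category.assoc, sq.w]
      simp only [← hqm, Functor.map_comp, Category.assoc]
    suffices H : ∀ a, a ≫ π = (yon S).map (h ≫ g) → a = (yon S).map (h ≫ g) ≫ e by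
      rw [H a ha, H b hb]
    intro a ha
    obtain ⟨w, hw⟩ := (yon S).map_surjective (hpe.rep.fst a)
    let c := hpe.rep.snd a
    have sqc : IsPullback ((yon S).map w) ((yon S).map c) p a := hw ▸ hpe.rep.isPullback a
    have hwv : w ≫ v = c ≫ h ≫ g := by
      apply (yon S).map_injective
      rw [Functor.map_comp, hv, reassoc_of% sqc.w, ha, ← Functor.map_comp]
    have : Etale c.left := hpe.property_snd a
    have : Surjective c.left := hps.property a ((yon S).map w) c sqc
    have : Epi ((yon S).map c) := epi_of_repWith_fppf ((repWith_yon_map_iff _ c).2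
      ⟨⟨inferInstance, inferInstance⟩, inferInstance⟩)
    rw [← cancel_epi ((yon S).map c), ← sqc.w, key c w hwv, Functor.map_comp, Category.assoc]
  · change IsCompact Cᶜ
    have : QuasiCompact v.left := inferInstance
    have hc : IsLocallyConstructible C := by
      rw [hCv]
      exact v.left.isLocallyConstructible_image (isLocallyConstructible_compl hOc)
    exact H24Algz.isCompact_of_isConstructible (isLocallyConstructible_compl hc).isConstructible

theorem exists_triv_opens (hG : IsAlgSpace G) (hl : LocP @LocallyOfFinitePresentation π)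
    (hp : IsProperMor π) (e : (yon S).obj T ⟶ G) (he : e ≫ π = 𝟙 _) :
    ∃ V : T.left.Opens,
      (∀ {T' : Over S} (g : T' ⟶ T), TrivOver π g ↔ Set.range g.left ⊆ (V : Set T.left)) ∧
        (IsAffine T.left → IsCompact (V : Set T.left)) := by
  obtain ⟨A, p, hpe, hps⟩ := hG.atlas
  obtain ⟨V, hV, -⟩ := exists_triv_opens_chart π hG hl hp e he p hpe hps
  refine ⟨V, hV, fun hT => ?_⟩
  obtain ⟨A', p', hpe', hps', hA'⟩ := hp.2.1.2 (IsAlgSpace.yon_obj T)
    (isQuasiCompactSp_yon_iff.2 inferInstance) (𝟙 _) (𝟙 _) π (IsPullback.of_horiz_isIso ⟨by simp⟩)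
  obtain ⟨V', hV', hc⟩ := exists_triv_opens_chart π hG hl hp e he p' hpe' hps'
  suffices V = V' from this ▸ hc hA' hT
  apply TopologicalSpace.Opens.ext
  ext t
  let g : Over.mk (T.left.fromSpecResidueField t ≫ T.hom) ⟶ T :=
    Over.homMk (T.left.fromSpecResidueField t) rfl
  have hr : Set.range g.left = {t} := T.left.range_fromSpecResidueField t
  have := (hV g).symm.trans (hV' g)
  rwa [hr, Set.singleton_subset_iff, Set.singleton_subset_iff] at this

end Groth.Agent.H14IsoNat
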