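import Groth.Agent.H14IsoNat.ChartPts

/-!
# Isomorphisms of values of slices glue along coverings
-/

set_option autoImplicit false
set_option backward.isDefEq.respectTransparency false
set_option backward.isDefEq.respectTransparency.types false

universe u

open CategoryTheory CategoryTheory.Functor CategoryTheory.Limits AlgebraicGeometry

noncomputable section

namespace Groth.Agent.H14IsoNat

open H14Fib H14Stk H14AlgSt

variable {S : Scheme.{u}} {𝒵 : AlgSt.Cat S} {A Z U T T' T'' : Over S}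
  {F : FibCat.overCat Z ⥤ᵇ 𝒵} {G : FibCat.overCat U ⥤ᵇ 𝒵} {H : FibCat.overCat A ⥤ᵇ 𝒵}

/-- Composition of isomorphisms of values. -/
def VIso.trans {ζ : T ⟶ Z} {u : T ⟶ U} {w : T ⟶ A} (β : VIso F G ζ u) (γ : VIso G H u w) :
    VIso F H ζ w :=
  ⟨β.1 ≪≫ γ.1, homLift_id_comp β.2 γ.2⟩

/-- Restrictions compose. -/
lemma IsRes.vtrans {p : T' ⟶ T} {ζ : T ⟶ Z} {u : T ⟶ U} {w : T ⟶ A} {β : VIso F G ζ u}
    {γ : VIso G H u w} {ζ' : T' ⟶ Z} {u' : T' ⟶ U} {w' : T' ⟶ A} {β' : VIso F G ζ' u'}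
    {γ' : VIso G H u' w'} (h : IsRes p β β') (h' : IsRes p γ γ') :
    IsRes p (β.trans γ) (β'.trans γ') := by
  obtain ⟨a₁, a₂, e⟩ := h
  obtain ⟨b₁, b₂, e'⟩ := h'
  refine ⟨a₁, b₂, ?_⟩
  change F.map (mkHom p a₁) ≫ β.1.hom ≫ γ.1.hom = (β'.1.hom ≫ γ'.1.hom) ≫ H.map (mkHom p b₂)
  rw [reassoc_of% e, e', Category.assoc]

lemma VIso.ext' {ζ : T ⟶ Z} {u : T ⟶ U} {β γ : VIso F G ζ u} (h : β.1.hom = γ.1.hom) : β = γ :=
  Subtype.ext (Iso.ext h)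

variable (hs : Stk.IsStack (QuotSh.J Scheme.fppfPrecoverage S) 𝒵)

lemma isCov_single (e : T' ⟶ T) [Flat e.left] [LocallyOfFinitePresentation e.left]
    [Surjective e.left] :
    IsCov (fun _ : PUnit.{1} =>
      (Over.homMk e (Category.comp_id _) : Over.mk e ⟶ Over.mk (𝟙 T))) :=
  ⟨fun _ => ‹Flat e.left›, fun _ => ‹LocallyOfFinitePresentation e.left›,
    fun z => ⟨⟨⟩, e.left.surjective z⟩⟩

include hs in
/-- An isomorphism of values is determined on a covering. -/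
theorem viso_ext_of_cover (e : T' ⟶ T) [Flat e.left] [LocallyOfFinitePresentation e.left]
    [Surjective e.left] {ζ : T ⟶ Z} {u : T ⟶ U} {δ₁ δ₂ : VIso F G ζ u} {ζ' : T' ⟶ Z}
    {u' : T' ⟶ U} {δ' : VIso F G ζ' u'} (h₁ : IsRes e δ₁ δ') (h₂ : IsRes e δ₂ δ') : δ₁ = δ₂ := by
  have hg := hs.1
  obtain ⟨a₁, a₂, e₁⟩ := h₁
  obtain ⟨_, _, e₂⟩ := h₂
  have : 𝒵.p.IsHomLift (𝟙 (Over.mk (𝟙 T)).left) δ₁.1.hom := δ₁.2
  have : 𝒵.p.IsHomLift (𝟙 (Over.mk (𝟙 T)).left) δ₂.1.hom := δ₂.2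
  refine VIso.ext' (vert_ext_of_local (isPrestack_of_isStack hs) (covSieve_mem (isCov_single e))
    δ₁.1.hom δ₂.1.hom ?_)
  intro V g hg' s ψ hψ
  obtain ⟨i₀, k, rfl⟩ := hg'
  change 𝒵.p.IsHomLift (k ≫ e) ψ at hψ
  have hk : 𝒵.p.IsHomLift (k ≫ e)
      (F.map (mkHom k (rfl : k ≫ ζ' = k ≫ ζ')) ≫ F.map (mkHom e a₁)) :=
    homLift_comp' (map_mkHom_lift F k rfl) (map_mkHom_lift F e a₁)
  obtain ⟨v, -, hv⟩ := exists_vertIso hg (k ≫ e) ψ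
    (F.map (mkHom k (rfl : k ≫ ζ' = k ≫ ζ')) ≫ F.map (mkHom e a₁))
  rw [← hv]
  simp only [Category.assoc]
  rw [e₁, e₂]

include hs in
/-- An isomorphism of values is glued from a covering. -/
theorem viso_glue (e : T' ⟶ T) [Flat e.left] [LocallyOfFinitePresentation e.left]
    [Surjective e.left] {ζ : T ⟶ Z} {u : T ⟶ U} (δ' : VIso F G (e ≫ ζ) (e ≫ u))
    (h : ∀ (T'' : Over S) (n n' : T'' ⟶ T'), n ≫ e = n' ≫ e →
      ∀ (ζ'' : T'' ⟶ Z) (u'' : T'' ⟶ U) (a b : VIso F G ζ'' u''),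
        IsRes n δ' a → IsRes n' δ' b → a = b) :
    ∃ δ : VIso F G ζ u, IsRes e δ δ' := by
  have hg := hs.1
  let P := BasedFunctor.comp (AlgSt.overMap ζ) F
  let Q := BasedFunctor.comp (AlgSt.overMap u) G
  let f : PUnit.{1} → ((Over.mk e : Over T) ⟶ Over.mk (𝟙 T)) :=
    fun _ => Over.homMk e (Category.comp_id _)
  let φ : Vert P Q (Over.mk e) := ⟨δ'.1.hom, δ'.2⟩
  obtain ⟨Φ, hΦ⟩ := exists_glue hs (isCov_single e) (fun _ => φ) (fun _ _ b n n' w => by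
    -- restrict along both
    have w' : n.left ≫ e = n'.left ≫ e := congrArg CommaMorphism.left w
    have hn : n.left ≫ e = b.hom := Over.w n
    have hn' : n'.left ≫ e = b.hom := Over.w n'
    have mk : ∀ (m : b ⟶ Over.mk e),
        ∃ a : VIso F G (b.hom ≫ ζ) (b.hom ≫ u), IsRes m.left δ' a ∧
          a.1.hom = (res hg m φ).1 := by
      intro m
      have hm : m.left ≫ e = b.hom := Over.w m
      obtain ⟨a, ha⟩ := exists_res hg m.left δ' (ζ' := b.hom ≫ ζ) (u' := b.hom ≫ u)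
        (by rw [← Category.assoc, hm]) (by rw [← Category.assoc, hm])
      refine ⟨a, ha, ?_⟩
      obtain ⟨c₁, c₂, ec⟩ := ha
      refine (congrArg Subtype.val (res_eq hg m φ (ψ := ⟨a.1.hom, a.2⟩) ?_)).symm
      exact ec.symm
    obtain ⟨a, ha, ha'⟩ := mk n
    obtain ⟨b', hb, hb'⟩ := mk n'
    have hab := h b.left n.left n'.left w' _ _ a b' ha hb
    exact Subtype.ext (ha'.symm.trans ((congrArg (fun t => t.1.hom) hab).trans hb')))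
  have he : ∀ {X : Over S} (q : T ⟶ X), (𝟙 T) ≫ q = q := fun q => Category.id_comp q
  have hΦ₀ := hΦ ⟨⟩
  let i : F.obj (Over.mk (𝟙 T ≫ ζ)) ≅ F.obj (Over.mk ζ) :=
    F.toFunctor.mapIso (Over.isoMk (Iso.refl T) rfl)
  let i' : G.obj (Over.mk (𝟙 T ≫ u)) ≅ G.obj (Over.mk u) :=
    G.toFunctor.mapIso (Over.isoMk (Iso.refl T) rfl)
  have hi : 𝒵.p.IsHomLift (𝟙 T) i.hom := map_mkHom_lift F (𝟙 T) rfl
  have hi' : 𝒵.p.IsHomLift (𝟙 T) i'.hom := map_mkHom_lift G (𝟙 T) rfl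
  have hΦl : 𝒵.p.IsHomLift (𝟙 T) Φ.1 := Φ.2
  have := isIso_of_fibGrpd hg (𝟙 T) Φ.1
  refine ⟨⟨i.symm ≪≫ asIso Φ.1 ≪≫ i', homLift_id_comp
    (@IsHomLift.lift_id_inv _ _ _ _ 𝒵.p _ _ _ i hi) (homLift_id_comp hΦl hi')⟩, rfl, rfl, ?_⟩
  have hs' := res_spec hg (f ⟨⟩) Φ
  rw [show res hg (f ⟨⟩) Φ = φ from hΦ₀] at hs'
  change δ'.1.hom ≫ Q.map (f ⟨⟩) = P.map (f ⟨⟩) ≫ Φ.1 at hs'
  change F.map (mkHom e rfl) ≫ i.inv ≫ Φ.1 ≫ i'.hom = δ'.1.hom ≫ G.map (mkHom e rfl)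
  have e1 : F.map (mkHom e (rfl : e ≫ ζ = e ≫ ζ)) ≫ i.inv = P.map (f ⟨⟩) := by
    rw [Iso.comp_inv_eq]
    refine Eq.trans (congrArg F.toFunctor.map (Over.OverMorphism.ext (Category.comp_id _).symm))
      (F.toFunctor.map_comp ((Over.map ζ).map (f ⟨⟩)) _)
  have e2 : Q.map (f ⟨⟩) ≫ i'.hom = G.map (mkHom e (rfl : e ≫ u = e ≫ u)) :=
    (G.toFunctor.map_comp _ _).symm.trans
      (congrArg G.toFunctor.map (Over.OverMorphism.ext (Category.comp_id _)))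
  rw [reassoc_of% e1, ← reassoc_of% hs', e2]

end Groth.Agent.H14IsoNat
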